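import Groth.Agent.CurveCover.FamilyH0
import Groth.Agent.CurveBC.Main
import Groth.Agent.CurveVA.Vanish
import Groth.Agent.Lib.CurveAmple
import Groth.Agent.GrpOmega.Shear
import Groth.Agent.AmpleVan.RelVanish
import Groth.Agent.H28.FlatPr
import Groth.Agent.Synt29.PnEuler
import Groth.Agent.CohPullX.Semicont
import Groth.Agent.CohPullX.DegreeZero

/-!
# Invertible modules and differentials on the fibres of a smooth family of curves
-/

set_option autoImplicit false
set_option backward.isDefEq.respectTransparency false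
set_option backward.isDefEq.respectTransparency.types false
set_option linter.style.haveILetI false

universe u

open CategoryTheory CategoryTheory.Limits AlgebraicGeometry TopologicalSpace

namespace Groth.Agent.CurveCover

section Fibre

variable {k : Type u} [Field k] {X : Scheme.{u}} [X.Over (Spec (CommRingCat.of k))]
  [IsProper (X ↘ Spec (CommRingCat.of k))] [Smooth (X ↘ Spec (CommRingCat.of k))]
  [GeometricallyConnected (X ↘ Spec (CommRingCat.of k))] (hdim : topologicalKrullDim X = 1)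

include hdim

/-- `h⁰` of a power of the differentials, and the vanishing of `h¹`, for `n ≥ 2` and genus at least two. -/
theorem tensorPow_omega_invariants (hg : 2 ≤ Curv2.genus k X) {n : ℕ} (hn : 2 ≤ n) :
    Subsingleton (Coh.HH X (CohB1.tensorPow (Omega.sheaf (X ↘ Spec (CommRingCat.of k))) n) 1) ∧
      Module.finrank k (Coh.HH X (CohB1.tensorPow (Omega.sheaf (X ↘ Spec (CommRingCat.of k))) n) 0) =
        (2 * n - 1) * (Curv2.genus k X - 1) := by
  have h0 := CurveBC.finrank_h0_of_geometricallyConnected k X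
  haveI := CurveBC.isIntegral_of_h0 k X h0
  haveI := CurveCohLib.isNoetherian_of_proper (k := k) (X := X)
  have hΩ := CurveBC.isInvertible_omega k X hdim h0
  have hL : PicF.IsInvertible (CohB1.tensorPow (Omega.sheaf (X ↘ Spec (CommRingCat.of k))) n) :=
    H23.PicMul.isInvertible_tensorPow hΩ n
  have hdeg := CurveAmple.deg_tensorPow (k := k) hdim hΩ n
  rw [(CurveBC.canonical_invariants k X hdim h0).2] at hdeg
  have hbig : 2 * (Curv2.genus k X : ℤ) - 1 ≤
      Curv2.deg k X (CohB1.tensorPow (Omega.sheaf (X ↘ Spec (CommRingCat.of k))) n) 1 := by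
    rw [hdeg]
    nlinarith [show (2 : ℤ) ≤ (n : ℤ) by exact_mod_cast hn, show (2 : ℤ) ≤ (Curv2.genus k X : ℤ) by exact_mod_cast hg]
  haveI hs := CurveVA.subsingleton_h1_of_deg k hdim h0 hL hbig
  refine ⟨hs, ?_⟩
  have h2 := CurveRR.euler_eq_h0_sub_h1 k hdim.le (CurveDeg.isCoh_of_isInvertible hL).1
  have h3 := CurveRR.euler_eq_h0_sub_h1 k hdim.le (QCoh.isQCoh_structureModule (X := X))
  rw [Module.finrank_zero_of_subsingleton (R := k)
    (M := Coh.HH X (CohB1.tensorPow (Omega.sheaf (X ↘ Spec (CommRingCat.of k))) n) 1)] at h2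
  unfold Curv2.deg at hdeg
  rw [h2, h3, h0] at hdeg
  unfold Curv2.genus at hdeg hg ⊢
  obtain ⟨g, hg'⟩ : ∃ g, Module.finrank k (Coh.HH X (Coh.structureModule X) 1) = g + 1 :=
    ⟨_, (Nat.succ_pred_eq_of_pos (by omega)).symm⟩
  obtain ⟨m, rfl⟩ : ∃ m, n = m + 1 := ⟨n - 1, by omega⟩
  rw [hg'] at hdeg ⊢
  push_cast at hdeg
  rw [show g + 1 - 1 = g by omega, show 2 * (m + 1) - 1 = 2 * m + 1 by omega]
  zify
  linarith

end Fibre

theorem isFinLocFree_tensorPow {X : Scheme.{u}} {L : X.Modules} (hL : FlatMod.IsFinLocFree L) :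
    ∀ n : ℕ, FlatMod.IsFinLocFree (CohB1.tensorPow L n)
  | 0 => fun x => by
    obtain ⟨U, hx, e⟩ := InvEnd.isFinLocFreeOfRank_one (CurveDeg.isInvertible_structureModule (X := X)) x
    exact ⟨U, 1, hx, e⟩
  | n + 1 => Synt29.PnEuler.isFinLocFree_tensorMod (isFinLocFree_tensorPow hL n) hL

theorem isFinLocFree_omega_smooth {X S : Scheme.{u}} (f : X ⟶ S) [Smooth f] [QuasiSeparated f] :
    FlatMod.IsFinLocFree (Omega.sheaf f) :=
  S5018.result f ((S1488.result _).1 inferInstance).2 _ _ (OmegaUniv.isUniversal_dOmega _)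

variable {X S : Scheme.{u}} (f : X ⟶ S) [IsProper f] [Smooth f] [GeometricallyConnected f]

omit [GeometricallyConnected f] in
theorem isFP_and_flat_tensorPow_omega (n : ℕ) :
    CohB1.IsFP (CohB1.tensorPow (Omega.sheaf f) n) ∧
      FlatMod.IsFlatOver f (CohB1.tensorPow (Omega.sheaf f) n) := by
  have h : FlatMod.IsFinLocFree (CohB1.tensorPow (Omega.sheaf f) n) :=
    isFinLocFree_tensorPow (isFinLocFree_omega_smooth f) n
  exact ⟨QCoh.isFP_of_isFinLocFree h, H28.FlatPr.isFlatOver_of_isFinLocFree f h⟩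

/-- The fibre cohomology of the powers of the relative differentials. -/
theorem fiberH_tensorPow_omega (hdim : ∀ s : S, topologicalKrullDim ↥(f.fiber s) = 1) {g : ℕ} (hg : 2 ≤ g)
    (hgen : ∀ s : S, letI : (f.fiber s).Over (Spec (S.residueField s)) := ⟨f.fiberToSpecResidueField s⟩
      Curv2.genus (S.residueField s) (f.fiber s) = g) {n : ℕ} (hn : 2 ≤ n) (s : S) :
    (∀ i, 1 ≤ i → Subsingleton (CohIII.fiberH f (CohB1.tensorPow (Omega.sheaf f) n) s i)) ∧
      CohIII.fiberRank f (CohB1.tensorPow (Omega.sheaf f) n) 0 s = (2 * n - 1) * (g - 1) := by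
  let p := f.fiberToSpecResidueField s
  letI : (f.fiber s).Over (Spec (S.residueField s)) := ⟨p⟩
  haveI : IsProper p := MorphismProperty.pullback_snd _ _ inferInstance
  haveI : Smooth p := MorphismProperty.pullback_snd _ _ inferInstance
  haveI : IsProper ((f.fiber s) ↘ Spec (CommRingCat.of ↥(S.residueField s))) := ‹IsProper p›
  haveI : Smooth ((f.fiber s) ↘ Spec (CommRingCat.of ↥(S.residueField s))) := ‹Smooth p›
  haveI : GeometricallyConnected ((f.fiber s) ↘ Spec (CommRingCat.of ↥(S.residueField s))) :=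
    (inferInstance : GeometricallyConnected p)
  obtain ⟨eΩ⟩ := GrpOmega.nonempty_omega_baseChange (f := f) (g := S.fromSpecResidueField s)
    (g' := f.fiberι s) (f' := p) (IsPullback.of_hasPullback _ _)
  obtain ⟨ep⟩ := AmpleVan.RelVanish.pullback_tensorPow (f.fiberι s) (Omega.sheaf f) n
  obtain ⟨ec⟩ := AmpleVan.RelVanish.tensorPow_congr eΩ n
  let e := ep ≪≫ ec
  obtain ⟨h1, hr⟩ := tensorPow_omega_invariants (k := ↥(S.residueField s)) (hdim s) (hgen s ▸ hg) hn
  refine ⟨fun i hi => ?_, ?_⟩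
  · rcases eq_or_lt_of_le hi with rfl | hi
    · haveI : Subsingleton (Coh.HH (f.fiber s) (CohB1.tensorPow (Omega.sheaf p) n) 1) := h1
      exact (CurveCohLib.hhEquiv (k := ↥(S.residueField s)) e 1).toEquiv.subsingleton
    · exact CohPullX.subsingleton_fiberH_of_dim s 1 (by exact_mod_cast (hdim s).le) i hi
  · refine ((CurveCohLib.hhEquiv (k := ↥(S.residueField s)) e 0).finrank_eq).trans (hr.trans ?_)
    rw [hgen s]

end Groth.Agent.CurveCover
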