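import Groth.Agent.CurveEmbed.P1
import Groth.Agent.CurveEmbed.Conic
import Groth.Agent.FrobTwist.Pullback

/-! Facts about the projective line. -/

noncomputable section

set_option linter.style.haveILetI false
set_option backward.isDefEq.respectTransparency false
set_option backward.isDefEq.respectTransparency.types false
set_option autoImplicit false

universe u

open CategoryTheory CategoryTheory.Limits AlgebraicGeometry TopologicalSpace Opposite

namespace Groth.Agent.CurveCover

variable (k : Type u) [Field k]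

theorem isProper_line : IsProper ((CohB1.ProjSpace 1 k) ↘ Spec (CommRingCat.of k)) :=
  PnCoh.Chow.isProper_toSpec 1 k

theorem smooth_line : Smooth ((CohB1.ProjSpace 1 k) ↘ Spec (CommRingCat.of k)) :=
  CurveEmbed.smooth_toSpec 1 k

theorem isIntegral_line : IsIntegral (CohB1.ProjSpace 1 k) := H23.PnChart.isIntegral_projSpace 1 k

theorem dim_line : topologicalKrullDim (CohB1.ProjSpace 1 k) = 1 := by simpa using S10829.result k 1

theorem isNormal_line : Pi1.IsNormalScheme (CohB1.ProjSpace 1 k) := by
  haveI := smooth_line k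
  exact Neron6.isNormalScheme_of_smooth ((CohB1.ProjSpace 1 k) ↘ Spec (CommRingCat.of k))
    FrobTwist.isNormalScheme_Spec

theorem isInvertible_twist (d : ℤ) : PicF.IsInvertible (Twist.twistProjSpace 1 k d) :=
  PnCoh.Finite.isInvertible_twist (fun j : ULift.{u} (Fin (1 + 1)) => MvPolynomial.X j.down)
    (fun j => ProjPt.X_mem j.down) (by
      refine top_le_iff.1 ((AmpleEmbed.iSup_basicOpen_X 1 k).ge.trans (iSup_le fun j => ?_))
      exact le_iSup_of_le (ULift.up j) le_rfl) d

theorem finrank_h0_twist (d : ℕ) :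
    Module.finrank k (Coh.HH (CohB1.ProjSpace 1 k) (Twist.twistProjSpace 1 k (d : ℤ)) 0) = d + 1 := by
  obtain ⟨φ⟩ := S0843.result k 1 d
  rw [φ.finrank_eq, CurveEmbed.finrank_binary]

theorem genus_line : Curv2.genus k (CohB1.ProjSpace 1 k) = 0 := by
  haveI h : Subsingleton (Coh.HH (CohB1.ProjSpace 1 k) (Coh.structureModule (CohB1.ProjSpace 1 k)) (0 + 1)) :=
    PnCoh.subsingleton_HH_structureModule (ι := Fin (1 + 1)) (R := k) (PnCoh.isQCoh_structureModule _) 0
  exact Module.finrank_zero_of_subsingleton (R := k)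
    (M := Coh.HH (CohB1.ProjSpace 1 k) (Coh.structureModule _) (0 + 1))

theorem finrank_h0_line :
    Module.finrank k (Coh.HH (CohB1.ProjSpace 1 k) (Coh.structureModule (CohB1.ProjSpace 1 k)) 0) = 1 := by
  haveI := isProper_line k
  haveI := isIntegral_line k
  have h1 := CurveEmbed.h0_structure_dvd k (Twist.twistProjSpace 1 k ((1 : ℕ) : ℤ))
  have h2 := CurveEmbed.h0_structure_dvd k (Twist.twistProjSpace 1 k ((2 : ℕ) : ℤ))
  rw [finrank_h0_twist] at h1 h2
  exact Nat.dvd_one.1 ((Nat.dvd_add_iff_right h1).2 h2)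

theorem deg_twist_one :
    Curv2.deg k (CohB1.ProjSpace 1 k) (Twist.twistProjSpace 1 k 1) 1 = 1 := by
  haveI := isProper_line k
  haveI := isIntegral_line k
  haveI := CurveCohLib.isNoetherian_of_proper (k := k) (X := CohB1.ProjSpace 1 k)
  have hq := ProjUPX.isQCoh_of_isInvertible (isInvertible_twist k 1)
  have hg : Module.finrank k (Coh.HH (CohB1.ProjSpace 1 k) (Coh.structureModule _) 1) = 0 := genus_line k
  have hg1 : Module.finrank k (Coh.HH (CohB1.ProjSpace 1 k) (Twist.twistProjSpace 1 k 1) 1) = 0 := by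
    haveI := S0844.result k 1 (1 : ℤ) 1 (fun h => absurd h.1 one_ne_zero) (fun h => absurd h.2 (by norm_num))
    exact Module.finrank_zero_of_subsingleton
  have h0 : Module.finrank k (Coh.HH (CohB1.ProjSpace 1 k) (Twist.twistProjSpace 1 k 1) 0) = 2 :=
    finrank_h0_twist k 1
  unfold Curv2.deg
  rw [CurveRR.euler_eq_h0_sub_h1 k (dim_line k).le hq,
    CurveRR.euler_eq_h0_sub_h1 k (dim_line k).le QCoh.isQCoh_structureModule, h0, finrank_h0_line, hg, hg1]
  norm_num

end Groth.Agent.CurveCover
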