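import Groth.Agent.H26.H0Glob
import Groth.Agent.S1536
import Groth.Agent.NodeFam.Structure
import Groth.Agent.NodeFam.NodeLocal
import Groth.Agent.GrpSchLib.SmoothReduced
import Groth.Agent.CurveCohLib.Proper

/-!
# Families of curves: functions and higher direct images of the structure sheaf
-/

set_option autoImplicit false
set_option backward.isDefEq.respectTransparency false
set_option backward.isDefEq.respectTransparency.types false
set_option linter.style.haveILetI false

universe u

open CategoryTheory CategoryTheory.Limits AlgebraicGeometry TopologicalSpace TensorProduct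

namespace Groth.Agent.CurveCover

/-- A nodal curve is geometrically reduced. -/
theorem geometricallyReduced_of_nodalCurve {k : Type u} [Field k] {X : Scheme.{u}}
    (f : X ⟶ Spec (CommRingCat.of k)) [LocallyOfFiniteType f] (h : NodeFam.NodalCurve f) :
    GeometricallyReduced f := by
  refine ⟨fun L _ t Y fst snd hpb => ?_⟩
  obtain ⟨φ, rfl⟩ : ∃ φ, Spec.map φ = t := ⟨Spec.preimage t, Spec.map_preimage t⟩
  letI : Algebra k L := φ.hom.toAlgebra
  have hbc : NodeFam.NodalCurve (pullback.snd f (Spec.map φ)) := h.bc L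
  haveI : LocallyOfFiniteType (pullback.snd f (Spec.map φ)) := MorphismProperty.pullback_snd _ _ inferInstance
  haveI : ∀ x : ↥(pullback f (Spec.map φ)), _root_.IsReduced ((pullback f (Spec.map φ)).presheaf.stalk x) :=
    fun x => (hbc.reduced_gorenstein x).1
  haveI : AlgebraicGeometry.IsReduced (pullback f (Spec.map φ)) := isReduced_of_isReduced_stalk _
  exact isReduced_of_isOpenImmersion hpb.isoPullback.hom

/-- The fibres of a proper family with geometrically reduced and connected fibres have constant functions. -/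
theorem hRank_zero_eq_one_fiber {X S : Scheme.{u}} (f : X ⟶ S) [IsProper f] (s : S)
    [GeometricallyReduced (f.fiberToSpecResidueField s)]
    [GeometricallyConnected (f.fiberToSpecResidueField s)] :
    Models.hRank ↥(S.residueField s) (f.fiber s) (f.fiberToSpecResidueField s)
      (Coh.structureModule (f.fiber s)) 0 = 1 := by
  letI : (f.fiber s).Over (Spec (S.residueField s)) := ⟨f.fiberToSpecResidueField s⟩
  haveI : IsProper (f.fiberToSpecResidueField s) := MorphismProperty.pullback_snd _ _ inferInstance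
  haveI : GeometricallyReduced ((f.fiber s) ↘ Spec (CommRingCat.of ↥(S.residueField s))) :=
    ‹GeometricallyReduced (f.fiberToSpecResidueField s)›
  haveI : GeometricallyConnected ((f.fiber s) ↘ Spec (CommRingCat.of ↥(S.residueField s))) :=
    ‹GeometricallyConnected (f.fiberToSpecResidueField s)›
  haveI : IsProper ((f.fiber s) ↘ Spec (CommRingCat.of ↥(S.residueField s))) :=
    ‹IsProper (f.fiberToSpecResidueField s)›
  exact S1536.result ↥(S.residueField s) (f.fiber s)

/-- The higher direct images of the structure sheaf vanish above the dimension of the fibres. -/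
theorem isZero_Rpush_of_fibre_dim {X S : Scheme.{u}} (f : X ⟶ S) [Flat f] [IsProper f]
    [LocallyOfFinitePresentation f] [HasInjectiveResolutions X.Modules] {d q : ℕ}
    (hdim : ∀ s : S, topologicalKrullDim ↥(f.fiber s) ≤ (d : WithBot ℕ∞)) (hq : d < q) :
    IsZero ((Coh.Rpush f q).obj (Coh.structureModule X)) := by
  have hO := PnCoh.isQCoh_structureModule X
  refine CurveCohLib.isZero_of_subsingleton_stalks fun y => ?_
  let G := (Coh.Rpush f q).obj (Coh.structureModule X)
  have hG : Coh.IsQCoh G := QCoh.isQCoh_Rpush f hO q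
  obtain ⟨_, ⟨V, hV, rfl⟩, hyV, -⟩ :=
    S.isBasis_affineOpens.exists_subset_of_mem_open (Set.mem_univ y) isOpen_univ
  have hV : IsAffineOpen V := hV
  obtain ⟨A₀, _, _, ι, P, hP⟩ := H26.FibModel.exists_isModel f hV
  let x := hV.primeIdealOf ⟨y, hyV⟩
  let x₀ := PrimeSpectrum.comap ι x
  let R₀ := Localization.AtPrime x₀.asIdeal
  let R := Localization.AtPrime x.asIdeal
  -- the complex is exact at the fibre
  have hd : CohIII.dRank P (-(q : ℤ)) x₀ = 0 := by
    have h := (hP.hRank y hyV q).1
    haveI : IsProper (f.fiberToSpecResidueField y) := MorphismProperty.pullback_snd _ _ inferInstance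
    haveI : IsLocallyNoetherian (f.fiber y) :=
      LocallyOfFiniteType.isLocallyNoetherian (f.fiberToSpecResidueField y)
    haveI : CompactSpace ↥(f.fiber y) :=
      QuasiCompact.compactSpace_of_compactSpace (f.fiberToSpecResidueField y)
    haveI : IsNoetherian (f.fiber y) := {}
    haveI : (f.fiber y).IsSeparated := ⟨by
      rw [← Limits.terminal.comp_from (f.fiberToSpecResidueField y)]
      infer_instance⟩
    letI := QCoh.modHH (A := ↥(S.residueField y)) (Coh.toGlobal (A := ↥(S.residueField y))
      (f.fiberToSpecResidueField y)) (Coh.structureModule (f.fiber y)) q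
    haveI : Subsingleton (Coh.HH (f.fiber y) (Coh.structureModule (f.fiber y)) q) :=
      Snapper.subsingleton_HH_of_dim_le (d := d) (hdim y) QCoh.isQCoh_structureModule hq
    refine h.symm.trans ?_
    exact Module.finrank_zero_of_subsingleton
  let L₀ := QCoh.locCx P x₀
  have hflL := FlatCxLib.flat_bcCx_X (B := R₀) P hP.flat
  have hfinL := QCoh.finite_bcCx_X_aux P (algebraMap A₀ R₀) hP.1
  have hz : ∀ M, IsZero ((CohIII.TFun L₀ (-(q : ℤ))).obj M) :=
    (QCoh.epi_and_isZero_of_dRank hflL hfinL ((QCoh.dRank_locCx_closedPoint P x₀ _).trans hd)).2.1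
  let l : R₀ →+* R := Localization.localRingHom x₀.asIdeal x.asIdeal ι rfl
  have hl : l.comp (algebraMap A₀ R₀) = (algebraMap Γ(S, V) R).comp ι :=
    RingHom.ext fun a => Localization.localRingHom_to_map x₀.asIdeal x.asIdeal ι rfl a
  let Q := CohIII.bcCx ι P
  haveI hQ0 : Subsingleton ((QCoh.locCx Q x).homology (-(q : ℤ))) := by
    have h1 : IsZero ((CohIII.bcCx l L₀).homology (-(q : ℤ))) :=
      (H26.FibModel.isZero_T_bcCx l (A := R₀) (P := L₀) (fun M => hz M) (ModuleCat.of R R)).of_iso
        (FlatCxLib.tUnitIso (P := CohIII.bcCx l L₀) (-(q : ℤ))).symm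
    haveI : Subsingleton ((CohIII.bcCx l L₀).homology (-(q : ℤ))) := ModuleCat.subsingleton_of_isZero h1
    have e₁ := H26.FibModel.bcCompEquiv P (algebraMap A₀ R₀) l (-(q : ℤ))
    have e₂ := H26.FibModel.bcCompEquiv P ι (algebraMap Γ(S, V) R) (-(q : ℤ))
    haveI : Subsingleton ((CohIII.bcCx (l.comp (algebraMap A₀ R₀)) P).homology (-(q : ℤ))) :=
      e₁.toEquiv.subsingleton
    haveI : Subsingleton ((CohIII.bcCx ((algebraMap Γ(S, V) R).comp ι) P).homology (-(q : ℤ))) :=
      hl ▸ ‹_›
    exact e₂.symm.toEquiv.subsingleton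
  obtain ⟨eloc⟩ := QCoh.nonempty_homology_locCx Q x (-(q : ℤ))
  haveI hT : Subsingleton (R ⊗[Γ(S, V)] Q.homology (-(q : ℤ))) := eloc.symm.toEquiv.subsingleton
  -- the sections over `V`
  let U : X.Opens := f ⁻¹ᵁ V
  letI := QCoh.modHH (QCoh.rhoV f V) ((Coh.structureModule X).restrict U.ι) q
  letI := QCoh.modHH (QCoh.rhoV f V) (Coh.structureModule (U : Scheme.{u})) q
  obtain ⟨e₁⟩ := QCoh.nonempty_sections_HH (f := f) hO hV q
  let e₂ := QCoh.HHcongr (QCoh.rhoV f V) (Scheme.Modules.restrictUnitIso U.ι) q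
  have h := hP.2.2.2 Γ(S, V) (RingHom.id _) (U : Scheme.{u}) U.ι (QCoh.overSpec f hV) (by
      rw [show CommRingCat.ofHom (RingHom.id Γ(S, V)) = 𝟙 _ from rfl, Spec.map_id, Category.id_comp]
      exact QCoh.isPullback_overSpec (f := f) hV) q
  rw [QCoh.toGlobal_overSpec] at h
  obtain ⟨e₃⟩ := h
  let e : Γ(G, V) ≃ₗ[Γ(S, V)] Q.homology (-(q : ℤ)) := (e₁.trans e₂).trans e₃
  -- localise
  letI := QCoh.stalkAlg (X := S) hyV
  letI := QCoh.stalkModule G hyV
  haveI := QCoh.isScalarTower_stalk G hyV
  haveI := QCoh.isLocalizedModule_germLin hG hV hyV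
  haveI : Subsingleton (R ⊗[Γ(S, V)] Γ(G, V)) :=
    (LinearEquiv.lTensor R e).toEquiv.subsingleton
  haveI : Subsingleton (LocalizedModule x.asIdeal.primeCompl Γ(G, V)) :=
    (LocalizedModule.equivTensorProduct x.asIdeal.primeCompl Γ(G, V)).toEquiv.subsingleton
  exact (IsLocalizedModule.iso x.asIdeal.primeCompl (QCoh.germLin G hyV)).symm.toEquiv.subsingleton

/-- Constant functions on the fibres: the structure sheaf pushes forward to the structure sheaf. -/
theorem isIso_unitToPush_of_h0 {X S : Scheme.{u}} (f : X ⟶ S) [Flat f] [IsProper f] [LocallyOfFinitePresentation f]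
    (h0 : ∀ s : S, Models.hRank ↥(S.residueField s) (f.fiber s) (f.fiberToSpecResidueField s)
      (Coh.structureModule (f.fiber s)) 0 = 1) : IsIso (ClSub.unitToPush f) := by
  choose V hV hy hg using fun s => H26.FibModel.exists_functions f s (h0 s)
  let B : Set S.Opens := {W | IsAffineOpen W ∧ ∃ s, W ≤ V s}
  have hB : Opens.IsBasis B := Opens.isBasis_iff_nbhd.2 fun {U x} hx => by
    obtain ⟨_, ⟨W, hW, rfl⟩, hxW, hWU⟩ := S.isBasis_affineOpens.exists_subset_of_mem_open
      (show x ∈ ((U ⊓ V x : S.Opens) : Set S) from ⟨hx, hy x⟩) (U ⊓ V x).2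
    exact ⟨W, ⟨hW, x, fun z hz => (hWU hz).2⟩, hxW, fun z hz => (hWU hz).1⟩
  exact QCoh.isIso_of_isBasis _ hB fun W hW => by
    obtain ⟨hW, s, hs⟩ := hW
    exact H26.FibModel.bijective_app_of_functions (hg s)
      (IsPullback.of_horiz_isIso ⟨by simp⟩ : IsPullback (𝟙 X) f f (𝟙 S)) hW (by simpa using hs)

end Groth.Agent.CurveCover
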