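import Groth.Agent.CurveCover.NormGen
import Groth.Agent.NefH1.Field
import Groth.Agent.Lib.NefPull
import Groth.Agent.Lib.CurveAmple
import Groth.Agent.AmpleVan.Components
import Groth.Agent.RelTildeX.SheafCrit
import Groth.Agent.QCoh.DevissageSum

/-!
An ample invertible module on a proper scheme of dimension one with `H¹(O) = 0` is normally generated.
-/

universe u

set_option autoImplicit false
set_option backward.isDefEq.respectTransparency false
set_option backward.isDefEq.respectTransparency.types false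
set_option linter.style.haveILetI false
set_option linter.unusedSectionVars false
set_option maxHeartbeats 800000

open CategoryTheory CategoryTheory.Limits AlgebraicGeometry TopologicalSpace Opposite

noncomputable section

namespace Groth.Agent.CurveCover.AmpleH1

open Groth.Agent Groth.Agent.H23

section Local

variable {X : Scheme.{u}}

/-- Global sections which generate locally give an epimorphism. -/
theorem epi_evalSect_of_locally {K : X.Modules}
    (h : ∀ (U : X.Opens) (a : Γ(K, U)) (x : X), x ∈ U → ∃ (V : X.Opens) (i : V ≤ U), x ∈ V ∧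
      AModX.res K i a ∈ Submodule.span Γ(X, V)
        (Set.range fun z : Γ(K, ⊤) => AModX.res K (le_top : V ≤ ⊤) z)) :
    Epi (NefH1.evalSect K) := by
  refine RelTildeX.epi_of_locally _ fun U a x hx => ?_
  obtain ⟨V, i, hxV, hV⟩ := h U a x hx
  refine ⟨V, i, hxV, ?_⟩
  suffices H : ∀ b, b ∈ Submodule.span Γ(X, V)
      (Set.range fun z : Γ(K, ⊤) => AModX.res K (le_top : V ≤ ⊤) z) →
        ∃ t, (NefH1.evalSect K).app V t = b from H _ hV
  intro b hb
  induction hb using Submodule.span_induction with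
  | mem y hy =>
    obtain ⟨z, rfl⟩ := hy
    refine ⟨(Sigma.ι (fun _ : Γ(K, ⊤) => Coh.structureModule X) z).app V
      (show Γ(Coh.structureModule X, V) from (1 : Γ(X, V))), ?_⟩
    have h1 : (Sigma.ι (fun _ : Γ(K, ⊤) => Coh.structureModule X) z ≫ NefH1.evalSect K).app V
        (show Γ(Coh.structureModule X, V) from (1 : Γ(X, V))) = AModX.res K (le_top : V ≤ ⊤) z := by
      rw [Sigma.ι_desc]
      refine (InvX.app_eq_smul (InvX.ofSect z) 1).trans ?_
      rw [InvX.one_ofSect, one_smul]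
    exact h1
  | zero => exact ⟨0, map_zero _⟩
  | add y z _ _ hy hz =>
    obtain ⟨t, rfl⟩ := hy; obtain ⟨t', rfl⟩ := hz
    exact ⟨t + t', map_add _ _ _⟩
  | smul r y _ hy =>
    obtain ⟨t, rfl⟩ := hy
    exact ⟨r • t, Scheme.Modules.Hom.app_smul _ _ _⟩

lemma tmul_add_left {M N : X.Modules} {U : X.Opens} (a a' : Γ(M, U)) (b : Γ(N, U)) :
    InvX.tmul (a + a') b = InvX.tmul a b + InvX.tmul a' b := QCoh.tmS_add_left M N a a' b

variable {L A A' : X.Modules} {ι : Type u}

/-- `(a_i)_i ↦ ∑ a_i ⊗ s_i`. -/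
abbrev sumMul (A : X.Modules) (s : ι → Γ(L, ⊤)) : (∐ fun _ : ι => A) ⟶ CohB1.tensorMod A L :=
  Sigma.desc fun i => CurveAmple.mulBy A (s i)

lemma sumMul_app_ι (A : X.Modules) (s : ι → Γ(L, ⊤)) (i : ι) {V : X.Opens} (a : Γ(A, V)) :
    (sumMul A s).app V ((Sigma.ι (fun _ : ι => A) i).app V a) =
      InvX.tmul a (AModX.res L (le_top : V ≤ ⊤) (s i)) := by
  show (Sigma.ι (fun _ : ι => A) i ≫ sumMul A s).app V a = _
  rw [Sigma.ι_desc]
  exact CurveAmple.mulBy_app A (s i) a

/-- The multiplication by generating sections is an epimorphism. -/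
theorem epi_sumMul (hA : PicF.IsInvertible A) (s : ι → Γ(L, ⊤))
    (hs : ∀ x : X, ∃ i, x ∈ TrivBasic.locus (s i)) : Epi (sumMul A s) := by
  refine RelTildeX.epi_of_locally _ fun U y x hx => ?_
  obtain ⟨i, hi⟩ := hs x
  obtain ⟨W, hxW, f, hf⟩ := InvX.exists_frame hA x
  let V : X.Opens := U ⊓ (TrivBasic.locus (s i) ⊓ W)
  have hVW : V ≤ W := inf_le_right.trans inf_le_right
  have hfr : InvX.IsFrame (InvX.tmul (AModX.res A hVW f) (AModX.res L (le_top : V ≤ ⊤) (s i))) :=
    InvX.isFrame_tmul (hf.res hVW)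
      (TrivBasic.isFrame_res_of_le_locus (inf_le_right.trans inf_le_left))
  obtain ⟨g, hg⟩ := hfr.exists_coord le_rfl (AModX.res _ (inf_le_left : V ≤ U) y)
  rw [AModX.res_self, ← InvX.tmul_smul_left, ← sumMul_app_ι] at hg
  exact ⟨V, inf_le_left, ⟨hx, hi, hxW⟩, _, hg.symm⟩

/-- Every section of a finite coproduct is the sum of its components. -/
lemma exists_components [Fintype ι] {V : X.Opens} (a : Γ((∐ fun _ : ι => A), V)) :
    ∃ c : ι → Γ(A, V), a = ∑ i, (Sigma.ι (fun _ : ι => A) i).app V (c i) := by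
  classical
  let p : ι → ((∐ fun _ : ι => A) ⟶ A) := fun i => Sigma.desc fun j => if j = i then 𝟙 A else 0
  have hid : ∑ i, p i ≫ Sigma.ι (fun _ : ι => A) i = 𝟙 (∐ fun _ : ι => A) := by
    refine Sigma.hom_ext _ _ fun j => ?_
    rw [Preadditive.comp_sum, Category.comp_id, Finset.sum_eq_single j]
    · simp [p]
    · intro i _ hij
      simp [p, Ne.symm hij]
    · exact fun h => absurd (Finset.mem_univ j) h
  refine ⟨fun i => (p i).app V a, ?_⟩
  have h1 : (∑ i, p i ≫ Sigma.ι (fun _ : ι => A) i).app V a = a := by rw [hid]; rfl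
  rw [QCoh.app_sum] at h1
  exact h1.symm

variable (hA' : PicF.IsInvertible A') (hL : PicF.IsInvertible L)

include hA' hL in
/-- The commutation of two sections of an invertible module. -/
theorem tmul_swap (t : Γ(A', ⊤)) (u v : Γ(L, ⊤)) :
    InvX.tmul (InvX.tmul t u) v = InvX.tmul (InvX.tmul t v) u := by
  refine AModX.eq_of_locally _ _ fun x _ => ?_
  obtain ⟨U, hxU, f, e, hf, he⟩ := InvX.exists_frame₂ hA' hL x
  obtain ⟨g, hg⟩ := he.exists_coord le_rfl (AModX.res L (le_top : U ≤ ⊤) u)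
  obtain ⟨h, hh⟩ := he.exists_coord le_rfl (AModX.res L (le_top : U ≤ ⊤) v)
  rw [AModX.res_self] at hg hh
  refine ⟨U, le_top, hxU, ?_⟩
  simp only [InvX.res_tmul, hg, hh, InvX.tmul_smul_left, InvX.tmul_smul_right, ← mul_smul, mul_comm g h]

include hA' hL in
/-- The kernel of the multiplication by generating sections is generated by Koszul relations. -/
theorem epi_evalSect_kernel [Fintype ι] (s : ι → Γ(L, ⊤)) (hs : ∀ x : X, ∃ i, x ∈ TrivBasic.locus (s i))
    (hgen : ∀ x : X, ∃ t : Γ(A', ⊤), x ∈ TrivBasic.locus t) :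
    Epi (NefH1.evalSect (kernel (sumMul (CohB1.tensorMod A' L) s))) := by
  classical
  let A := CohB1.tensorMod A' L
  let φ := sumMul A s
  let κ := kernel.ι φ
  refine epi_evalSect_of_locally fun U a x hx => ?_
  obtain ⟨i₀, hi₀⟩ := hs x
  obtain ⟨t, ht⟩ := hgen x
  let V : X.Opens := U ⊓ (TrivBasic.locus (s i₀) ⊓ TrivBasic.locus t)
  refine ⟨V, inf_le_left, ⟨hx, hi₀, ht⟩, ?_⟩
  let z₀ := AModX.res L (le_top : V ≤ ⊤) (s i₀)
  have hz₀ : InvX.IsFrame z₀ := TrivBasic.isFrame_res_of_le_locus (inf_le_right.trans inf_le_left)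
  let f : Γ(A, V) := InvX.tmul (AModX.res A' (le_top : V ≤ ⊤) t) z₀
  have hf : InvX.IsFrame f :=
    InvX.isFrame_tmul (TrivBasic.isFrame_res_of_le_locus (inf_le_right.trans inf_le_right)) hz₀
  choose c hc using fun i => hz₀.exists_coord le_rfl (AModX.res L (le_top : V ≤ ⊤) (s i))
  obtain ⟨b, hb⟩ := exists_components (κ.app V (AModX.res _ (inf_le_left : V ≤ U) a))
  choose g hg using fun i => hf.exists_coord le_rfl (b i)
  simp only [AModX.res_self] at hc hg
  have hFf : InvX.IsFrame (InvX.tmul f z₀) := InvX.isFrame_tmul hf hz₀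
  have hsum : ∑ i, g i * c i = 0 := by
    have h0 : φ.app V (κ.app V (AModX.res _ (inf_le_left : V ≤ U) a)) = 0 :=
      congrArg (fun ψ : kernel φ ⟶ CohB1.tensorMod A L => ψ.app V (AModX.res _ (inf_le_left : V ≤ U) a))
        (kernel.condition φ)
    rw [hb, map_sum] at h0
    refine hFf.coord_unique le_rfl ?_
    rw [AModX.res_self, zero_smul, Finset.sum_smul, ← h0]
    refine Finset.sum_congr rfl fun i _ => ?_
    rw [sumMul_app_ι, hg i, hc i, InvX.tmul_smul_left, InvX.tmul_smul_right, mul_smul]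
  -- the Koszul relations
  let w : ι → Γ((∐ fun _ : ι => A), ⊤) := fun i =>
    (Sigma.ι (fun _ : ι => A) i).app ⊤ (InvX.tmul t (s i₀)) -
      (Sigma.ι (fun _ : ι => A) i₀).app ⊤ (InvX.tmul t (s i))
  have hw : ∀ i, φ.app ⊤ (w i) = 0 := fun i => by
    rw [map_sub, sumMul_app_ι, sumMul_app_ι, AModX.res_self, AModX.res_self, tmul_swap hA' hL, sub_self]
  have hlift : ∀ i, ∃ z : Γ(kernel φ, ⊤), κ.app ⊤ z = w i := fun i => by
    have h0 : InvX.ofSect (w i) ≫ φ = 0 := AmpleX.eq_zero_of_one_eq_zero _ (by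
      show φ.app ⊤ (InvX.one (InvX.ofSect (w i))) = 0
      rw [InvX.one_ofSect]
      exact hw i)
    refine ⟨InvX.one (kernel.lift φ (InvX.ofSect (w i)) h0), ?_⟩
    refine Eq.trans ?_ (InvX.one_ofSect (w i))
    exact congrArg (fun ψ : Coh.structureModule X ⟶ ∐ fun _ : ι => A => InvX.one ψ)
      (kernel.lift_ι φ _ h0)
  choose z hz using hlift
  have key : AModX.res (kernel φ) (inf_le_left : V ≤ U) a =
      ∑ i, g i • AModX.res (kernel φ) (le_top : V ≤ ⊤) (z i) := by
    refine QCoh.app_injective κ V ?_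
    rw [hb, map_sum]
    have hterm : ∀ i, κ.app V (g i • AModX.res (kernel φ) (le_top : V ≤ ⊤) (z i)) =
        (Sigma.ι (fun _ : ι => A) i).app V (b i) -
          (Sigma.ι (fun _ : ι => A) i₀).app V ((g i * c i) • f) := fun i => by
      rw [Scheme.Modules.Hom.app_smul, AModX.app_res, hz, map_sub, ← AModX.app_res, ← AModX.app_res,
        InvX.res_tmul, InvX.res_tmul, smul_sub, ← Scheme.Modules.Hom.app_smul,
        ← Scheme.Modules.Hom.app_smul, hg i, hc i, InvX.tmul_smul_right, ← mul_smul]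
    rw [Finset.sum_congr rfl fun i _ => hterm i, Finset.sum_sub_distrib, ← map_sum, ← Finset.sum_smul,
      hsum, zero_smul, map_zero, sub_zero]
  rw [key]
  exact sum_mem fun i _ => Submodule.smul_mem _ _ (Submodule.subset_span ⟨z i, rfl⟩)

end Local

section Curve

variable (k : Type u) [Field k] {X : Scheme.{u}} [X.Over (Spec (CommRingCat.of k))]
  [IsProper (X ↘ Spec (CommRingCat.of k))]

/-- An ample module has nonnegative degree on every curve. -/
theorem degAt_nonneg {L : X.Modules} (hLa : CohB1.IsAmple L) (ξ : X)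
    (hξ : topologicalKrullDim ↥(closure ({ξ} : Set X)) = 1) : 0 ≤ DegComp.degAt k L 1 ξ := by
  obtain ⟨hint, hr, -⟩ := NefPull.closure_data ξ
  haveI := hint
  let Z := (IntMult.ptIdeal ξ).subscheme
  letI : Z.Over (Spec (CommRingCat.of k)) :=
    ⟨(IntMult.ptIdeal ξ).subschemeι ≫ (X ↘ (Spec (CommRingCat.of k)))⟩
  haveI : IsProper (Z ↘ Spec (CommRingCat.of k)) :=
    inferInstanceAs (IsProper ((IntMult.ptIdeal ξ).subschemeι ≫ (X ↘ (Spec (CommRingCat.of k)))))
  haveI : CompactSpace Z := QuasiCompact.compactSpace_of_compactSpace (Z ↘ Spec (CommRingCat.of k))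
  have hd : topologicalKrullDim Z = 1 := by
    rw [IsHomeomorph.topologicalKrullDim_eq _
      (((IntMult.ptIdeal ξ).subschemeι.isEmbedding.toHomeomorph).trans (Homeomorph.setCongr hr)).isHomeomorph, hξ]
  exact (CurveAmple.deg_pos_of_ample (k := k) hd
    (AmpleVan.FiniteSurj.isAmple_pullback_of_isAffineHom (IntMult.ptIdeal ξ).subschemeι hLa)).le

variable (hdim : topologicalKrullDim X ≤ 1) (hO : Subsingleton (Coh.HH X (Coh.structureModule X) 1))
  {L : X.Modules} (hLa : CohB1.IsAmple L)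

include k hdim hO hLa in
theorem exists_mem_locus (x : X) : ∃ t : Γ(L, ⊤), x ∈ TrivBasic.locus t :=
  NefH1.exists_mem_locus k hdim hO hLa.1 (fun ξ => degAt_nonneg k hLa ξ) x

include k hdim hO hLa in
theorem exists_mem_locus_pow : ∀ (n : ℕ) (x : X), ∃ t : Γ(CohB1.tensorPow L n, ⊤), x ∈ TrivBasic.locus t
  | 0, x => ⟨(1 : Γ(X, ⊤)), TrivBasic.le_locus (U := ⊤) (by
      rw [AModX.res_self]
      exact InvX.isFrame_one ⊤) trivial⟩
  | n + 1, x => by
    obtain ⟨t, ht⟩ := exists_mem_locus_pow n x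
    obtain ⟨s, hs⟩ := exists_mem_locus k hdim hO hLa x
    refine ⟨InvX.tmul t s, TrivBasic.le_locus (U := TrivBasic.locus t ⊓ TrivBasic.locus s) ?_ ⟨ht, hs⟩⟩
    have h := InvX.isFrame_tmul (TrivBasic.isFrame_res_of_le_locus (s := t) (inf_le_left : TrivBasic.locus t ⊓ TrivBasic.locus s ≤ _))
      (TrivBasic.isFrame_res_of_le_locus (s := s) (inf_le_right : TrivBasic.locus t ⊓ TrivBasic.locus s ≤ _))
    rw [← InvX.res_tmul] at h
    exact h

include k hdim hO hLa in
/-- An ample module is normally generated. -/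
theorem normGenerated : NormGen.NormGenerated L := by
  classical
  haveI := CurveCohLib.isNoetherian_of_proper (k := k) (X := X)
  intro m hm
  obtain ⟨n, rfl⟩ := Nat.exists_eq_add_of_le' hm
  choose s₀ hs₀ using exists_mem_locus k hdim hO hLa
  obtain ⟨T₀, hT₀⟩ := isCompact_univ.elim_finite_subcover (fun x => (TrivBasic.locus (s₀ x) : Set X))
    (fun x => (TrivBasic.locus (s₀ x)).2) (fun x _ => Set.mem_iUnion.2 ⟨x, hs₀ x⟩)
  let s : T₀ → Γ(L, ⊤) := fun i => s₀ i.1
  have hs : ∀ x : X, ∃ i, x ∈ TrivBasic.locus (s i) := fun x => by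
    obtain ⟨y, hy, hxy⟩ := Set.mem_iUnion₂.1 (hT₀ (Set.mem_univ x))
    exact ⟨⟨y, hy⟩, hxy⟩
  have hA' := InvX.isInvertible_tensorPow hLa.1 n
  let A := CohB1.tensorPow L (n + 1)
  let φ := sumMul A s
  haveI : Epi φ := epi_sumMul (InvX.isInvertible_tensorPow hLa.1 (n + 1)) s hs
  haveI : Epi (NefH1.evalSect (kernel φ)) := epi_evalSect_kernel hA' hLa.1 s hs (exists_mem_locus_pow k hdim hO hLa n)
  have hq : Coh.IsQCoh (CohB1.tensorMod A L) :=
    (CurveDeg.isCoh_of_isInvertible (InvX.isInvertible_tensorPow hLa.1 (n + 2))).1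
  have hqs : Coh.IsQCoh (∐ fun _ : T₀ => A) := H23.LocFinCoprod.isQCoh_coprod fun _ =>
    (CurveDeg.isCoh_of_isInvertible (InvX.isInvertible_tensorPow hLa.1 (n + 1))).1
  have hK : Subsingleton (Coh.HH X (kernel φ) 1) :=
    RelPC17.DimOne.subsingleton_HH_one_of_epi (X ↘ Spec (CommRingCat.of k)) (NefH1.fibre_dim k hdim) hO
      (QCoh.isQCoh_kernel hqs hq φ) (NefH1.evalSect (kernel φ))
  let S : ShortComplex X.Modules := ShortComplex.mk (kernel.ι φ) φ (kernel.condition φ)
  have hS : S.ShortExact := { exact := ShortComplex.exact_of_f_is_kernel _ (kernelIsKernel φ) }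
  refine top_le_iff.1 fun z _ => ?_
  obtain ⟨a, ha⟩ := RelPC17.FibTriv.app_top_surjective hS hK z
  obtain ⟨b, hb⟩ := exists_components (show Γ((∐ fun _ : T₀ => A), ⊤) from a)
  rw [← ha, show a = _ from hb]
  change φ.app ⊤ _ ∈ _
  rw [map_sum]
  refine AddSubgroup.sum_mem _ fun i _ => AddSubgroup.subset_closure ⟨b i, s i, ?_⟩
  rw [sumMul_app_ι, AModX.res_self]
  rfl

end Curve

end Groth.Agent.CurveCover.AmpleH1
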