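import Groth.Agent.CurveTrace.Main
import Groth.Prelude.Def_ResDeg
import Mathlib.FieldTheory.Separable

/-! The residue extension at the generic point is the extension of function fields. -/

noncomputable section

set_option linter.style.haveILetI false
set_option backward.isDefEq.respectTransparency false
set_option backward.isDefEq.respectTransparency.types false
set_option autoImplicit false

universe u

open CategoryTheory CategoryTheory.Limits AlgebraicGeometry TopologicalSpace Opposite

namespace Groth.Agent.CurveCover

variable {X Y : Scheme.{u}} [IsIntegral X] [IsIntegral Y] {f : X ⟶ Y}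
  (e : f (genericPoint X) = genericPoint Y)

theorem bijective_residue_of_generic {Z : Scheme.{u}} [IsIntegral Z] {z : Z} (hz : z = genericPoint Z) :
    Function.Bijective (Z.residue z).hom := by
  subst hz
  letI : Field (Z.presheaf.stalk (genericPoint Z)) := inferInstanceAs (Field Z.functionField)
  exact ⟨(Z.residue (genericPoint Z)).hom.injective, Scheme.residue_surjective Z _⟩

/-- The function field as the residue field of the target. -/
def tgtEquiv : Y.functionField ≃+* Y.residueField (f (genericPoint X)) :=
  RingEquiv.ofBijective
    ((Y.presheaf.stalkSpecializes (specializes_of_eq e)) ≫ Y.residue (f (genericPoint X))).hom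
    ((bijective_residue_of_generic e).comp (ConcreteCategory.bijective_of_isIso
      (Y.presheaf.stalkCongr (Inseparable.of_eq e.symm)).hom))

/-- The function field as the residue field of the source. -/
def srcEquiv : X.functionField ≃+* X.residueField (genericPoint X) :=
  RingEquiv.ofBijective (X.residue (genericPoint X)).hom (bijective_residue_of_generic rfl)

theorem residueFieldMap_tgtEquiv (z : Y.functionField) :
    (f.residueFieldMap (genericPoint X)).hom (tgtEquiv e z) = srcEquiv (CurveTrace.ff e z) :=
  congr(($(Scheme.residue_residueFieldMap f (genericPoint X))).hom
    ((Y.presheaf.stalkSpecializes (specializes_of_eq e)).hom z))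

theorem residueDegree_generic :
    f.residueDegree (genericPoint X) =
      (letI := (CurveTrace.ff e).toAlgebra; Module.finrank Y.functionField X.functionField) := by
  letI := (CurveTrace.ff e).toAlgebra
  letI := (f.residueFieldMap (genericPoint X)).hom.toAlgebra
  exact (Algebra.finrank_eq_of_equiv_equiv (tgtEquiv e) srcEquiv
    (RingHom.ext fun z => residueFieldMap_tgtEquiv e z)).symm

theorem isSeparable_residue_iff :
    (letI := (f.residueFieldMap (genericPoint X)).hom.toAlgebra
     Algebra.IsSeparable (Y.residueField (f (genericPoint X))) (X.residueField (genericPoint X))) ↔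
      (letI := (CurveTrace.ff e).toAlgebra; Algebra.IsSeparable Y.functionField X.functionField) := by
  letI := (CurveTrace.ff e).toAlgebra
  letI := (f.residueFieldMap (genericPoint X)).hom.toAlgebra
  constructor
  · intro h
    haveI := h
    refine Algebra.IsSeparable.of_equiv_equiv (tgtEquiv e).symm srcEquiv.symm (RingHom.ext fun z => ?_)
    refine srcEquiv.injective ?_
    show srcEquiv (CurveTrace.ff e ((tgtEquiv e).symm z)) = srcEquiv (srcEquiv.symm _)
    rw [← residueFieldMap_tgtEquiv, RingEquiv.apply_symm_apply, RingEquiv.apply_symm_apply]
    rfl
  · intro h
    haveI := h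
    exact Algebra.IsSeparable.of_equiv_equiv (tgtEquiv e) srcEquiv
      (RingHom.ext fun z => residueFieldMap_tgtEquiv e z)

end Groth.Agent.CurveCover
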