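import Groth.Agent.CurveCover.Line
import Groth.Agent.CurveCover.Residue
import Groth.Agent.FrobTwist.Invariants
import Groth.Agent.FrobTwist.Separable
import Groth.Agent.CurveFF.Facts
import Groth.Agent.CurveBC.Main
import Groth.Agent.CurveBC.Generated
import Groth.Agent.Lib.GenLocusGG

/-! Double covers of the projective line. -/

noncomputable section

set_option linter.style.haveILetI false
set_option linter.unusedSectionVars false
set_option backward.isDefEq.respectTransparency false
set_option backward.isDefEq.respectTransparency.types false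
set_option autoImplicit false

universe u

open CategoryTheory CategoryTheory.Limits AlgebraicGeometry TopologicalSpace Opposite

namespace Groth.Agent.CurveCover

attribute [local instance] CurveBC.overBar

/-- Some member of a basis of sections generates at each point. -/
theorem exists_mem_locus_basis_of_mem (k : Type u) [Field k] {X : Scheme.{u}} [X.Over (Spec (CommRingCat.of k))]
    {L : X.Modules} (hL : PicF.IsInvertible L) {n : ℕ}
    (b : Module.Basis (Fin n) k (Coh.HH X L 0)) {z : Γ(L, ⊤)} {x : X} (hz : x ∈ H23.TrivBasic.locus z) :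
    ∃ j, x ∈ H23.TrivBasic.locus (Sheaf.H.equiv₀ (Coh.toAb L) isTerminalTop (b j) : Γ(L, ⊤)) := by
  classical
  let e := Sheaf.H.equiv₀ (Coh.toAb L) isTerminalTop
  let f := X ↘ Spec (CommRingCat.of k)
  let σ : Fin n → Γ(L, ⊤) := fun j => (e (b j) : Γ(L, ⊤))
  obtain ⟨c, hc⟩ : ∃ c : Fin n → k, z = ∑ j, f.appTop ((Scheme.ΓSpecIso (CommRingCat.of k)).inv (c j)) • σ j := by
    refine ⟨fun j => b.repr (e.symm z) j, ?_⟩
    conv_lhs => rw [← e.apply_symm_apply z, ← b.sum_repr (e.symm z)]
    refine (map_sum e _ _).trans (Finset.sum_congr rfl fun j _ => ?_)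
    refine (CurveCohLib.h0Equiv_smul L _ _).trans ?_
    refine congrArg (· • σ j) ?_
    exact ConcreteCategory.congr_hom (X.presheaf.map_id (op ⊤)) _
  subst hc
  by_contra! hne
  obtain ⟨V, hxV, fr, hfr⟩ := InvX.exists_frame hL x
  choose a ha using fun w : Γ(L, ⊤) => hfr.exists_coord le_rfl (AModX.res L (le_top : V ≤ ⊤) w)
  simp only [AModX.res_self] at ha
  have hnot : ∀ w, x ∈ H23.TrivBasic.locus w ↔ IsUnit (X.presheaf.germ V x hxV (a w)) := fun w => by
    rw [← X.mem_basicOpen _ x hxV, ← H23.TrivBasic.locus_eq_basicOpen hfr (ha w)]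
    exact ⟨fun h => ⟨h, hxV⟩, fun h => h.1⟩
  refine (IsLocalRing.mem_maximalIdeal _).1 ?_ ((hnot _).1 hz)
  have hsum : a (∑ j, f.appTop ((Scheme.ΓSpecIso (CommRingCat.of k)).inv (c j)) • σ j) =
      ∑ j, AModX.resR (le_top : V ≤ ⊤) (f.appTop ((Scheme.ΓSpecIso (CommRingCat.of k)).inv (c j))) * a (σ j) := by
    refine hfr.coord_unique le_rfl ?_
    rw [AModX.res_self, ← ha, map_sum, Finset.sum_smul]
    exact Finset.sum_congr rfl fun j _ => by rw [AModX.res_smul, ha (σ j), mul_smul]
  rw [hsum, map_sum]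
  exact Ideal.sum_mem _ fun j _ => by
    rw [map_mul]
    exact Ideal.mul_mem_left _ _ ((IsLocalRing.mem_maximalIdeal _).2 fun h => hne j ((hnot _).2 h))

theorem exists_mem_locus_basis (k : Type u) [Field k] {X : Scheme.{u}} [X.Over (Spec (CommRingCat.of k))]
    {L : X.Modules} (hL : PicF.IsInvertible L) (hgg : Curv2.IsGloballyGenerated L) {n : ℕ}
    (b : Module.Basis (Fin n) k (Coh.HH X L 0)) (x : X) :
    ∃ j, x ∈ H23.TrivBasic.locus (Sheaf.H.equiv₀ (Coh.toAb L) isTerminalTop (b j) : Γ(L, ⊤)) := by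
  obtain ⟨z, hz⟩ := GenLocusGG.exists_mem_locus hL hgg x
  exact exists_mem_locus_basis_of_mem k hL b hz

variable (k : Type u) [Field k] (X : Scheme.{u}) [X.Over (Spec (CommRingCat.of k))]
  [IsProper (X ↘ Spec (CommRingCat.of k))] [Smooth (X ↘ Spec (CommRingCat.of k))]
  (hdim : topologicalKrullDim X = 1)
  (h0 : Module.finrank k (Coh.HH X (Coh.structureModule X) 0) = 1) (hg : 1 ≤ Curv2.genus k X)

include hdim h0 hg

theorem h0_le_two {L : X.Modules} (hL : PicF.IsInvertible L) (hd : Curv2.deg k X L 1 = 2) :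
    Module.finrank k (Coh.HH X L 0) ≤ 2 := by
  obtain ⟨_, _, _, hd', _, _⟩ := CurveBC.bar_facts k X hdim h0
  haveI := quasiSeparatedSpace_of_quasiSeparated (X ↘ Spec (CommRingCat.of k))
  haveI := QuasiCompact.compactSpace_of_compactSpace (X ↘ Spec (CommRingCat.of k))
  have hpb := CurveBC.isPullback_bar k X
  have hq := ProjUPX.isQCoh_of_isInvertible hL
  have hL' := PicClLib.isInvertible_pullback (Curv2.bcFst k X (AlgebraicClosure k)) hL
  rw [← CurveBC.finrank_hh k _ _ hpb L hq 0]
  rw [← CurveBC.deg_eq k _ _ hpb L hq 1] at hd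
  rw [← CurveBC.genus_eq k _ _ hpb] at hg
  by_contra hlt
  rcases CurveCohLib.Clifford.dichotomy (AlgebraicClosure k) hd' hL' (m := 2) (by omega) with h | h <;> omega

theorem gg_of_deg_two {L : X.Modules} (hL : PicF.IsInvertible L) (hd : Curv2.deg k X L 1 = 2)
    (hh : 2 ≤ Module.finrank k (Coh.HH X L 0)) : Curv2.IsGloballyGenerated L := by
  obtain ⟨_, _, _, hd', _, _⟩ := CurveBC.bar_facts k X hdim h0
  haveI := quasiSeparatedSpace_of_quasiSeparated (X ↘ Spec (CommRingCat.of k))
  haveI := QuasiCompact.compactSpace_of_compactSpace (X ↘ Spec (CommRingCat.of k))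
  haveI := CurveCohLib.isNoetherian_of_proper (k := k) (X := X)
  haveI := CurveCohLib.isNoetherian_of_proper (k := AlgebraicClosure k) (X := Curv2.bc k X (AlgebraicClosure k))
  have hpb := CurveBC.isPullback_bar k X
  have hq := ProjUPX.isQCoh_of_isInvertible hL
  have hL' := PicClLib.isInvertible_pullback (Curv2.bcFst k X (AlgebraicClosure k)) hL
  rw [← CurveBC.finrank_hh k _ _ hpb L hq 0] at hh
  rw [← CurveBC.deg_eq k _ _ hpb L hq 1] at hd
  rw [← CurveBC.genus_eq k _ _ hpb] at hg
  refine CurveBC.isGloballyGenerated_of_pullback k _ _ hpb hq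
    (CurveCohLib.finite_HH (k := k) (CurveDeg.isCoh_of_isInvertible hL) 0)
    (CurveCohLib.finite_HH (k := AlgebraicClosure k) (CurveDeg.isCoh_of_isInvertible hL') 0)
    (CurveCohLib.PointTwist.gg_of_lt (AlgebraicClosure k) hL' hd' fun p hp => ?_)
  have hI := CurvePoint.isInvertible_ptMod p hp (AlgebraicClosure k) hd'
  have hd1 := CurveRR.deg_tensor (AlgebraicClosure k) hd' hL' hI
  rw [hd, CurvePoint.deg_ptMod p hp (AlgebraicClosure k)] at hd1
  exact lt_of_lt_of_le (Nat.lt_succ_of_le (CurveFF.h0_le_one_of_deg_one (AlgebraicClosure k) hd' hg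
    (InvX.isInvertible_tensorMod hL' hI) (hd1.trans (by norm_num)))) hh

theorem exists_pencil {L : X.Modules} (hL : PicF.IsInvertible L) (hd : Curv2.deg k X L 1 = 2)
    (hh : Module.finrank k (Coh.HH X L 0) = 2) :
    ∃ f : X ⟶ CohB1.ProjSpace 1 k, f ≫ CohB1.ProjSpace.toSpec 1 k = X ↘ Spec (CommRingCat.of k) ∧ IsFinite f ∧
      Nonempty ((Scheme.Modules.pullback f).obj (Twist.twistProjSpace 1 k 1) ≅ L) := by
  classical
  haveI := CurveBC.isIntegral_of_h0 k X h0
  haveI := CurveCohLib.isNoetherian_of_proper (k := k) (X := X)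
  haveI : JacobsonSpace X := LocallyOfFiniteType.jacobsonSpace (X ↘ Spec (CommRingCat.of k))
  haveI := CurveCohLib.finite_HH (k := k) (CurveDeg.isCoh_of_isInvertible hL) 0
  have hgg := gg_of_deg_two k X hdim h0 hg hL hd hh.ge
  let b := Module.finBasisOfFinrankEq k (Coh.HH X L 0) (hh.trans (by norm_num : (2 : ℕ) = 1 + 1))
  let e := Sheaf.H.equiv₀ (Coh.toAb L) isTerminalTop
  let σ : Fin (1 + 1) → Γ(L, ⊤) := fun j => (e (b j) : Γ(L, ⊤))
  have hcov : ∀ x : X, ∃ j, x ∈ H23.TrivBasic.locus (σ j) := fun x =>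
    exists_mem_locus_basis k hL hgg b x
  obtain ⟨f, hf, τ, -⟩ := S3572.result 1 (X ↘ Spec (CommRingCat.of k)) L hL σ
    (AVAmple.generatedBy_of_locus σ hcov)
  refine ⟨f, hf, ?_, ⟨τ⟩⟩
  haveI : IsProper (CohB1.ProjSpace.toSpec 1 k) := PnCoh.Chow.isProper_toSpec 1 k
  haveI : IsProper f := by
    haveI : IsProper (f ≫ CohB1.ProjSpace.toSpec 1 k) := hf ▸ ‹IsProper (X ↘ Spec (CommRingCat.of k))›
    exact IsProper.of_comp f (CohB1.ProjSpace.toSpec 1 k)
  haveI : LocallyQuasiFinite f := AVAmple.locallyQuasiFinite_of_closed f fun q hq =>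
    AVAmple.finite_preimage f hL (isInvertible_twist k 1) τ
      (CurveEmbed.finite_of_triv k hdim (by omega)) q hq
  exact IsFinite.of_isProper_of_locallyQuasiFinite f

omit hg in
/-- The degree of a map to the projective line. -/
theorem residueDegree_pencil [IsIntegral X] (f : X ⟶ CohB1.ProjSpace 1 k)
    (hf : f ≫ CohB1.ProjSpace.toSpec 1 k = X ↘ Spec (CommRingCat.of k)) [IsFinite f] :
    (f.residueDegree (genericPoint X) : ℤ) =
      Curv2.deg k X ((Scheme.Modules.pullback f).obj (Twist.twistProjSpace 1 k 1)) 1 := by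
  haveI := isProper_line k
  haveI := isIntegral_line k
  haveI := smooth_line k
  have e := FrobTwist.map_genericPoint_of_finite (X ↘ Spec (CommRingCat.of k))
    ((CohB1.ProjSpace 1 k) ↘ Spec (CommRingCat.of k)) f hf (hdim.trans (dim_line k).symm)
  haveI := CurveCohLib.isNoetherian_of_proper (k := k) (X := X)
  haveI := CurveCohLib.isNoetherian_of_proper (k := k) (X := CohB1.ProjSpace 1 k)
  haveI : Flat f := H23.CurveCorr.flat_of_dominant ((CohB1.ProjSpace 1 k) ↘ Spec (CommRingCat.of k)) (dim_line k).le f e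
  haveI : LocallyOfFinitePresentation (f ≫ ((CohB1.ProjSpace 1 k) ↘ Spec (CommRingCat.of k))) := by
    rw [show f ≫ ((CohB1.ProjSpace 1 k) ↘ Spec (CommRingCat.of k)) = X ↘ Spec (CommRingCat.of k) from hf]
    infer_instance
  haveI : LocallyOfFinitePresentation f :=
    AlgSpPts.locallyOfFinitePresentation_of_comp f ((CohB1.ProjSpace 1 k) ↘ Spec (CommRingCat.of k))
  rw [CurveBC.deg_pullback k f (dim_line k) hf (isInvertible_twist k 1), deg_twist_one, mul_one,
    CurveHurwitz.residueDegree_eq k hdim (dim_line k) e]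

/-- A double cover of the line by a curve of positive genus is separable. -/
theorem separable_of_degree_two [IsIntegral X] (f : X ⟶ CohB1.ProjSpace 1 k)
    (hf : f ≫ CohB1.ProjSpace.toSpec 1 k = X ↘ Spec (CommRingCat.of k)) [IsFinite f]
    (hdeg : f.residueDegree (genericPoint X) = 2) :
    letI := (f.residueFieldMap (genericPoint X)).hom.toAlgebra
    Algebra.IsSeparable ((CohB1.ProjSpace 1 k).residueField (f (genericPoint X))) (X.residueField (genericPoint X)) := by
  haveI := isProper_line k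
  haveI := isIntegral_line k
  have e := FrobTwist.map_genericPoint_of_finite (X ↘ Spec (CommRingCat.of k))
    ((CohB1.ProjSpace 1 k) ↘ Spec (CommRingCat.of k)) f hf (hdim.trans (dim_line k).symm)
  refine (isSeparable_residue_iff e).2 ?_
  rw [residueDegree_generic e] at hdeg
  letI := (CurveTrace.ff e).toAlgebra
  haveI : FiniteDimensional (CohB1.ProjSpace 1 k).functionField X.functionField :=
    Module.finite_of_finrank_pos (by omega)
  rcases Nat.prime_two.eq_one_or_self_of_dvd _
    (hdeg ▸ Field.finSepDegree_dvd_finrank (CohB1.ProjSpace 1 k).functionField X.functionField) with h1 | h2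
  · exfalso
    obtain ⟨p, hp⟩ := ExpChar.exists k
    obtain ⟨r, i, hi⟩ := FrobTwist.exists_twist p (X ↘ Spec (CommRingCat.of k))
      ((CohB1.ProjSpace 1 k) ↘ Spec (CommRingCat.of k)) hdim (dim_line k) (isNormal_line k) f hf e
      ((isPurelyInseparable_iff_finSepDegree_eq_one _ _).2 h1)
    have := (FrobTwist.smooth_and_finrank_hh_eq p r i hi).2 1
    have h0' : Curv2.genus k X = 0 := this.symm.trans (genus_line k)
    omega
  · exact (Field.finSepDegree_eq_finrank_iff _ _).1 (h2.trans hdeg.symm)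

omit [Smooth (X ↘ Spec (CommRingCat.of k))] h0 hg in
/-- A covering family of sections of a module of positive degree needs two dimensions. -/
theorem two_le_h0 [IsIntegral X] {L : X.Modules} (hL : PicF.IsInvertible L) (hd : 0 < Curv2.deg k X L 1)
    (hcov : ∀ x : X, ∃ z : Γ(L, ⊤), x ∈ H23.TrivBasic.locus z) : 2 ≤ Module.finrank k (Coh.HH X L 0) := by
  haveI := CurveCohLib.isNoetherian_of_proper (k := k) (X := X)
  haveI := CurveCohLib.finite_HH (k := k) (CurveDeg.isCoh_of_isInvertible hL) 0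
  by_contra hlt
  let b := Module.finBasis k (Coh.HH X L 0)
  have hb : ∀ x : X, ∃ j, x ∈ H23.TrivBasic.locus (Sheaf.H.equiv₀ (Coh.toAb L) isTerminalTop (b j) : Γ(L, ⊤)) :=
    fun x => by
      obtain ⟨z, hz⟩ := hcov x
      exact exists_mem_locus_basis_of_mem k hL b hz
  obtain ⟨j₀, -⟩ := hb (genericPoint X)
  have hsub : ∀ j, j = j₀ := fun j => Fin.ext (by have := j.2; have := j₀.2; omega)
  have hfr := H23.TrivBasic.locus_eq_top_iff.1 (top_le_iff.1 fun x _ => by
    obtain ⟨j, hj⟩ := hb x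
    rw [hsub j] at hj
    exact hj)
  obtain ⟨φ⟩ := H23.TrivBasic.triv_of_frame hfr
  rw [CurveRR.deg_congr k φ 1, CurveDeg.deg_structureModule] at hd
  exact lt_irrefl 0 hd

omit [IsProper (X ↘ Spec (CommRingCat.of k))] [Smooth (X ↘ Spec (CommRingCat.of k))] hdim h0 hg in
/-- The pullbacks of the coordinates generate. -/
theorem exists_mem_locus_pullback (f : X ⟶ CohB1.ProjSpace 1 k) (x : X) :
    ∃ z : Γ((Scheme.Modules.pullback f).obj (Twist.twistProjSpace 1 k 1), ⊤), x ∈ H23.TrivBasic.locus z := by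
  obtain ⟨i, hi⟩ := Opens.mem_iSup.1 ((AmpleEmbed.iSup_basicOpen_X 1 k).ge (Set.mem_univ (f x)))
  refine ⟨ProjUP.pullSec f (Twist.twistProjSpace 1 k 1) (ProjUP.coord 1 k i), ?_⟩
  exact (AmpleEmbed.preimage_chart (s := ProjUP.pullSec f (Twist.twistProjSpace 1 k 1) (ProjUP.coord 1 k i))
    f (Iso.refl _) i rfl).le hi

end Groth.Agent.CurveCover

namespace Groth.Agent.CurveCover

variable (k : Type u) [Field k] {X : Scheme.{u}} [X.Over (Spec (CommRingCat.of k))]
  [IsProper (X ↘ Spec (CommRingCat.of k))] [IsIntegral X]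

/-- A finite map to the line is flat of constant rank. -/
theorem flat_and_finrank (hdim : topologicalKrullDim X = 1) (f : X ⟶ CohB1.ProjSpace 1 k)
    (hf : f ≫ CohB1.ProjSpace.toSpec 1 k = X ↘ Spec (CommRingCat.of k)) [IsFinite f] :
    Flat f ∧ LocallyOfFinitePresentation f ∧
      ∀ y : ↥(CohB1.ProjSpace 1 k), f.finrank y = f.residueDegree (genericPoint X) := by
  haveI := isProper_line k
  haveI := isIntegral_line k
  haveI := smooth_line k
  have e := FrobTwist.map_genericPoint_of_finite (X ↘ Spec (CommRingCat.of k))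
    ((CohB1.ProjSpace 1 k) ↘ Spec (CommRingCat.of k)) f hf (hdim.trans (dim_line k).symm)
  haveI := CurveCohLib.isNoetherian_of_proper (k := k) (X := X)
  haveI := CurveCohLib.isNoetherian_of_proper (k := k) (X := CohB1.ProjSpace 1 k)
  haveI : Flat f := H23.CurveCorr.flat_of_dominant ((CohB1.ProjSpace 1 k) ↘ Spec (CommRingCat.of k)) (dim_line k).le f e
  haveI : LocallyOfFinitePresentation (f ≫ ((CohB1.ProjSpace 1 k) ↘ Spec (CommRingCat.of k))) := by
    rw [show f ≫ ((CohB1.ProjSpace 1 k) ↘ Spec (CommRingCat.of k)) = X ↘ Spec (CommRingCat.of k) from hf]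
    infer_instance
  haveI : LocallyOfFinitePresentation f :=
    AlgSpPts.locallyOfFinitePresentation_of_comp f ((CohB1.ProjSpace 1 k) ↘ Spec (CommRingCat.of k))
  refine ⟨inferInstance, inferInstance, fun y => ?_⟩
  rw [CurveHurwitz.residueDegree_eq k hdim (dim_line k) e]
  obtain ⟨U, hU, hy, ⟨l⟩⟩ := H23.CoverPush.crit_of_isFinLocFreeOfRank_push f
    (CurveBC.isFinLocFreeOfRank_push f) y
  letI := H23.CoverPush.alg f U
  haveI : Module.Free Γ(CohB1.ProjSpace 1 k, U) Γ(X, f ⁻¹ᵁ U) := Module.Free.of_equiv l.symm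
  haveI : Module.Finite Γ(CohB1.ProjSpace 1 k, U) Γ(X, f ⁻¹ᵁ U) := Module.Finite.equiv l.symm
  haveI : Nontrivial Γ(CohB1.ProjSpace 1 k, U) :=
    ((CohB1.ProjSpace 1 k).presheaf.germ U y hy).hom.domain_nontrivial
  rw [H23.CoverPush.finrank_eq f hU hy, Module.rankAtStalk_eq_finrank_of_free, Pi.natCast_apply, l.finrank_eq,
    Module.finrank_finsupp_self, Fintype.card_ulift, Fintype.card_fin]
  rfl

end Groth.Agent.CurveCover
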