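import Groth.Agent.CurveCover.DeckUniq
import Groth.Agent.CurveEmbed.Conic
import Groth.Agent.CurveLuroth.FF

/-! Uniqueness of the double cover of a curve of genus zero. -/

noncomputable section

set_option linter.style.haveILetI false
set_option linter.unusedSectionVars false
set_option backward.isDefEq.respectTransparency false
set_option backward.isDefEq.respectTransparency.types false
set_option autoImplicit false
set_option maxHeartbeats 1000000

universe u

open CategoryTheory CategoryTheory.Limits AlgebraicGeometry TopologicalSpace Opposite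

namespace Groth.Agent.CurveCover

/-- A map whose functions come from another map factors through it. -/
theorem exists_factor_of_range {S X P Q : Scheme.{u}} [S.IsSeparated] [IsIntegral X] [IsIntegral P] [IsIntegral Q]
    (sX : X ⟶ S) (sP : P ⟶ S) (sQ : Q ⟶ S) [IsProper sQ]
    (hv : ∀ y : P, ValuationRing (P.presheaf.stalk y))
    (h : X ⟶ P) (hh : h ≫ sP = sX) (eh : h (genericPoint X) = genericPoint P)
    (h' : X ⟶ Q) (hh' : h' ≫ sQ = sX) (eh' : h' (genericPoint X) = genericPoint Q)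
    (hr : ∀ c, ∃ r, CurveTrace.ff eh r = CurveTrace.ff eh' c) :
    ∃ ε : P ⟶ Q, ε ≫ sQ = sP ∧ h ≫ ε = h' := by
  choose φ hφ using hr
  have hinj := (CurveTrace.ff eh).injective
  let φ' : Q.functionField →+* P.functionField :=
    { toFun := φ
      map_one' := hinj (by rw [hφ, map_one, map_one])
      map_mul' := fun a b => hinj (by rw [hφ, map_mul, map_mul, hφ, hφ])
      map_zero' := hinj (by rw [hφ, map_zero, map_zero])
      map_add' := fun a b => hinj (by rw [hφ, map_add, map_add, hφ, hφ]) }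
  have hcomp : CommRingCat.ofHom φ' ≫ CommRingCat.ofHom (CurveTrace.ff eh) =
      CommRingCat.ofHom (CurveTrace.ff eh') := CommRingCat.hom_ext (RingHom.ext fun c => hφ c)
  let φ₀ : Spec (P.presheaf.stalk (genericPoint P)) ⟶ Q :=
    Spec.map (CommRingCat.ofHom φ') ≫ Q.fromSpecStalk (genericPoint Q)
  have key : Spec.map (CommRingCat.ofHom (CurveTrace.ff eh)) ≫ φ₀ = X.fromSpecStalk (genericPoint X) ≫ h' := by
    refine Eq.trans ?_ (fromSpecStalk_ff eh')
    rw [← hcomp, Spec.map_comp, Category.assoc]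
  haveI : Flat (Spec.map (CommRingCat.ofHom (CurveTrace.ff eh))) := by
    letI : Field (P.presheaf.stalk (genericPoint P)) := inferInstanceAs (Field P.functionField)
    letI : Field (X.presheaf.stalk (genericPoint X)) := inferInstanceAs (Field X.functionField)
    letI := (CurveTrace.ff eh).toAlgebra
    exact Flat.SpecMap_iff.2 (RingHom.flat_algebraMap_iff.2 (inferInstance : Module.Flat P.functionField X.functionField))
  haveI : Surjective (Spec.map (CommRingCat.ofHom (CurveTrace.ff eh))) := by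
    letI : Field (P.presheaf.stalk (genericPoint P)) := inferInstanceAs (Field P.functionField)
    letI : Field (X.presheaf.stalk (genericPoint X)) := inferInstanceAs (Field X.functionField)
    haveI : Subsingleton (Spec (CommRingCat.of P.functionField)) :=
      inferInstanceAs (Subsingleton (PrimeSpectrum P.functionField))
    haveI : Nonempty (Spec (CommRingCat.of X.functionField)) :=
      inferInstanceAs (Nonempty (PrimeSpectrum X.functionField))
    exact ⟨fun y => ⟨Classical.arbitrary _, Subsingleton.elim _ _⟩⟩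
  have h₀ : φ₀ ≫ sQ = P.fromSpecStalk _ ≫ sP := by
    refine (cancel_epi (Spec.map (CommRingCat.ofHom (CurveTrace.ff eh)))).1 ?_
    rw [reassoc_of% key, hh', reassoc_of% fromSpecStalk_ff eh, hh]
  haveI : Q.IsSeparated := ⟨by rw [← Limits.terminal.comp_from sQ]; infer_instance⟩
  obtain ⟨W, hW, H, hsub, hH, hH'⟩ := H23.RatExtend.extend sP sQ φ₀ h₀ Set.univ
    fun p _ => H23.RatExtend.exists_lift sP sQ φ₀ h₀ p (hv p)
  haveI : IsIso W.ι := by
    have : Surjective W.ι := ⟨fun y => ⟨⟨y, hsub trivial⟩, rfl⟩⟩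
    exact (isIso_iff_isOpenImmersion_and_surjective _).2 ⟨inferInstance, this⟩
  refine ⟨inv W.ι ≫ H, by rw [Category.assoc, hH, IsIso.inv_hom_id_assoc], ?_⟩
  haveI := H23.RatExtend.isDominant_fromSpecStalk (X := X)
  refine ext_of_isDominant (X.fromSpecStalk (genericPoint X)) ?_
  rw [← key, ← reassoc_of% fromSpecStalk_ff eh, ← hH', ← Scheme.Opens.fromSpecStalkOfMem_ι W (genericPoint P) hW,
    Category.assoc, IsIso.hom_inv_id_assoc]

section Line

attribute [local instance] CurveFF.ffAlg isIntegral_line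

variable (k : Type u) [Field k] [IsAlgClosed k] {X : Scheme.{u}} [X.Over (Spec (CommRingCat.of k))] [IsIntegral X]
  [IsProper (X ↘ Spec (CommRingCat.of k))] [Smooth (X ↘ Spec (CommRingCat.of k))]

theorem valuationRing_line (y : CohB1.ProjSpace 1 k) : ValuationRing ((CohB1.ProjSpace 1 k).presheaf.stalk y) := by
  haveI := isProper_line k
  haveI := smooth_line k
  refine CurveLuroth.valuationRing_stalk (k := k) (dim_line k) (fun x hx => ?_) y
  exact CurveEmbed.isIntegrallyClosed_of_smooth k (dim_line k) hx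
    ((Scheme.Hom.smoothLocus_eq_top (f := (CohB1.ProjSpace 1 k) ↘ Spec (CommRingCat.of k))).ge (Set.mem_univ x))

/-- Two double covers of the line by a curve of genus at least two differ by an automorphism. -/
theorem exists_factor_line (hdim : topologicalKrullDim X = 1) (hg : 2 ≤ Curv2.genus k X)
    (h : X ⟶ CohB1.ProjSpace 1 k) (hh : h ≫ CohB1.ProjSpace.toSpec 1 k = X ↘ Spec (CommRingCat.of k))
    [IsFinite h] (hr : ∀ y : ↥(CohB1.ProjSpace 1 k), h.finrank y = 2)
    (h' : X ⟶ CohB1.ProjSpace 1 k) (hh' : h' ≫ CohB1.ProjSpace.toSpec 1 k = X ↘ Spec (CommRingCat.of k))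
    [IsFinite h'] (hr' : ∀ y : ↥(CohB1.ProjSpace 1 k), h'.finrank y = 2) :
    ∃ ε : CohB1.ProjSpace 1 k ⟶ CohB1.ProjSpace 1 k, h ≫ ε = h' := by
  haveI : IsProper (CohB1.ProjSpace.toSpec 1 k) := PnCoh.Chow.isProper_toSpec 1 k
  have hF := finrank_adjoin k h hh hdim (residueDegree_eq_two k h hh hdim hr)
  have hF' := finrank_adjoin k h' hh' hdim (residueDegree_eq_two k h' hh' hdim hr')
  have hsub := FFLib.rational_subfield_unique (CurveFF.isFunctionField k X hdim)
    (by rw [CurveFF.genus_eq k hdim]; exact hg) _ _ hF hF'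
  obtain ⟨ε, -, hε⟩ := exists_factor_of_range (X ↘ Spec (CommRingCat.of k)) (CohB1.ProjSpace.toSpec 1 k)
    (CohB1.ProjSpace.toSpec 1 k) (valuationRing_line k) h hh (map_gen k h hh hdim) h' hh' (map_gen k h' hh' hdim)
    fun c => exists_ff_eq k h hh hdim _ (hsub.ge (ff_mem_adjoin k h' hh' hdim c))
  exact ⟨ε, hε⟩

end Line

section Bar

attribute [local instance] CurveBC.overBar

variable (k : Type u) [Field k]

local notation "K" => AlgebraicClosure k

/-- A geometrically connected curve of genus zero becomes the line over the algebraic closure. -/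
theorem exists_bar_iso_line (P : Scheme.{u}) [P.Over (Spec (CommRingCat.of k))] [IsProper (P ↘ Spec (CommRingCat.of k))]
    [Smooth (P ↘ Spec (CommRingCat.of k))] [GeometricallyConnected (P ↘ Spec (CommRingCat.of k))]
    (hdim : topologicalKrullDim P = 1) (hg : Curv2.genus k P = 0) :
    ∃ e : Curv2.bc k P K ≅ CohB1.ProjSpace 1 K, e.hom ≫ CohB1.ProjSpace.toSpec 1 K = Curv2.bcSnd k P K := by
  obtain ⟨_, _, _, hd, _, _⟩ := CurveBC.bar_facts k P hdim (CurveBC.finrank_h0_of_geometricallyConnected k P)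
  let P' := Curv2.bc k P K
  haveI := quasiSeparatedSpace_of_quasiSeparated (P ↘ Spec (CommRingCat.of k))
  haveI := QuasiCompact.compactSpace_of_compactSpace (P ↘ Spec (CommRingCat.of k))
  haveI := CurveCohLib.isNoetherian_of_proper (k := K) (X := P')
  haveI := CurveCohLib.finite_HH (k := K) (X := P') (M := Coh.structureModule P') QCoh.isCoh_structureModule' 1
  have h1 : Subsingleton (Coh.HH P' (Coh.structureModule P') 1) := by
    refine (Module.finrank_zero_iff (R := K)).1 ?_
    exact (CurveBC.genus_eq k K _ (CurveBC.isPullback_bar k P)).trans hg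
  haveI : JacobsonSpace P' := LocallyOfFiniteType.jacobsonSpace (P' ↘ Spec (CommRingCat.of K))
  obtain ⟨x, -, hx⟩ := nonempty_inter_closedPoints (X := P') (Z := Set.univ) Set.univ_nonempty
    isClosed_univ.isLocallyClosed
  obtain ⟨e, he⟩ := CurveEmbed.exists_iso_line_of_point K hd h1 hx
    ((Scheme.Hom.smoothLocus_eq_top (f := P' ↘ Spec (CommRingCat.of K))).ge (Set.mem_univ x))
    (CurveSection.surjective_resMap K hx)
  exact ⟨e, he⟩

variable {C : Scheme.{u}} [C.Over (Spec (CommRingCat.of k))] [IsProper (C ↘ Spec (CommRingCat.of k))]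
  [Smooth (C ↘ Spec (CommRingCat.of k))] [GeometricallyConnected (C ↘ Spec (CommRingCat.of k))]

/-- A double cover of a curve of genus zero becomes a double cover of the line over the closure. -/
theorem exists_bar_cover {P : Scheme.{u}} [P.Over (Spec (CommRingCat.of k))] [IsProper (P ↘ Spec (CommRingCat.of k))]
    [Smooth (P ↘ Spec (CommRingCat.of k))] [GeometricallyConnected (P ↘ Spec (CommRingCat.of k))]
    (hdim : topologicalKrullDim P = 1) (hg : Curv2.genus k P = 0)
    (f : C ⟶ P) (hf : f ≫ (P ↘ Spec (CommRingCat.of k)) = C ↘ Spec (CommRingCat.of k))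
    [IsFinite f] [Flat f] (hr : ∀ y : P, f.finrank y = 2) :
    ∃ (h : Curv2.bc k C K ⟶ CohB1.ProjSpace 1 K) (b : CohB1.ProjSpace 1 K ⟶ P),
      h ≫ CohB1.ProjSpace.toSpec 1 K = Curv2.bcSnd k C K ∧ IsFinite h ∧
        (∀ y : ↥(CohB1.ProjSpace 1 K), h.finrank y = 2) ∧ h ≫ b = Curv2.bcFst k C K ≫ f ∧
        IsPullback (Curv2.bcFst k C K) h f b := by
  obtain ⟨e, he⟩ := exists_bar_iso_line k P hdim hg
  let fb : Curv2.bc k C K ⟶ Curv2.bc k P K :=
    pullback.lift (Curv2.bcFst k C K ≫ f) (Curv2.bcSnd k C K) (by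
      rw [Category.assoc, hf]; exact pullback.condition)
  have hpb : IsPullback (Curv2.bcFst k C K) fb f (Curv2.bcFst k P K) := by
    refine IsPullback.of_bot ?_ (pullback.lift_fst _ _ _).symm (CurveBC.isPullback_bar k P)
    rw [hf, show fb ≫ (Curv2.bc k P K ↘ Spec (CommRingCat.of K)) = Curv2.bcSnd k C K from pullback.lift_snd _ _ _]
    exact CurveBC.isPullback_bar k C
  have hpb' : IsPullback (Curv2.bcFst k C K) (fb ≫ e.hom) f (e.inv ≫ Curv2.bcFst k P K) :=
    hpb.of_iso (Iso.refl _) (Iso.refl _) e (Iso.refl _) (by simp) (by simp) (by simp) (by simp)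
  refine ⟨fb ≫ e.hom, e.inv ≫ Curv2.bcFst k P K, ?_, MorphismProperty.of_isPullback hpb' ‹IsFinite f›,
    fun y => ?_, hpb'.w.symm, hpb'⟩
  · rw [Category.assoc, he]
    exact pullback.lift_snd _ _ _
  · rw [Scheme.Hom.finrank_of_isPullback _ _ _ _ hpb']
    exact hr _

/-- The factorisation between two double covers of curves of genus zero. -/
theorem exists_factor_conic (hdim : topologicalKrullDim C = 1) (hg : 2 ≤ Curv2.genus k C)
    {P₁ P₂ : Scheme.{u}} [P₁.Over (Spec (CommRingCat.of k))] [P₂.Over (Spec (CommRingCat.of k))]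
    [IsProper (P₁ ↘ Spec (CommRingCat.of k))] [Smooth (P₁ ↘ Spec (CommRingCat.of k))]
    [GeometricallyConnected (P₁ ↘ Spec (CommRingCat.of k))]
    [IsProper (P₂ ↘ Spec (CommRingCat.of k))] [Smooth (P₂ ↘ Spec (CommRingCat.of k))]
    [GeometricallyConnected (P₂ ↘ Spec (CommRingCat.of k))]
    (hP₁ : topologicalKrullDim P₁ = 1) (hg₁ : Curv2.genus k P₁ = 0)
    (hP₂ : topologicalKrullDim P₂ = 1) (hg₂ : Curv2.genus k P₂ = 0)
    (f₁ : C ⟶ P₁) (hf₁ : f₁ ≫ (P₁ ↘ Spec (CommRingCat.of k)) = C ↘ Spec (CommRingCat.of k))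
    [IsFinite f₁] [Flat f₁] (hr₁ : ∀ y : P₁, f₁.finrank y = 2)
    (f₂ : C ⟶ P₂) (hf₂ : f₂ ≫ (P₂ ↘ Spec (CommRingCat.of k)) = C ↘ Spec (CommRingCat.of k))
    [IsFinite f₂] [Flat f₂] (hr₂ : ∀ y : P₂, f₂.finrank y = 2) :
    ∃ ε : P₁ ⟶ P₂, ε ≫ (P₂ ↘ Spec (CommRingCat.of k)) = P₁ ↘ Spec (CommRingCat.of k) ∧ f₁ ≫ ε = f₂ := by
  obtain ⟨_, _, _, hd, _, _⟩ := CurveBC.bar_facts k C hdim (CurveBC.finrank_h0_of_geometricallyConnected k C)
  have hg' : 2 ≤ Curv2.genus K (Curv2.bc k C K) := by
    haveI := quasiSeparatedSpace_of_quasiSeparated (C ↘ Spec (CommRingCat.of k))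
    haveI := QuasiCompact.compactSpace_of_compactSpace (C ↘ Spec (CommRingCat.of k))
    rw [CurveBC.genus_eq k K _ (CurveBC.isPullback_bar k C)]
    exact hg
  obtain ⟨h₁, b₁, hh₁, _, hh₁r, hb₁, hpb₁⟩ := exists_bar_cover k hP₁ hg₁ f₁ hf₁ hr₁
  obtain ⟨h₂, b₂, hh₂, _, hh₂r, hb₂, -⟩ := exists_bar_cover k hP₂ hg₂ f₂ hf₂ hr₂
  obtain ⟨ε', hε'⟩ := exists_factor_line K hd hg' h₁ hh₁ hh₁r h₂ hh₂ hh₂r
  haveI : Surjective f₁ := (Scheme.Hom.one_le_finrank_iff_surjective f₁).1 fun y => by
    rw [hr₁ y]; exact one_le_two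
  -- the two projections agree after composing with the second cover
  have hagree : pullback.fst f₁ f₁ ≫ f₂ = pullback.snd f₁ f₁ ≫ f₂ := by
    let R := pullback f₁ f₁
    let r : R ⟶ C := pullback.fst f₁ f₁
    let s : R ⟶ C := pullback.snd f₁ f₁
    let π := Curv2.bcFst k C K
    haveI : Flat π := ‹Flat (Curv2.bcFst k C K)›
    haveI : Surjective π := ‹Surjective (Curv2.bcFst k C K)›
    haveI : QuasiCompact π := by
      haveI : QuasiCompact (Spec.map (CommRingCat.ofHom (algebraMap k K))) := inferInstance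
      exact MorphismProperty.of_isPullback (CurveBC.isPullback_bar k C).flip this
    let T := pullback π r
    let q : T ⟶ R := pullback.snd π r
    let r' : T ⟶ Curv2.bc k C K := pullback.fst π r
    let s' : T ⟶ Curv2.bc k C K := hpb₁.lift (q ≫ s) (r' ≫ h₁) (by
      rw [Category.assoc, Category.assoc, ← pullback.condition, ← reassoc_of% pullback.condition (f := π) (g := r),
        hb₁])
    have hs1 : s' ≫ π = q ≫ s := hpb₁.lift_fst _ _ _
    have hs2 : s' ≫ h₁ = r' ≫ h₁ := hpb₁.lift_snd _ _ _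
    refine (cancel_epi q).1 ?_
    have hr1 : q ≫ r = r' ≫ π := pullback.condition.symm
    calc q ≫ r ≫ f₂ = r' ≫ π ≫ f₂ := by rw [← Category.assoc, hr1, Category.assoc]
      _ = r' ≫ h₁ ≫ ε' ≫ b₂ := by rw [← hb₂, ← hε', Category.assoc]
      _ = s' ≫ h₁ ≫ ε' ≫ b₂ := by rw [← Category.assoc, ← hs2, Category.assoc]
      _ = s' ≫ π ≫ f₂ := by rw [← hb₂, ← hε', Category.assoc]
      _ = q ≫ s ≫ f₂ := by rw [← Category.assoc, hs1, Category.assoc]
  let hs := EffectiveEpi.desc f₁ f₂ fun {W} g₁ g₂ hg => by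
    have h1 := congrArg (fun z => pullback.lift g₁ g₂ hg ≫ z) hagree
    simpa using h1
  refine ⟨hs, ?_, EffectiveEpi.fac _ _ _⟩
  refine (cancel_epi f₁).1 ?_
  rw [← Category.assoc, EffectiveEpi.fac, hf₁, hf₂]

end Bar

end Groth.Agent.CurveCover
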