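import Groth.Agent.CurveCover.FamilyFibre
import Groth.Agent.CurveVA.Main
import Groth.Agent.SeesawX.PnSpec
import Groth.Agent.CurveCohLib.SmoothCurve
import Mathlib.AlgebraicGeometry.Geometrically.Integral

/-!
# Very ampleness on smooth geometrically connected curves over a field, and on the fibres of families
-/

set_option autoImplicit false
set_option backward.isDefEq.respectTransparency false
set_option backward.isDefEq.respectTransparency.types false
set_option linter.style.haveILetI false

universe u

open CategoryTheory CategoryTheory.Limits AlgebraicGeometry TopologicalSpace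

namespace Groth.Agent.CurveCover

/-- Smooth geometrically connected proper schemes over a field are geometrically integral. -/
theorem geometricallyIntegral_of_smooth_connected {k : Type u} [Field k] {X : Scheme.{u}}
    (f : X ⟶ Spec (CommRingCat.of k)) [IsProper f] [Smooth f] [GeometricallyConnected f] :
    GeometricallyIntegral f := by
  refine ⟨fun L _ t Y fst snd hpb => ?_⟩
  haveI : IsProper snd := MorphismProperty.of_isPullback hpb ‹IsProper f›
  haveI : Smooth snd := MorphismProperty.of_isPullback hpb ‹Smooth f›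
  haveI : ConnectedSpace Y :=
    GeometricallyConnected.geometrically_connectedSpace (f := f) _ _ _ hpb
  haveI : CompactSpace Y := QuasiCompact.compactSpace_of_compactSpace snd
  exact CurveCohLib.isIntegral_of_smooth_connected (k := L) snd

/-- An embedding into `P^n_k` is an embedding into `P^n` over `Spec k`. -/
theorem isRelVeryAmplePn_of_embedding {k : Type u} [CommRing k] {X : Scheme.{u}}
    {f : X ⟶ Spec (CommRingCat.of k)} {L : X.Modules} {n : ℕ} {i : X ⟶ CohB1.ProjSpace n k}
    (hi : IsClosedImmersion i) (hc : i ≫ CohB1.ProjSpace.toSpec n k = f)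
    (e : (Scheme.Modules.pullback i).obj (Twist.twistProjSpace n k 1) ≅ L) :
    RelAmple.IsRelVeryAmplePn f L := by
  obtain ⟨a, ha, ⟨τ⟩⟩ := SeesawX.PnSpec.exists_iso n k
  refine ⟨n, i ≫ a.inv, inferInstance, ?_, ⟨?_⟩⟩
  · show (i ≫ a.inv) ≫ CohB1.ProjSpaceOver.toBase n (Spec (CommRingCat.of k)) = f
    rw [← ha, Category.assoc, Iso.inv_hom_id_assoc, hc]
  · exact e.symm ≪≫ (Scheme.Modules.pullbackCongr
      (show i = (i ≫ a.inv) ≫ a.hom by simp)).app _ ≪≫
      ((Scheme.Modules.pullbackComp (i ≫ a.inv) a.hom).app _).symm ≪≫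
      (Scheme.Modules.pullback (i ≫ a.inv)).mapIso τ

section Field

variable (k : Type u) [Field k] (X : Scheme.{u}) [X.Over (Spec (CommRingCat.of k))]
  [IsProper (X ↘ Spec (CommRingCat.of k))] [Smooth (X ↘ Spec (CommRingCat.of k))]
  [GeometricallyConnected (X ↘ Spec (CommRingCat.of k))]

/-- Invertible modules of degree at least `2g + 1` are very ample and nonspecial. -/
theorem veryAmplePn_of_deg (hdim : topologicalKrullDim X = 1) {L : X.Modules} (hL : PicF.IsInvertible L)
    (hdeg : 2 * (Curv2.genus k X : ℤ) + 1 ≤ Curv2.deg k X L 1) :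
    RelAmple.IsRelVeryAmplePn (X ↘ Spec (CommRingCat.of k)) L ∧ Subsingleton (Coh.HH X L 1) := by
  have h0 := CurveBC.finrank_h0_of_geometricallyConnected k X
  haveI := CurveBC.isIntegral_of_h0 k X h0
  haveI := geometricallyIntegral_of_smooth_connected (X ↘ Spec (CommRingCat.of k))
  obtain ⟨n, i, hi, hc, ⟨e⟩⟩ := CurveVA.exists_embedding k X hdim h0 hL hdeg
  exact ⟨isRelVeryAmplePn_of_embedding hi hc e,
    CurveVA.subsingleton_h1_of_deg k hdim h0 hL (by omega)⟩

/-- The pluricanonical modules are very ample from the third power on, for genus at least two. -/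
theorem veryAmplePn_tensorPow_omega (hdim : topologicalKrullDim X = 1) (hg : 2 ≤ Curv2.genus k X)
    {n : ℕ} (hn : 3 ≤ n) :
    RelAmple.IsRelVeryAmplePn (X ↘ Spec (CommRingCat.of k))
        (CohB1.tensorPow (Omega.sheaf (X ↘ Spec (CommRingCat.of k))) n) ∧
      Subsingleton (Coh.HH X (CohB1.tensorPow (Omega.sheaf (X ↘ Spec (CommRingCat.of k))) n) 1) := by
  have h0 := CurveBC.finrank_h0_of_geometricallyConnected k X
  haveI := CurveBC.isIntegral_of_h0 k X h0
  haveI := CurveCohLib.isNoetherian_of_proper (k := k) (X := X)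
  have hΩ := CurveBC.isInvertible_omega k X hdim h0
  refine veryAmplePn_of_deg k X hdim (H23.PicMul.isInvertible_tensorPow hΩ n) ?_
  rw [CurveAmple.deg_tensorPow (k := k) hdim hΩ n, (CurveBC.canonical_invariants k X hdim h0).2]
  nlinarith [show (3 : ℤ) ≤ (n : ℤ) by exact_mod_cast hn,
    show (2 : ℤ) ≤ (Curv2.genus k X : ℤ) by exact_mod_cast hg]

end Field

section Family

variable {X S : Scheme.{u}} (f : X ⟶ S) [IsProper f] [Smooth f] [GeometricallyConnected f]

/-- Fibrewise very ampleness and vanishing for modules of large fibre degree. -/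
theorem fibre_veryAmplePn_of_deg (hdim : ∀ s : S, topologicalKrullDim ↥(f.fiber s) = 1)
    {L : X.Modules} (hL : PicF.IsInvertible L) (s : S)
    (hdeg : letI : (f.fiber s).Over (Spec (S.residueField s)) := ⟨f.fiberToSpecResidueField s⟩
      2 * (Curv2.genus (S.residueField s) (f.fiber s) : ℤ) + 1 ≤
        Curv2.deg (S.residueField s) (f.fiber s) ((Scheme.Modules.pullback (f.fiberι s)).obj L) 1) :
    RelAmple.IsRelVeryAmplePn (f.fiberToSpecResidueField s) ((Scheme.Modules.pullback (f.fiberι s)).obj L) ∧
      Subsingleton (Coh.HH (f.fiber s) ((Scheme.Modules.pullback (f.fiberι s)).obj L) 1) := by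
  let p := f.fiberToSpecResidueField s
  letI : (f.fiber s).Over (Spec (S.residueField s)) := ⟨p⟩
  haveI : IsProper p := MorphismProperty.pullback_snd _ _ inferInstance
  haveI : Smooth p := MorphismProperty.pullback_snd _ _ inferInstance
  haveI : IsProper ((f.fiber s) ↘ Spec (CommRingCat.of ↥(S.residueField s))) := ‹IsProper p›
  haveI : Smooth ((f.fiber s) ↘ Spec (CommRingCat.of ↥(S.residueField s))) := ‹Smooth p›
  haveI : GeometricallyConnected ((f.fiber s) ↘ Spec (CommRingCat.of ↥(S.residueField s))) :=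
    (inferInstance : GeometricallyConnected p)
  exact veryAmplePn_of_deg ↥(S.residueField s) (f.fiber s) (hdim s) (PicClLib.isInvertible_pullback _ hL) hdeg

/-- Fibrewise very ampleness and vanishing for the pluricanonical modules. -/
theorem fibre_veryAmplePn_tensorPow_omega (hdim : ∀ s : S, topologicalKrullDim ↥(f.fiber s) = 1)
    (s : S) (hg : letI : (f.fiber s).Over (Spec (S.residueField s)) := ⟨f.fiberToSpecResidueField s⟩
      2 ≤ Curv2.genus (S.residueField s) (f.fiber s)) {n : ℕ} (hn : 3 ≤ n) :
    RelAmple.IsRelVeryAmplePn (f.fiberToSpecResidueField s)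
        ((Scheme.Modules.pullback (f.fiberι s)).obj (CohB1.tensorPow (Omega.sheaf f) n)) ∧
      Subsingleton (Coh.HH (f.fiber s)
        ((Scheme.Modules.pullback (f.fiberι s)).obj (CohB1.tensorPow (Omega.sheaf f) n)) 1) := by
  let p := f.fiberToSpecResidueField s
  letI : (f.fiber s).Over (Spec (S.residueField s)) := ⟨p⟩
  haveI : IsProper p := MorphismProperty.pullback_snd _ _ inferInstance
  haveI : Smooth p := MorphismProperty.pullback_snd _ _ inferInstance
  haveI : IsProper ((f.fiber s) ↘ Spec (CommRingCat.of ↥(S.residueField s))) := ‹IsProper p›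
  haveI : Smooth ((f.fiber s) ↘ Spec (CommRingCat.of ↥(S.residueField s))) := ‹Smooth p›
  haveI : GeometricallyConnected ((f.fiber s) ↘ Spec (CommRingCat.of ↥(S.residueField s))) :=
    (inferInstance : GeometricallyConnected p)
  obtain ⟨eΩ⟩ := GrpOmega.nonempty_omega_baseChange (f := f) (g := S.fromSpecResidueField s)
    (g' := f.fiberι s) (f' := p) (IsPullback.of_hasPullback _ _)
  obtain ⟨ep⟩ := AmpleVan.RelVanish.pullback_tensorPow (f.fiberι s) (Omega.sheaf f) n
  obtain ⟨ec⟩ := AmpleVan.RelVanish.tensorPow_congr eΩ n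
  obtain ⟨h1, h2⟩ := veryAmplePn_tensorPow_omega ↥(S.residueField s) (f.fiber s) (hdim s) hg hn
  refine ⟨?_, ?_⟩
  · obtain ⟨N, i, hi, hc, ⟨j⟩⟩ := h1
    exact ⟨N, i, hi, hc, ⟨(ep ≪≫ ec) ≪≫ j⟩⟩
  · haveI : Subsingleton (Coh.HH (f.fiber s) (CohB1.tensorPow (Omega.sheaf p) n) 1) := h2
    exact (CurveCohLib.hhEquiv (k := ↥(S.residueField s)) (ep ≪≫ ec) 1).toEquiv.subsingleton

end Family

end Groth.Agent.CurveCover
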