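import Groth.Agent.CurveCover.QuadGeom
import Groth.Agent.CurveFF.Degree
import Groth.Agent.FFLib.Quad.Unique

/-! Deck transformations of double covers of the line. -/

noncomputable section

set_option linter.style.haveILetI false
set_option linter.unusedSectionVars false
set_option backward.isDefEq.respectTransparency false
set_option backward.isDefEq.respectTransparency.types false
set_option autoImplicit false
set_option maxHeartbeats 1000000

universe u

open CategoryTheory CategoryTheory.Limits AlgebraicGeometry TopologicalSpace Opposite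

namespace Groth.Agent.CurveCover

section FF

variable {X Y Z : Scheme.{u}} [IsIntegral X] [IsIntegral Y] [IsIntegral Z]

/-- The generic point maps compatibly with the map of function fields. -/
theorem fromSpecStalk_ff {f : X ⟶ Y} (e : f (genericPoint X) = genericPoint Y) :
    Spec.map (CommRingCat.ofHom (CurveTrace.ff e)) ≫ Y.fromSpecStalk (genericPoint Y) =
      X.fromSpecStalk (genericPoint X) ≫ f := by
  show Spec.map (Y.presheaf.stalkSpecializes (specializes_of_eq e) ≫ f.stalkMap (genericPoint X)) ≫ _ = _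
  rw [Spec.map_comp, Category.assoc, Scheme.SpecMap_stalkSpecializes_fromSpecStalk,
    Scheme.SpecMap_stalkMap_fromSpecStalk]

theorem ff_unique {f : X ⟶ Y} (e : f (genericPoint X) = genericPoint Y) (φ : Y.functionField →+* X.functionField)
    (hφ : Spec.map (CommRingCat.ofHom φ) ≫ Y.fromSpecStalk (genericPoint Y) =
      X.fromSpecStalk (genericPoint X) ≫ f) : φ = CurveTrace.ff e := by
  have h : Spec.map (CommRingCat.ofHom φ) = Spec.map (CommRingCat.ofHom (CurveTrace.ff e)) :=
    (cancel_mono (Y.fromSpecStalk (genericPoint Y))).1 (hφ.trans (fromSpecStalk_ff e).symm)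
  exact congrArg CommRingCat.Hom.hom (Spec.map_injective h)

theorem ff_comp {f : X ⟶ Y} {g : Y ⟶ Z} {h : X ⟶ Z} (hfg : f ≫ g = h)
    (ef : f (genericPoint X) = genericPoint Y) (eg : g (genericPoint Y) = genericPoint Z)
    (eh : h (genericPoint X) = genericPoint Z) :
    (CurveTrace.ff ef).comp (CurveTrace.ff eg) = CurveTrace.ff eh := by
  refine ff_unique eh _ ?_
  rw [CommRingCat.ofHom_comp, Spec.map_comp, Category.assoc, fromSpecStalk_ff, reassoc_of% fromSpecStalk_ff ef,
    hfg]

theorem ff_id (e : (𝟙 X : X ⟶ X) (genericPoint X) = genericPoint X) :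
    CurveTrace.ff e = RingHom.id _ :=
  (ff_unique e _ (by rw [CommRingCat.ofHom_id, Spec.map_id, Category.id_comp, Category.comp_id])).symm

/-- Morphisms agreeing on function fields agree. -/
theorem hom_ext_ff {S : Scheme.{u}} (q : Y ⟶ S) [IsSeparated q] {f g : X ⟶ Y} (hq : f ≫ q = g ≫ q)
    (ef : f (genericPoint X) = genericPoint Y) (eg : g (genericPoint X) = genericPoint Y)
    (h : CurveTrace.ff ef = CurveTrace.ff eg) : f = g := by
  haveI : IsDominant (X.fromSpecStalk (genericPoint X)) := by
    refine ⟨Dense.mono ?_ (dense_iff_closure_eq.2 (genericPoint_spec X))⟩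
    rw [Scheme.range_fromSpecStalk, Set.singleton_subset_iff]
    exact specializes_rfl
  refine ext_of_isDominant_of_isSeparated q hq (X.fromSpecStalk (genericPoint X)) ?_
  rw [← fromSpecStalk_ff ef, ← fromSpecStalk_ff eg, h]

end FF

/-- A quadratic extension has at most one non-trivial endomorphism over its base. -/
theorem quad_endo_unique {K : Type*} [Field K] (F : Subfield K) (hF : Module.finrank F K = 2) (σ τ : K →+* K)
    (hσ : ∀ c ∈ F, σ c = c) (hτ : ∀ c ∈ F, τ c = c) (hσ1 : σ ≠ RingHom.id K) (hτ1 : τ ≠ RingHom.id K) :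
    σ = τ := by
  haveI : FiniteDimensional F K := Module.finite_of_finrank_pos (by omega)
  obtain ⟨θ, hθ⟩ : ∃ θ : K, θ ∉ F := by
    by_contra hno
    push Not at hno
    refine hσ1 (RingHom.ext fun c => hσ c (hno c))
  have hli : LinearIndependent F ![(1 : K), θ] := by
    rw [LinearIndependent.pair_iff]
    intro a b hab
    by_cases hb : b = 0
    · subst hb
      rw [zero_smul, add_zero, ← Algebra.algebraMap_eq_smul_one, map_eq_zero] at hab
      exact ⟨hab, rfl⟩
    · refine absurd ?_ hθ
      have hb' : (b : K) ≠ 0 := fun h => hb (Subtype.ext h)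
      have h1 : (a : K) + (b : K) * θ = 0 := by simpa [Subfield.smul_def] using hab
      have h2 : θ = -((a : K) / b) := by field_simp; linear_combination h1
      rw [h2]
      exact F.neg_mem (F.div_mem a.2 b.2)
  let B := basisOfLinearIndependentOfCardEqFinrank hli (by simp [hF])
  have hB : (B : Fin 2 → K) = ![(1 : K), θ] := coe_basisOfLinearIndependentOfCardEqFinrank _ _
  have hdec : ∀ c : K, ∃ a b : F, c = (a : K) + (b : K) * θ := fun c => by
    refine ⟨B.repr c 0, B.repr c 1, ?_⟩
    conv_lhs => rw [← B.sum_repr c, Fin.sum_univ_two]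
    simp only [hB, Matrix.cons_val_zero, Matrix.cons_val_one, Subfield.smul_def, smul_eq_mul, mul_one]
  obtain ⟨b, a, hab⟩ := hdec (θ * θ)
  have key : ∀ (ρ : K →+* K), (∀ c ∈ F, ρ c = c) → ρ ≠ RingHom.id K → ρ θ = (a : K) - θ := by
    intro ρ hρ hρ1
    have h1 := congrArg ρ hab
    rw [map_mul, map_add, map_mul, hρ _ a.2, hρ _ b.2] at h1
    have h2 : (ρ θ - θ) * (ρ θ + θ - a) = 0 := by linear_combination h1 - hab
    rcases mul_eq_zero.1 h2 with h3 | h3
    · refine absurd (RingHom.ext fun c => ?_) hρ1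
      obtain ⟨p, q, rfl⟩ := hdec c
      rw [map_add, map_mul, hρ _ p.2, hρ _ q.2, sub_eq_zero.1 h3]
      rfl
    · linear_combination h3
  refine RingHom.ext fun c => ?_
  obtain ⟨p, q, rfl⟩ := hdec c
  rw [map_add, map_add, map_mul, map_mul, hσ _ p.2, hσ _ q.2, hτ _ p.2, hτ _ q.2, key σ hσ hσ1, key τ hτ hτ1]

section Deck

attribute [local instance] CurveFF.ffAlg isIntegral_line

variable (k : Type u) [Field k] {X : Scheme.{u}} [X.Over (Spec (CommRingCat.of k))] [IsIntegral X]
  [IsProper (X ↘ Spec (CommRingCat.of k))] [Smooth (X ↘ Spec (CommRingCat.of k))]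
  (h : X ⟶ CohB1.ProjSpace 1 k) (hh : h ≫ CohB1.ProjSpace.toSpec 1 k = X ↘ Spec (CommRingCat.of k))
  [IsFinite h] (hdim : topologicalKrullDim X = 1)

include hh hdim in
theorem residueDegree_eq_two (hr : ∀ y : ↥(CohB1.ProjSpace 1 k), h.finrank y = 2) :
    h.residueDegree (genericPoint X) = 2 :=
  ((flat_and_finrank k hdim h hh).2.2 (genericPoint (CohB1.ProjSpace 1 k))).symm.trans (hr _)

include hh hdim in
/-- A deck transformation gives an automorphism of the function field over the coordinate subfield. -/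
theorem deck_data (σ : X ⟶ X) (hσ : σ ≫ h = h) :
    ∃ e : σ (genericPoint X) = genericPoint X,
      (σ ≠ 𝟙 X → CurveTrace.ff e ≠ RingHom.id _) ∧
      ∀ c ∈ IntermediateField.adjoin k ({coordX k h hh hdim 0 1} : Set X.functionField),
        CurveTrace.ff e c = c := by
  haveI := isIntegral_line k
  have hp : σ ≫ (X ↘ Spec (CommRingCat.of k)) = X ↘ Spec (CommRingCat.of k) := by
    rw [← hh, reassoc_of% hσ]
  haveI : IsFinite (σ ≫ h) := by rw [hσ]; infer_instance
  haveI : IsFinite σ := IsFinite.of_comp σ h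
  have e := FrobTwist.map_genericPoint_of_finite (X ↘ Spec (CommRingCat.of k))
    (X ↘ Spec (CommRingCat.of k)) σ hp rfl
  refine ⟨e, fun hne hid => hne ?_, fun c hc => ?_⟩
  · exact hom_ext_ff (X ↘ Spec (CommRingCat.of k)) (hp.trans (Category.id_comp _).symm) e rfl
      (hid.trans (ff_id rfl).symm)
  · obtain ⟨r, rfl⟩ := exists_ff_eq k h hh hdim c hc
    exact RingHom.congr_fun (ff_comp hσ e (map_gen k h hh hdim) (map_gen k h hh hdim)) r

include hh hdim in
/-- For genus at least two all deck transformations of double covers of the line coincide. -/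
theorem deck_unique [IsAlgClosed k] (hg : 2 ≤ Curv2.genus k X)
    (hr : ∀ y : ↥(CohB1.ProjSpace 1 k), h.finrank y = 2)
    (h' : X ⟶ CohB1.ProjSpace 1 k) (hh' : h' ≫ CohB1.ProjSpace.toSpec 1 k = X ↘ Spec (CommRingCat.of k))
    [IsFinite h'] (hr' : ∀ y : ↥(CohB1.ProjSpace 1 k), h'.finrank y = 2)
    (σ τ : X ⟶ X) (hσ : σ ≫ h = h) (hσ₁ : σ ≠ 𝟙 X) (hτ : τ ≫ h' = h') (hτ₁ : τ ≠ 𝟙 X) : σ = τ := by
  haveI := isIntegral_line k
  obtain ⟨e, he1, he⟩ := deck_data k h hh hdim σ hσ
  obtain ⟨e', he1', he'⟩ := deck_data k h' hh' hdim τ hτ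
  have hF := finrank_adjoin k h hh hdim (residueDegree_eq_two k h hh hdim hr)
  have hF' := finrank_adjoin k h' hh' hdim (residueDegree_eq_two k h' hh' hdim hr')
  have hsub := FFLib.rational_subfield_unique (CurveFF.isFunctionField k X hdim)
    (by rw [CurveFF.genus_eq k hdim]; exact hg) _ _ hF hF'
  have hp : σ ≫ (X ↘ Spec (CommRingCat.of k)) = τ ≫ (X ↘ Spec (CommRingCat.of k)) := by
    rw [← hh, reassoc_of% hσ]
    conv_rhs => rw [hh, ← hh', reassoc_of% hτ, hh']
    exact hh
  refine hom_ext_ff (X ↘ Spec (CommRingCat.of k)) hp e e' ?_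
  exact quad_endo_unique
    (IntermediateField.adjoin k ({coordX k h hh hdim 0 1} : Set X.functionField)).toSubfield hF _ _
    he (fun c hc => he' c (hsub.le hc)) (he1 hσ₁) (he1' hτ₁)

end Deck

end Groth.Agent.CurveCover
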