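import Groth.Agent.CurveTrace.Main
import Groth.Agent.S2266
import Mathlib.RingTheory.Etale.Locus
import Mathlib.RingTheory.Etale.Field
import Mathlib.AlgebraicGeometry.Morphisms.Etale

/-! A map with separable generic extension is etale on an open set. -/

noncomputable section

set_option linter.style.haveILetI false
set_option backward.isDefEq.respectTransparency false
set_option backward.isDefEq.respectTransparency.types false
set_option autoImplicit false

universe u

open CategoryTheory CategoryTheory.Limits AlgebraicGeometry TopologicalSpace Opposite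
open Groth.Agent.CurveCohLib Groth.Agent.CurveCohLib.Polar

namespace Groth.Agent.CurveCover

variable {X Y : Scheme.{u}} [IsIntegral X] [IsIntegral Y] {f : X ⟶ Y}
  (e : f (genericPoint X) = genericPoint Y)

include e in
theorem exists_etale_open [IsAffineHom f] [LocallyOfFinitePresentation f]
    (hsep : letI := (CurveTrace.ff e).toAlgebra; Algebra.IsSeparable Y.functionField X.functionField) :
    ∃ V : X.Opens, (V : Set X).Nonempty ∧ Etale (V.ι ≫ f) := by
  obtain ⟨_, ⟨U, hU, rfl⟩, hyU, -⟩ :=
    Y.isBasis_affineOpens.exists_subset_of_mem_open (Set.mem_univ (genericPoint Y)) isOpen_univ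
  replace hU : IsAffineOpen U := hU
  have hxV := CurveTrace.gen_mem e (W := U) hyU
  let V := f ⁻¹ᵁ U
  have hV : IsAffineOpen V := hU.preimage f
  haveI : Nonempty U := ⟨⟨_, hyU⟩⟩
  haveI : Nonempty V := ⟨⟨_, hxV⟩⟩
  haveI := functionField_isFractionRing_of_isAffineOpen Y U hU
  haveI := functionField_isFractionRing_of_isAffineOpen X V hV
  letI := (f.app U).hom.toAlgebra
  letI := (CurveTrace.ff e).toAlgebra
  letI : Algebra Γ(Y, U) X.functionField := ((CurveTrace.ff e).comp (algebraMap Γ(Y, U) Y.functionField)).toAlgebra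
  haveI : IsScalarTower Γ(Y, U) Y.functionField X.functionField := IsScalarTower.of_algebraMap_eq fun _ => rfl
  haveI : IsScalarTower Γ(Y, U) Γ(X, V) X.functionField := IsScalarTower.of_algebraMap_eq fun r =>
    CurveTrace.ff_gη e hyU r
  haveI : Algebra.FinitePresentation Γ(Y, U) Γ(X, V) := by
    have h := f.finitePresentation_appLE hU hV le_rfl
    rw [show f.appLE U V le_rfl = f.app U from (Scheme.Hom.app_eq_appLE f).symm] at h
    exact RingHom.finitePresentation_algebraMap.1 h
  haveI : Algebra.FormallyEtale Γ(Y, U) Y.functionField :=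
    Algebra.FormallyEtale.of_isLocalization (nonZeroDivisors Γ(Y, U))
  haveI : Algebra.IsSeparable Y.functionField X.functionField := hsep
  haveI : Algebra.FormallyEtale Y.functionField X.functionField := Algebra.FormallyEtale.of_isSeparable _ _
  haveI : Algebra.FormallyEtale Γ(Y, U) X.functionField :=
    Algebra.FormallyEtale.comp Γ(Y, U) Y.functionField X.functionField
  haveI : IsLocalization.AtPrime X.functionField (⊥ : Ideal Γ(X, V)) := by
    show IsLocalization (⊥ : Ideal Γ(X, V)).primeCompl X.functionField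
    rw [Ideal.primeCompl_bot]
    infer_instance
  haveI : Algebra.IsEtaleAt Γ(Y, U) (⊥ : Ideal Γ(X, V)) :=
    Algebra.FormallyEtale.of_equiv ((IsLocalization.algEquiv (⊥ : Ideal Γ(X, V)).primeCompl X.functionField
      (Localization.AtPrime (⊥ : Ideal Γ(X, V)))).restrictScalars Γ(Y, U))
  obtain ⟨g, hg, _⟩ := Algebra.exists_etale_of_isEtaleAt (R := Γ(Y, U)) (⊥ : Ideal Γ(X, V))
  let D := X.basicOpen g
  have hDV : D ≤ V := X.basicOpen_le g
  letI : Algebra Γ(Y, U) Γ(X, D) := (f.appLE U D hDV).hom.toAlgebra
  haveI : IsScalarTower Γ(Y, U) Γ(X, V) Γ(X, D) := IsScalarTower.of_algebraMap_eq' rfl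
  haveI : IsLocalization.Away g Γ(X, D) := hV.isLocalization_basicOpen g
  haveI : Algebra.Etale Γ(Y, U) Γ(X, D) :=
    Algebra.Etale.of_equiv ((IsLocalization.algEquiv (Submonoid.powers g) (Localization.Away g) Γ(X, D)).restrictScalars Γ(Y, U))
  have hE : Etale (f.resLE U D hDV) := by
    haveI : IsAffine _ := hV.basicOpen g
    haveI : IsAffine _ := hU
    rw [HasRingHomProperty.iff_of_isAffine (P := @Etale)]
    exact (RingHom.Etale.respectsIso.arrow_mk_iso_iff (arrowResLEAppIso f U D hDV)).2
      (RingHom.etale_algebraMap.2 ‹Algebra.Etale Γ(Y, U) Γ(X, D)›)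
  refine ⟨D, ⟨genericPoint X, ?_⟩, ?_⟩
  · rw [show D = X.basicOpen g from rfl, SetLike.mem_coe, X.mem_basicOpen g (genericPoint X) hxV]
    have h0 : g ≠ 0 := fun h => hg (by rw [h]; exact zero_mem _)
    exact isUnit_iff_ne_zero.2 fun h => h0 (IsFractionRing.injective Γ(X, V) X.functionField
      ((show algebraMap Γ(X, V) X.functionField g = 0 from h).trans (map_zero _).symm))
  · rw [← Scheme.Hom.resLE_comp_ι f hDV]
    infer_instance

end Groth.Agent.CurveCover
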