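import Groth.Agent.CurveCover.FamilyFibre
import Groth.Agent.CurveBC.Main
import Groth.Agent.CurveCohLib.Rank
import Groth.Agent.FibDim.BaseChange
import Groth.Agent.FibDim.Semicont
import Groth.Agent.GrpSchLib.Syntomic
import Groth.Agent.GrpSchLib.IsogenyFibre
import Groth.Agent.Synt29.PnEuler
import Groth.Agent.GeomField.Connected
import Groth.Agent.Triage.GeomCount
import Groth.Agent.H26.FibModel
import Groth.Agent.S9367
import Groth.Agent.S1026
import Groth.Agent.S1364

/-!
# Properties of the fibres of a proper smooth family that spread from a dense set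
-/

set_option autoImplicit false
set_option backward.isDefEq.respectTransparency false
set_option backward.isDefEq.respectTransparency.types false
set_option linter.style.haveILetI false

universe u

open CategoryTheory CategoryTheory.Limits AlgebraicGeometry TopologicalSpace

namespace Groth.Agent.CurveCover

/-- Casts of natural numbers. -/
theorem cast_le_withBot (a b : ℕ) : ((a : ℕ) : WithBot ℕ∞) ≤ ((b : ℕ∞) : WithBot ℕ∞) ↔ a ≤ b := by
  change ((a : ℕ∞) : WithBot ℕ∞) ≤ _ ↔ _
  rw [WithBot.coe_le_coe, Nat.cast_le]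

/-- The dimension of the fibres is invariant under base change. -/
theorem krullDim_fiber_baseChange {X S X₀ S₀ : Scheme.{u}} {v : X ⟶ X₀} {f : X ⟶ S} {f₀ : X₀ ⟶ S₀}
    {u : S ⟶ S₀} [LocallyOfFiniteType f] [LocallyOfFiniteType f₀] (h : IsPullback v f f₀ u) (s : S) :
    topologicalKrullDim ↥(f.fiber s) = topologicalKrullDim ↥(f₀.fiber (u s)) := by
  rw [FibDim.topologicalKrullDim_fiber f s, FibDim.topologicalKrullDim_fiber f₀ (u s)]
  refine le_antisymm (iSup_le fun z => ?_) (iSup_le fun x => ?_)
  · have hz : f₀ (v z.1) = u s := by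
      rw [← Scheme.Hom.comp_apply, h.w, Scheme.Hom.comp_apply]
      exact congrArg u z.2
    exact le_iSup_of_le (⟨v z.1, hz⟩ : ↥(f₀ ⁻¹' {u s})) (by exact_mod_cast FibDim.rd_baseChange_le h z.1)
  · obtain ⟨z, -, hz, hrd⟩ := FibDim.exists_rd_baseChange_eq h x.1 s x.2
    exact le_iSup_of_le (⟨z, hz⟩ : ↥(f ⁻¹' {s})) (le_of_eq (by rw [hrd]))

/-- The genus of the fibres is invariant under base change. -/
theorem genus_fiber_baseChange {X S X₀ S₀ : Scheme.{u}} {v : X ⟶ X₀} {f : X ⟶ S} {f₀ : X₀ ⟶ S₀}
    {u : S ⟶ S₀} [IsProper f₀] (h : IsPullback v f f₀ u) (s : S) :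
    (letI : (f.fiber s).Over (Spec (S.residueField s)) := ⟨f.fiberToSpecResidueField s⟩
     Curv2.genus (S.residueField s) (f.fiber s)) =
    (letI : (f₀.fiber (u s)).Over (Spec (S₀.residueField (u s))) := ⟨f₀.fiberToSpecResidueField (u s)⟩
     Curv2.genus (S₀.residueField (u s)) (f₀.fiber (u s))) := by
  let φ := u.residueFieldMap s
  letI : Algebra ↥(S₀.residueField (u s)) ↥(S.residueField s) := φ.hom.toAlgebra
  letI : (f.fiber s).Over (Spec (S.residueField s)) := ⟨f.fiberToSpecResidueField s⟩
  letI : (f₀.fiber (u s)).Over (Spec (S₀.residueField (u s))) := ⟨f₀.fiberToSpecResidueField (u s)⟩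
  have hb : Spec.map φ ≫ S₀.fromSpecResidueField (u s) = S.fromSpecResidueField s ≫ u :=
    u.SpecMap_residueFieldMap_fromSpecResidueField s
  have H : IsPullback (f.fiberι s ≫ v) (f.fiberToSpecResidueField s) f₀
      (Spec.map φ ≫ S₀.fromSpecResidueField (u s)) := by
    rw [hb]
    exact (IsPullback.of_hasPullback f (S.fromSpecResidueField s)).paste_horiz h
  let q : f.fiber s ⟶ f₀.fiber (u s) :=
    pullback.lift (f.fiberι s ≫ v) (f.fiberToSpecResidueField s ≫ Spec.map φ)
      (by rw [H.w, Category.assoc])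
  have hq : IsPullback q (f.fiberToSpecResidueField s) (f₀.fiberToSpecResidueField (u s)) (Spec.map φ) := by
    refine IsPullback.of_right (v₁₃ := f₀) (h₁₂ := f₀.fiberι (u s))
      (h₂₂ := S₀.fromSpecResidueField (u s)) ?_ (pullback.lift_snd _ _ _) (IsPullback.of_hasPullback _ _)
    rw [show q ≫ f₀.fiberι (u s) = f.fiberι s ≫ v from pullback.lift_fst _ _ _]
    exact H
  haveI : IsProper (f₀.fiberToSpecResidueField (u s)) := MorphismProperty.pullback_snd _ _ inferInstance
  haveI : CompactSpace ↥(f₀.fiber (u s)) :=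
    QuasiCompact.compactSpace_of_compactSpace (f₀.fiberToSpecResidueField (u s))
  haveI : QuasiSeparatedSpace ↥(f₀.fiber (u s)) :=
    quasiSeparatedSpace_of_quasiSeparated (f₀.fiberToSpecResidueField (u s))
  exact CurveBC.genus_eq ↥(S₀.residueField (u s)) ↥(S.residueField s) q hq

section

variable {X S : Scheme.{u}} (f : X ⟶ S) [IsProper f] [Smooth f]

/-- One-dimensional fibres over a dense set give one-dimensional fibres everywhere. -/
theorem krullDim_eq_one_of_dense {D : Set S} (hD : Dense D)
    (h : ∀ s ∈ D, topologicalKrullDim ↥(f.fiber s) = 1) (s : S) : topologicalKrullDim ↥(f.fiber s) = 1 := by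
  have hlc : IsLocallyConstant (fun x : ↥X => FlatMor.fibreDimAt f x) :=
    S9367.result f (GrpSchLib.Syntomic.isSyntomic_of_smooth f)
  refine le_antisymm ?_ ?_
  · by_contra hn
    have h2 : ((2 : ℕ) : WithBot ℕ∞) ≤ topologicalKrullDim ↥(f.fiber s) := by
      by_contra h2
      refine hn ?_
      by_contra h1
      have h3 := FibDim.topologicalKrullDim_fiber f s
      apply h1
      rw [h3]
      refine iSup_le fun z => ?_
      have : FibDim.rd f z.1 ≤ 1 := by
        by_contra h4
        exact h2 ((FibDim.le_topologicalKrullDim_fiber_iff f s 2).2 ⟨z.1, z.2, by omega⟩)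
      exact_mod_cast this
    obtain ⟨z, hz, hrd⟩ := (FibDim.le_topologicalKrullDim_fiber_iff f s 2).1 h2
    have hz2 : ((2 : ℕ) : WithBot ℕ∞) ≤ FlatMor.fibreDimAt f z :=
      le_trans ((cast_le_withBot _ _).2 hrd) (FibDim.rd_le_fibreDimAt f specializes_rfl rfl)
    have hopen : IsOpen (f '' {x | ((2 : ℕ) : WithBot ℕ∞) ≤ FlatMor.fibreDimAt f x}) :=
      f.isOpenMap _ (hlc {t | ((2 : ℕ) : WithBot ℕ∞) ≤ t})
    obtain ⟨t, ⟨x, hx, hxt⟩, htD⟩ := hD.inter_open_nonempty _ hopen ⟨s, z, hz2, hz⟩
    obtain ⟨w, hwx, hwf, he, -⟩ := FibDim.exists_fibreDimAt_eq f x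
    have : ((2 : ℕ) : WithBot ℕ∞) ≤ topologicalKrullDim ↥(f.fiber t) := by
      refine (FibDim.le_topologicalKrullDim_fiber_iff f t 2).2 ⟨w, hwf.trans hxt, ?_⟩
      have hx' : ((2 : ℕ) : WithBot ℕ∞) ≤ FlatMor.fibreDimAt f x := hx
      rw [he] at hx'
      exact (cast_le_withBot _ _).1 hx'
    rw [h t htD] at this
    exact absurd this (by norm_cast)
  · have hT : IsClosed (f '' {x | ((1 : ℕ) : WithBot ℕ∞) ≤ FlatMor.fibreDimAt f x}) := by
      refine f.isClosedMap _ ⟨?_⟩
      exact hlc {t | ¬ ((1 : ℕ) : WithBot ℕ∞) ≤ t}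
    have hsub : D ⊆ f '' {x | ((1 : ℕ) : WithBot ℕ∞) ≤ FlatMor.fibreDimAt f x} := fun t ht => by
      obtain ⟨z, hz, hrd⟩ := (FibDim.le_topologicalKrullDim_fiber_iff f t 1).1 (by rw [h t ht]; rfl)
      exact ⟨z, le_trans ((cast_le_withBot _ _).2 hrd) (FibDim.rd_le_fibreDimAt f specializes_rfl rfl), hz⟩
    obtain ⟨x, hx, hxs⟩ := (hD.mono hsub).closure_eq.symm.subset.trans hT.closure_subset (Set.mem_univ s)
    obtain ⟨w, hwx, hwf, he, -⟩ := FibDim.exists_fibreDimAt_eq f x
    refine le_trans (le_of_eq ?_) ((FibDim.le_topologicalKrullDim_fiber_iff f s 1).2 ⟨w, hwf.trans hxs, ?_⟩)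
    · rfl
    · have hx' : ((1 : ℕ) : WithBot ℕ∞) ≤ FlatMor.fibreDimAt f x := hx
      rw [he] at hx'
      exact (cast_le_withBot _ _).1 hx'

/-- One geometric connected component over a dense set gives geometric connectedness. -/
theorem geometricallyConnected_of_dense {D : Set S} (hD : Dense D)
    (h : ∀ s ∈ D, MoreMor.nGeomConnComp f s = 1) : GeometricallyConnected f := by
  haveI : GeometricallyReduced f := GrpSchLib.IsogenyFibre.geometricallyReduced_of_smooth' f
  have hlc := S1364.result f
  have hall : ∀ s : S, MoreMor.nGeomConnComp f s = 1 := fun s =>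
    (hD.mono h).closure_eq.symm.subset.trans (hlc.isClosed_fiber 1).closure_subset (Set.mem_univ s)
  rw [GeometricallyConnected.iff_geometricallyConnected_fiber]
  intro s
  letI : (f.fiber s).Over (Spec (CommRingCat.of ↥(S.residueField s))) := ⟨f.fiberToSpecResidueField s⟩
  have hc : ENat.card (_root_.ConnectedComponents ↥(MoreMor.geomFiber f s)) = 1 := hall s
  haveI : Nonempty (_root_.ConnectedComponents ↥(MoreMor.geomFiber f s)) := by
    rw [← not_isEmpty_iff]
    intro he
    rw [(ENat.card_eq_zero_iff_empty _).2 he] at hc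
    exact zero_ne_one hc
  haveI : Subsingleton (_root_.ConnectedComponents ↥(MoreMor.geomFiber f s)) :=
    (ENat.card_le_one_iff_subsingleton _).1 hc.le
  haveI : ConnectedSpace ↥(MoreMor.geomFiber f s) := by
    obtain ⟨c⟩ := ‹Nonempty (_root_.ConnectedComponents ↥(MoreMor.geomFiber f s))›
    obtain ⟨x, -⟩ := _root_.ConnectedComponents.surjective_coe c
    refine connectedSpace_iff_connectedComponent.2 ⟨x, Set.eq_univ_of_forall fun y => ?_⟩
    exact _root_.ConnectedComponents.coe_eq_coe'.1 (Subsingleton.elim _ _)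
  exact GeomField.geometricallyConnected_of_separableClosure
    (k := ↥(S.residueField s)) (X := f.fiber s) ‹ConnectedSpace ↥(MoreMor.geomFiber f s)›

/-- The Euler characteristic of the structure sheaf of a connected one-dimensional fibre. -/
theorem eulerChar_eq_one_sub_genus [GeometricallyConnected f] (s : S)
    (hdim : topologicalKrullDim ↥(f.fiber s) = 1) :
    PerfAux.eulerChar f (Coh.structureModule X) s =
      1 - ((letI : (f.fiber s).Over (Spec (S.residueField s)) := ⟨f.fiberToSpecResidueField s⟩;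
        Curv2.genus (S.residueField s) (f.fiber s) : ℕ) : ℤ) := by
  let p := f.fiberToSpecResidueField s
  letI : (f.fiber s).Over (Spec (S.residueField s)) := ⟨p⟩
  haveI : IsProper p := MorphismProperty.pullback_snd _ _ inferInstance
  haveI : Smooth p := MorphismProperty.pullback_snd _ _ inferInstance
  haveI : IsProper ((f.fiber s) ↘ Spec (CommRingCat.of ↥(S.residueField s))) := ‹IsProper p›
  haveI : Smooth ((f.fiber s) ↘ Spec (CommRingCat.of ↥(S.residueField s))) := ‹Smooth p›
  haveI : GeometricallyConnected ((f.fiber s) ↘ Spec (CommRingCat.of ↥(S.residueField s))) :=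
    (inferInstance : GeometricallyConnected p)
  have h0 := CurveBC.finrank_h0_of_geometricallyConnected ↥(S.residueField s) (f.fiber s)
  have he : PerfAux.eulerChar f (Coh.structureModule X) s =
      Curv2.euler ↥(S.residueField s) (f.fiber s)
        ((Scheme.Modules.pullback (f.fiberι s)).obj (Coh.structureModule X)) := rfl
  haveI := CurveBC.isIntegral_of_h0 ↥(S.residueField s) (f.fiber s) h0
  rw [he, CurveCohLib.euler_congr (k := ↥(S.residueField s)) (CurveBC.unitIso (f.fiberι s)),
    CurveRR.euler_eq_h0_sub_h1 ↥(S.residueField s) hdim.le (PnCoh.isQCoh_structureModule _), h0]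
  rfl

/-- The genus over a dense set is the genus everywhere. -/
theorem genus_eq_of_dense [GeometricallyConnected f] (hdim : ∀ s : S, topologicalKrullDim ↥(f.fiber s) = 1)
    {D : Set S} (hD : Dense D) (g : ℕ)
    (h : ∀ s ∈ D, (letI : (f.fiber s).Over (Spec (S.residueField s)) := ⟨f.fiberToSpecResidueField s⟩;
      Curv2.genus (S.residueField s) (f.fiber s)) = g) (s : S) :
    (letI : (f.fiber s).Over (Spec (S.residueField s)) := ⟨f.fiberToSpecResidueField s⟩;
      Curv2.genus (S.residueField s) (f.fiber s)) = g := by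
  have hfl : FlatMod.IsFinLocFree (Coh.structureModule X) := fun x => by
    obtain ⟨U, hx, e⟩ := InvEnd.isFinLocFreeOfRank_one (CurveDeg.isInvertible_structureModule (X := X)) x
    exact ⟨U, 1, hx, e⟩
  have hlc := S1026.result f (Coh.structureModule X) (QCoh.isFP_of_isFinLocFree hfl)
    (H26.FibModel.isFlatOver_structureModule f)
  have hsub : D ⊆ {t | PerfAux.eulerChar f (Coh.structureModule X) t = 1 - (g : ℤ)} := fun t ht => by
    show _ = _
    rw [eulerChar_eq_one_sub_genus f t (hdim t), h t ht]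
  have hs : PerfAux.eulerChar f (Coh.structureModule X) s = 1 - (g : ℤ) :=
    (hD.mono hsub).closure_eq.symm.subset.trans (hlc.isClosed_fiber _).closure_subset (Set.mem_univ s)
  rw [eulerChar_eq_one_sub_genus f s (hdim s)] at hs
  omega

end

end Groth.Agent.CurveCover
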