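import Groth.Agent.CurveCover.FamilyH0
import Mathlib.LinearAlgebra.Dimension.Constructions

/-!
# The rank of the first direct image of the structure sheaf
-/

set_option autoImplicit false
set_option backward.isDefEq.respectTransparency false
set_option backward.isDefEq.respectTransparency.types false
set_option linter.style.haveILetI false

universe u

open CategoryTheory CategoryTheory.Limits AlgebraicGeometry TopologicalSpace TensorProduct

namespace Groth.Agent.CurveCover

theorem finrank_extendScalars_free {B K : Type u} [CommRing B] [Field K] (χ : B →+* K) (M : ModuleCat.{u} B)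
    {m : ℕ} (l : M ≃ₗ[B] (ULift.{u} (Fin m) →₀ B)) :
    Module.finrank K ((ModuleCat.extendScalars χ).obj M) = m := by
  letI := χ.toAlgebra
  show Module.finrank K (K ⊗[B] M) = m
  haveI : Nontrivial B := χ.domain_nontrivial
  haveI : Module.Free B M := Module.Free.of_equiv l.symm
  rw [Module.finrank_baseChange, l.finrank_eq, Module.finrank_finsupp_self]
  simp

/-- The first direct image of the structure sheaf has the genus of the fibres as its rank. -/
theorem isFinLocFreeOfRank_Rpush_one {X S : Scheme.{u}} (f : X ⟶ S) [Flat f] [IsProper f]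
    [LocallyOfFinitePresentation f] [HasInjectiveResolutions X.Modules]
    (hdim : ∀ s : S, topologicalKrullDim ↥(f.fiber s) ≤ 1)
    (h0 : ∀ s : S, Models.hRank ↥(S.residueField s) (f.fiber s) (f.fiberToSpecResidueField s)
      (Coh.structureModule (f.fiber s)) 0 = 1) (g : ℕ)
    (h1 : ∀ s : S, Models.hRank ↥(S.residueField s) (f.fiber s) (f.fiberToSpecResidueField s)
      (Coh.structureModule (f.fiber s)) 1 = g) :
    FlatMod.IsFinLocFreeOfRank g ((Coh.Rpush f 1).obj (Coh.structureModule X)) := by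
  intro y
  let G := (Coh.Rpush f 1).obj (Coh.structureModule X)
  have hO := PnCoh.isQCoh_structureModule X
  obtain ⟨U, m, hyU, ⟨e⟩⟩ := H26.FibModel.isFinLocFree_Rpush_one f hdim h0 y
  obtain ⟨V, hV, hyV, hg⟩ := H26.FibModel.exists_good f y (hdim y) (h0 y)
  obtain ⟨W, hW, hyW, hWle⟩ := exists_isAffineOpen_mem_and_subset (show y ∈ U ⊓ V from ⟨hyU, hyV⟩)
  have hWU : W ≤ U := fun z hz => (hWle hz).1
  have hWV : W ≤ V := fun z hz => (hWle hz).2
  obtain ⟨l⟩ := QCoh.free_sections hW hWU e
  obtain ⟨H, -, -, hH⟩ := hg.h1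
  let ψ := (S.presheaf.map (homOfLE hWV).op).hom
  let χ := QCoh.evalV y hyW
  let Uw : X.Opens := f ⁻¹ᵁ W
  letI := QCoh.modHH (QCoh.rhoV f W) ((Coh.structureModule X).restrict Uw.ι) 1
  letI := QCoh.modHH (QCoh.rhoV f W) (Coh.structureModule (Uw : Scheme.{u})) 1
  obtain ⟨e₁⟩ := QCoh.nonempty_sections_HH (f := f) hO hW 1
  let e₂ := QCoh.HHcongr (QCoh.rhoV f W) (Scheme.Modules.restrictUnitIso Uw.ι) 1
  have hmapW : Spec.map (CommRingCat.ofHom ψ) ≫ hV.fromSpec = hW.fromSpec :=
    hV.map_fromSpec hW (homOfLE hWV).op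
  have h := hH Γ(S, W) ψ (Uw : Scheme.{u}) Uw.ι (QCoh.overSpec f hW) (by
      rw [hmapW]
      exact QCoh.isPullback_overSpec (f := f) hW)
  rw [QCoh.toGlobal_overSpec] at h
  obtain ⟨e₃⟩ := h
  let lM : ((ModuleCat.extendScalars ψ).obj H : ModuleCat Γ(S, W)) ≃ₗ[Γ(S, W)] (ULift.{u} (Fin m) →₀ Γ(S, W)) :=
    ((e₁.trans e₂).trans e₃).symm.trans l
  have hmapy : Spec.map (CommRingCat.ofHom (χ.comp ψ)) ≫ hV.fromSpec =
      Spec.map (CommRingCat.ofHom χ) ≫ hW.fromSpec := by
    rw [CommRingCat.ofHom_comp, Spec.map_comp, Category.assoc, hmapW]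
  have hpb : IsPullback (f.fiberι y) (f.fiberToSpecResidueField y) f
      (Spec.map (CommRingCat.ofHom (χ.comp ψ)) ≫ hV.fromSpec) := by
    rw [hmapy]
    exact H26.FibModel.isPullback_fiber y hyW
  obtain ⟨e₄⟩ := hH _ (χ.comp ψ) (f.fiber y) (f.fiberι y) (f.fiberToSpecResidueField y) hpb
  letI : (f.fiber y).Over (Spec (CommRingCat.of ↥(S.residueField y))) := ⟨f.fiberToSpecResidueField y⟩
  have hm : g = m := by
    refine (h1 y).symm.trans ?_
    refine e₄.finrank_eq.trans ?_
    rw [((ModuleCat.extendScalarsComp ψ χ).app H).toLinearEquiv.finrank_eq]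
    exact finrank_extendScalars_free χ _ lM
  subst hm
  exact ⟨U, hyU, ⟨e⟩⟩

end Groth.Agent.CurveCover
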