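import Groth.Agent.CurveCover.InvolPlaces
import Groth.Agent.FFLib.Small
import Mathlib.Algebra.Polynomial.RingDivision

/-! The fibres of a double cover of the line are the orbits of the involution. -/

set_option linter.style.haveILetI false
set_option linter.unusedSectionVars false
set_option autoImplicit false

namespace Groth.Agent.CurveCover

open FunFld WithZero Groth.Agent.FFLib IntermediateField

variable {k K : Type*} [Field k] [Field K] [Algebra k K] [IsAlgClosed k]

/-- The sign of the order of a rational function of `y` is the same at all zeros of `y`. -/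
theorem exists_ord_eq_mul {y : K} (hy : Transcendental k y) {N : K} (hN : N ∈ k⟮y⟯) (h0 : N ≠ 0) :
    ∃ n : ℤ, ∀ P : Place k K, 0 < P.ord y → P.ord N = n * P.ord y := by
  classical
  obtain ⟨p, q, rfl⟩ := (mem_adjoin_simple_iff k N).1 hN
  have hinj := transcendental_iff_injective.1 hy
  have hp : p ≠ 0 := fun h => h0 (by rw [h, map_zero, zero_div])
  have hq : q ≠ 0 := fun h => h0 (by rw [h, map_zero, div_zero])
  have hy0 : y ≠ 0 := fun h => hy (h ▸ isAlgebraic_zero)
  have key : ∀ r : Polynomial k, r ≠ 0 → ∀ P : Place k K, 0 < P.ord y →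
      P.ord (Polynomial.aeval y r) = (r.rootMultiplicity 0 : ℤ) * P.ord y := by
    intro r hr P hP
    obtain ⟨r', hr', hnd⟩ := Polynomial.exists_eq_pow_rootMultiplicity_mul_and_not_dvd r hr 0
    have hv := val_aeval_eq_one P (y := y) (a := (0 : k)) (by
      rw [map_zero, sub_zero, val_lt_one_iff P hy0]; exact hP)
      (G := r') (fun h => hnd (Polynomial.dvd_iff_isRoot.2 h))
    conv_lhs => rw [hr']
    rw [map_mul, map_pow, map_sub, Polynomial.aeval_X, Polynomial.aeval_C, map_zero, sub_zero,
      ord_mul P (pow_ne_zero _ hy0) (fun h => by simp [h] at hv), ord_pow,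
      ord_of_val_eq P (n := 0) (x := Polynomial.aeval y r') (by simpa using hv)]
    ring
  refine ⟨(p.rootMultiplicity 0 : ℤ) - q.rootMultiplicity 0, fun P hP => ?_⟩
  have hp' : Polynomial.aeval y p ≠ 0 := fun h => hp (hinj (h.trans (map_zero _).symm))
  have hq' : Polynomial.aeval y q ≠ 0 := fun h => hq (hinj (h.trans (map_zero _).symm))
  rw [div_eq_mul_inv, ord_mul P hp' (inv_ne_zero hq'), ord_inv, key p hp P hP, key q hq P hP]
  ring

variable (s : K ≃ₐ[k] K) (hinv : ∀ c, s (s c) = c) (hne : s ≠ AlgEquiv.refl)

include hne in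
/-- The invariant functions are the rational functions of an invariant coordinate. -/
theorem mem_adjoin_of_inv {y : K} (hdeg : Module.finrank k⟮y⟯ K = 2) (hsy : s y = y) {c : K}
    (hc : s c = c) : c ∈ k⟮y⟯ := by
  by_contra hcy
  haveI : FiniteDimensional k⟮y⟯ K := Module.finite_of_finrank_pos (by omega)
  have hfix : ∀ a : K, a ∈ k⟮y⟯ → s a = a := fun a ha => by
    obtain ⟨p, q, rfl⟩ := (mem_adjoin_simple_iff k a).1 ha
    rw [map_div₀, ← Polynomial.aeval_algHom_apply, ← Polynomial.aeval_algHom_apply, hsy]
  have hli : LinearIndependent k⟮y⟯ ![(1 : K), c] := by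
    rw [LinearIndependent.pair_iff' one_ne_zero]
    intro a ha
    rw [IntermediateField.smul_def, smul_eq_mul, mul_one] at ha
    exact hcy (ha ▸ a.2)
  have hspan := hli.span_eq_top_of_card_eq_finrank' (by simp [hdeg])
  refine hne (AlgEquiv.ext fun d => ?_)
  have hd : d ∈ Submodule.span k⟮y⟯ (Set.range ![(1 : K), c]) := by rw [hspan]; trivial
  obtain ⟨w, rfl⟩ := (Submodule.mem_span_range_iff_exists_fun _).1 hd
  simp only [Fin.sum_univ_two, Matrix.cons_val_zero, Matrix.cons_val_one, IntermediateField.smul_def, smul_eq_mul,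
    mul_one, map_add, map_mul, hfix _ (w 0).2, hfix _ (w 1).2, hc]
  rfl

include hinv hne in
/-- The zeros of an invariant coordinate are a point and its conjugate. -/
theorem zeros_eq (hF : IsFF k K) {y : K} (hy : Transcendental k y) (hdeg : Module.finrank k⟮y⟯ K = 2)
    (hsy : s y = y) {P : Place k K} (hP : 0 < P.ord y) :
    (zeros y : Divisor k K) = Finsupp.single P 1 + Finsupp.single (placeComap s P) 1 := by
  classical
  have hy0 : y ≠ 0 := fun h => hy (h ▸ isAlgebraic_zero)
  have hord : ∀ Q : Place k K, (placeComap s Q).ord y = Q.ord y := fun Q => by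
    show -WithZero.log ((placeComap s Q).1 y) = -WithZero.log (Q.1 y)
    rw [placeComap_apply, hsy]
  have hval : ∀ R, (zeros y : Divisor k K) R = max (R.ord y) 0 := fun R => by simp [zeros, div_apply hF]
  have honly : ∀ Q : Place k K, 0 < Q.ord y → Q = P ∨ Q = placeComap s P := by
    intro Q hQ
    by_contra! hcon
    have hQ2 : placeComap s Q ≠ P ∧ placeComap s Q ≠ placeComap s P := by
      refine ⟨fun h => hcon.2 ?_, fun h => hcon.1 ?_⟩
      · rw [← h, comap_comap s hinv]
      · have := congrArg (placeComap s) h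
        rwa [comap_comap s hinv, comap_comap s hinv] at this
    let S : Finset (Place k K) := {P, placeComap s P, Q, placeComap s Q}
    obtain ⟨c, hc⟩ := exists_approx S (fun R => if R = P ∨ R = placeComap s P then 1 else 0) (fun _ => 1)
    have h1 : P.1 (c - 1) < 1 := by
      have := hc P (by simp [S])
      rw [if_pos (Or.inl rfl)] at this
      exact this.trans_lt (by rw [← exp_zero, exp_lt_exp]; norm_num)
    have h2 : P.1 (s c - 1) < 1 := by
      have := hc (placeComap s P) (by simp [S])
      rw [if_pos (Or.inr rfl), placeComap_apply, map_sub, map_one] at this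
      exact this.trans_lt (by rw [← exp_zero, exp_lt_exp]; norm_num)
    have h3 : Q.1 c < 1 := by
      have := hc Q (by simp [S])
      rw [if_neg (by push Not; exact hcon), sub_zero] at this
      exact this.trans_lt (by rw [← exp_zero, exp_lt_exp]; norm_num)
    have h4 : Q.1 (s c) < 1 := by
      have := hc (placeComap s Q) (by simp [S])
      rw [if_neg (by push Not; exact hQ2), sub_zero, placeComap_apply] at this
      exact this.trans_lt (by rw [← exp_zero, exp_lt_exp]; norm_num)
    have hN : c * s c ∈ k⟮y⟯ := mem_adjoin_of_inv s hne hdeg hsy (by rw [map_mul, hinv, mul_comm])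
    have hQN : Q.1 (c * s c) < 1 := by
      rw [map_mul]
      exact lt_of_le_of_lt (mul_le_mul' h3.le le_rfl) (by rwa [one_mul])
    have hQN1 : Q.1 (c * s c - 1) = 1 := by
      rw [show c * s c - 1 = c * s c + (-1) by ring,
        Q.1.map_add_eq_of_lt_right (by rwa [Valuation.map_neg, map_one]), Valuation.map_neg, map_one]
    have hPN : P.1 (c * s c - 1) < 1 := by
      rw [show c * s c - 1 = (c - 1) * (s c - 1) + ((c - 1) + (s c - 1)) by ring]
      refine (P.1.map_add _ _).trans_lt (max_lt ?_ ((P.1.map_add _ _).trans_lt (max_lt h1 h2)))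
      rw [map_mul]
      exact lt_of_le_of_lt (mul_le_mul' h1.le le_rfl) (by rwa [one_mul])
    by_cases h0 : c * s c - 1 = 0
    · rw [h0, map_zero] at hQN1
      exact zero_ne_one hQN1
    obtain ⟨n, hn⟩ := exists_ord_eq_mul hy (N := c * s c - 1) (sub_mem hN (one_mem _)) h0
    rw [val_lt_one_iff P h0, hn P hP] at hPN
    have hQ0 : Q.ord (c * s c - 1) = 0 := ord_of_val_eq Q (n := 0) (by simpa using hQN1)
    rw [hn Q hQ] at hQ0
    rcases mul_eq_zero.1 hQ0 with h | h
    · rw [h, zero_mul] at hPN; exact lt_irrefl _ hPN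
    · omega
  have hz : (zeros y : Divisor k K).deg = 2 := by rw [deg_zeros hF hy, hdeg]; norm_num
  have hoff : ∀ R, R ≠ P → R ≠ placeComap s P → (zeros y : Divisor k K) R = 0 := fun R h1 h2 => by
    rw [hval]
    by_contra h
    exact (honly R (by omega)).elim h1 h2
  by_cases hPP : placeComap s P = P
  · rw [hPP, ← Finsupp.single_add]
    have he : (zeros y : Divisor k K) = Finsupp.single P (P.ord y) := by
      ext R
      by_cases hR : R = P
      · subst hR; rw [hval, Finsupp.single_eq_same]; omega
      · rw [hoff R hR (by rw [hPP]; exact hR), Finsupp.single_eq_of_ne hR]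
    rw [he, Divisor.deg_single, deg_eq_one hF P, Nat.cast_one, mul_one] at hz
    rw [he, hz]
    norm_num
  · refine (deg_eq_of_le hF (fun R => ?_) ?_).symm
    · by_cases hR : R = P
      · subst hR
        rw [Finsupp.add_apply, Finsupp.single_eq_same, Finsupp.single_eq_of_ne (Ne.symm hPP), hval]
        omega
      · by_cases hR' : R = placeComap s P
        · subst hR'
          rw [Finsupp.add_apply, Finsupp.single_eq_of_ne hR, Finsupp.single_eq_same, hval, hord]
          omega
        · rw [Finsupp.add_apply, Finsupp.single_eq_of_ne hR, Finsupp.single_eq_of_ne hR', hoff R hR hR']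
          simp
    · rw [hz, Divisor.deg_add, Divisor.deg_single, Divisor.deg_single, deg_eq_one hF, deg_eq_one hF]
      norm_num

include hinv hne in
/-- Every point plus its conjugate is linearly equivalent to the poles of the coordinate. -/
theorem exists_poles_eq_pair (hF : IsFF k K) {x : K} (hx : Transcendental k x)
    (hdeg : Module.finrank k⟮x⟯ K = 2) (hsx : s x = x) (P : Place k K) :
    ∃ z : K, z ≠ 0 ∧ (poles x : Divisor k K) = Finsupp.single P 1 + Finsupp.single (placeComap s P) 1 + FunFld.div k z := by
  have hx0 : x ≠ 0 := fun h => hx (h ▸ isAlgebraic_zero)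
  rcases ord_nonneg_or (P := P) x with h | h
  · obtain ⟨a, ha⟩ := exists_sub_lt hF P h
    have hy := transcendental_sub hx a
    have hy0 : x - algebraMap k K a ≠ 0 := fun e => hy (e ▸ isAlgebraic_zero)
    have hz := zeros_eq s hinv hne hF hy (by rw [adjoin_sub_algebraMap]; exact hdeg)
      (by rw [map_sub, hsx, AlgEquiv.commutes]) ((val_lt_one_iff P hy0).1 ha)
    have hp : (poles (x - algebraMap k K a) : Divisor k K) = poles x := by
      ext R
      simp only [poles, Finsupp.mapRange_apply, div_apply hF]
      rcases le_or_gt (R.1 x) 1 with h1 | h1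
      · have h2 : R.1 (x - algebraMap k K a) ≤ 1 := (R.1.map_sub _ _).trans (max_le h1 (R.2.1 a))
        rw [val_le_one_iff R hy0] at h2
        rw [val_le_one_iff R hx0] at h1
        omega
      · have e : R.1 (x - algebraMap k K a) = R.1 x := R.1.map_sub_eq_of_lt_left ((R.2.1 a).trans_lt h1)
        rw [Place.ord, Place.ord, e]
    refine ⟨(x - algebraMap k K a)⁻¹, inv_ne_zero hy0, ?_⟩
    rw [div_inv hF, div_eq_zeros_sub_poles, hz, hp]
    abel
  · refine ⟨1, one_ne_zero, ?_⟩
    have h1 : FunFld.div k (1 : K) = 0 := by ext R; rw [div_apply hF, ord_one]; rfl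
    have hp : (poles x : Divisor k K) = zeros x⁻¹ := by
      ext R; simp [poles, zeros, div_apply hF, ord_inv]
    rw [h1, add_zero, hp]
    exact zeros_eq s hinv hne hF (FFLib.transcendental_inv hx) (by rw [FFLib.adjoin_inv]; exact hdeg)
      (by rw [map_inv₀, hsx]) (by rw [ord_inv]; omega)

/-- Coordinates with linearly equivalent poles generate the same field. -/
theorem adjoin_eq_of_poles (hF : IsFF k K) {x x' : K} (hx : Transcendental k x) (hx' : Transcendental k x')
    (hdeg : Module.finrank k⟮x⟯ K = 2) (hdeg' : Module.finrank k⟮x'⟯ K = 2)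
    (hell : ell (poles x : Divisor k K) = 2) {z : K} (hz : z ≠ 0)
    (he : (poles x' : Divisor k K) = poles x + FunFld.div k z) : k⟮x'⟯ = k⟮x⟯ := by
  haveI := L_finite hF (poles x : Divisor k K)
  have hx0 : x ≠ 0 := fun h => hx (h ▸ isAlgebraic_zero)
  have hx0' : x' ≠ 0 := fun h => hx' (h ▸ isAlgebraic_zero)
  have h1 : (1 : K) ∈ L (poles x : Divisor k K) := fun R => by
    rw [map_one, ← exp_zero, exp_le_exp]; exact poles_nonneg x R
  have hxL : x ∈ L (poles x : Divisor k K) := fun R => val_le_exp_poles hF x R
  let M := Submodule.span k (Set.range ![(1 : K), x])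
  have hM : M = L (poles x : Divisor k K) := by
    refine Submodule.eq_of_le_of_finrank_eq (Submodule.span_le.2 ?_) ?_
    · rintro _ ⟨i, rfl⟩; fin_cases i <;> simp [h1, hxL]
    · refine (finrank_span_eq_card ?_).trans (by rw [Fintype.card_fin]; exact hell.symm)
      rw [LinearIndependent.pair_iff' one_ne_zero]
      intro a ha
      exact hx (ha ▸ by rw [← Algebra.algebraMap_eq_smul_one]; exact isAlgebraic_algebraMap a)
  have hMle : ∀ c ∈ L (poles x : Divisor k K), c ∈ k⟮x⟯ := fun c hc => by
    rw [← hM] at hc
    obtain ⟨w, rfl⟩ := (Submodule.mem_span_range_iff_exists_fun _).1 hc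
    simp only [Fin.sum_univ_two, Matrix.cons_val_zero, Matrix.cons_val_one, Algebra.smul_def, mul_one]
    exact add_mem (IntermediateField.algebraMap_mem _ _)
      (mul_mem (IntermediateField.algebraMap_mem _ _) (mem_adjoin_simple_self k x))
  have hzm : z ∈ k⟮x⟯ := hMle z ((mem_L_iff_ord hz).2 fun R => by
    have := congrArg (fun D : Divisor k K => D R) he
    simp only [Finsupp.add_apply, div_apply hF] at this
    have := poles_nonneg (k := k) x' R
    simp only [Finsupp.coe_zero, Pi.zero_apply] at this
    omega)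
  have hzx : z * x' ∈ k⟮x⟯ := hMle _ ((mem_L_iff_ord (mul_ne_zero hz hx0')).2 fun R => by
    have := congrArg (fun D : Divisor k K => D R) he
    simp only [Finsupp.add_apply, div_apply hF] at this
    have h3 : (poles x' : Divisor k K) R = max (-R.ord x') 0 := by simp [poles, div_apply hF]
    rw [ord_mul R hz hx0']
    omega)
  have hxm : x' ∈ k⟮x⟯ := by
    have := mul_mem (inv_mem hzm) hzx
    rwa [inv_mul_cancel_left₀ hz] at this
  haveI : FiniteDimensional k⟮x'⟯ K := Module.finite_of_finrank_pos (by omega)
  exact IntermediateField.eq_of_le_of_finrank_eq' (adjoin_simple_le_iff.2 hxm) (by rw [hdeg, hdeg'])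

end Groth.Agent.CurveCover
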