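import Groth.Agent.CurveCover.Involution
import Groth.Agent.FFLib.Small

/-! Invertible modules on a curve and their divisor classes. -/

noncomputable section

set_option linter.style.haveILetI false
set_option linter.unusedSectionVars false
set_option backward.isDefEq.respectTransparency false
set_option backward.isDefEq.respectTransparency.types false
set_option autoImplicit false
set_option maxHeartbeats 1000000

universe u

open CategoryTheory CategoryTheory.Limits AlgebraicGeometry TopologicalSpace Opposite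
open FunFld Groth.Agent.FFLib

namespace Groth.Agent.CurveCover

attribute [local instance] CurveFF.ffAlg isIntegral_line

theorem div_mul' {k K : Type*} [Field k] [Field K] [Algebra k K] (hF : IsFF k K) {x y : K}
    (hx : x ≠ 0) (hy : y ≠ 0) : FunFld.div k (x * y) = FunFld.div k x + FunFld.div k y := by
  ext P
  rw [Finsupp.add_apply, div_apply hF, div_apply hF, div_apply hF, ord_mul P hx hy]

variable (k : Type u) [Field k] [IsAlgClosed k] {X : Scheme.{u}} [X.Over (Spec (CommRingCat.of k))] [IsIntegral X]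
  [IsProper (X ↘ Spec (CommRingCat.of k))] [Smooth (X ↘ Spec (CommRingCat.of k))]
  (hdim : topologicalKrullDim X = 1)

/-- `M` is represented by the divisor `D`. -/
def HasDiv (M : X.Modules) (D : Divisor k X.functionField) : Prop :=
  ∃ (hM : PicF.IsInvertible M) (U₀ : X.Opens) (h₀ : genericPoint X ∈ U₀) (a : Γ(M, U₀)) (ha : InvX.IsFrame a),
    CurveFF.divisor k hdim hM ha h₀ = D

variable {k hdim}

theorem exists_hasDiv {M : X.Modules} (hM : PicF.IsInvertible M) : ∃ D, HasDiv k hdim M D := by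
  obtain ⟨U, hU, a, ha⟩ := InvX.exists_frame hM (genericPoint X)
  exact ⟨_, hM, U, hU, a, ha, rfl⟩

theorem HasDiv.inv {M : X.Modules} {D : Divisor k X.functionField} (h : HasDiv k hdim M D) :
    PicF.IsInvertible M := h.choose

theorem HasDiv.congr {M N : X.Modules} {D : Divisor k X.functionField} (h : HasDiv k hdim M D) (φ : M ≅ N) :
    HasDiv k hdim N D := by
  obtain ⟨hM, U, hU, a, ha, rfl⟩ := h
  exact ⟨H23.PicMul.isInvertible_of_iso φ hM, U, hU, _, InvX.IsFrame.map_iso φ ha,
    CurveFF.divisor_iso k hdim hM ha hU (H23.PicMul.isInvertible_of_iso φ hM) φ⟩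

theorem HasDiv.tensor {M N : X.Modules} {D E : Divisor k X.functionField} (h : HasDiv k hdim M D)
    (h' : HasDiv k hdim N E) : HasDiv k hdim (CohB1.tensorMod M N) (D + E) := by
  obtain ⟨hM, U, hU, a, ha, rfl⟩ := h
  obtain ⟨hN, V, hV, b, hb, rfl⟩ := h'
  have hW : genericPoint X ∈ U ⊓ V := ⟨hU, hV⟩
  refine ⟨InvX.isInvertible_tensorMod hM hN, U ⊓ V, hW, _,
    InvX.isFrame_tmul (ha.res inf_le_left) (hb.res inf_le_right), ?_⟩
  rw [CurveFF.divisor_tensor k hdim hM (ha.res inf_le_left) hW hN (hb.res inf_le_right),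
    CurveFF.divisor_res k hdim hM ha hU inf_le_left hW, CurveFF.divisor_res k hdim hN hb hV inf_le_right hW]

theorem HasDiv.deg_eq {M : X.Modules} {D : Divisor k X.functionField} (h : HasDiv k hdim M D) :
    D.deg = Curv2.deg k X M 1 := by
  obtain ⟨hM, U, hU, a, ha, rfl⟩ := h
  exact CurveFF.deg_divisor k hdim hM ha hU

theorem HasDiv.h0_eq {M : X.Modules} {D : Divisor k X.functionField} (h : HasDiv k hdim M D) :
    Module.finrank k (Coh.HH X M 0) = ell D := by
  obtain ⟨hM, U, hU, a, ha, rfl⟩ := h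
  exact CurveFF.finrank_h0_eq_ell k hdim hM ha hU

theorem HasDiv.structure {D : Divisor k X.functionField} (h : HasDiv k hdim (Coh.structureModule X) D) :
    ∃ z, z ≠ 0 ∧ D + FunFld.div k z = 0 := by
  haveI := CurveCohLib.isNoetherian_of_proper (k := k) (X := X)
  have h1 := h.h0_eq
  rw [CurveCohLib.Clifford.finrank_h0_structure k] at h1
  refine exists_div_of_deg_zero (CurveFF.isFunctionField k X hdim).1 ?_ (by omega)
  rw [h.deg_eq, CurveDeg.deg_structureModule]

/-- Two divisors of the same module differ by a principal one. -/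
theorem HasDiv.unique {M : X.Modules} {D D' : Divisor k X.functionField} (h : HasDiv k hdim M D)
    (h' : HasDiv k hdim M D') : ∃ z, z ≠ 0 ∧ D' = D + FunFld.div k z := by
  haveI := CurveCohLib.isNoetherian_of_proper (k := k) (X := X)
  obtain ⟨N, hN, ⟨ε⟩⟩ := H23.PicInv.exists_inverse h.inv
  obtain ⟨E, hE⟩ := exists_hasDiv (k := k) (hdim := hdim) hN
  obtain ⟨z, hz, h1⟩ := ((h.tensor hE).congr ε).structure
  obtain ⟨z', hz', h2⟩ := ((h'.tensor hE).congr ε).structure
  refine ⟨z * z'⁻¹, mul_ne_zero hz (inv_ne_zero hz'), ?_⟩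
  rw [div_mul' (CurveFF.isFunctionField k X hdim).1 hz (inv_ne_zero hz'),
    div_inv (CurveFF.isFunctionField k X hdim).1]
  have h3 : D + E + FunFld.div k z = D' + E + FunFld.div k z' := h1.trans h2.symm
  calc D' = D' + E + FunFld.div k z' - E - FunFld.div k z' := by abel
    _ = D + E + FunFld.div k z - E - FunFld.div k z' := by rw [h3]
    _ = D + (FunFld.div k z + -FunFld.div k z') := by abel

/-- Linearly equivalent divisors give isomorphic modules. -/
theorem HasDiv.nonempty_iso {M N : X.Modules} {D : Divisor k X.functionField} {z : X.functionField} (hz : z ≠ 0)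
    (h : HasDiv k hdim M D) (h' : HasDiv k hdim N (D + FunFld.div k z)) : Nonempty (M ≅ N) := by
  haveI := CurveCohLib.isNoetherian_of_proper (k := k) (X := X)
  have hK := CurveFF.isFunctionField k X hdim
  obtain ⟨N', hN', ⟨ε⟩⟩ := H23.PicInv.exists_inverse h'.inv
  obtain ⟨E, hE⟩ := exists_hasDiv (k := k) (hdim := hdim) hN'
  obtain ⟨z', hz', h1⟩ := ((h'.tensor hE).congr ε).structure
  have hT := h.tensor hE
  have hDE : D + E = 0 + FunFld.div k (z * z')⁻¹ := by
    rw [div_inv hK.1, div_mul' hK.1 hz hz', zero_add]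
    calc D + E = D + FunFld.div k z + E + FunFld.div k z' - (FunFld.div k z + FunFld.div k z') := by abel
      _ = _ := by rw [h1, zero_sub]
  have hd : Curv2.deg k X (CohB1.tensorMod M N') 1 = 0 := by
    rw [← hT.deg_eq, hDE, zero_add, deg_div hK.1]
  have h0 : Module.finrank k (Coh.HH X (CohB1.tensorMod M N') 0) ≠ 0 := by
    rw [hT.h0_eq, hDE, ell_add_div hK.1 _ (inv_ne_zero (mul_ne_zero hz hz')), ell_zero hK]
    exact one_ne_zero
  obtain ⟨s, hs⟩ := CurveRR.exists_hom_ne_zero k h0
  haveI := (CurveDeg.deg_le_and_isIso k hdim.le CurveDeg.isInvertible_structureModule hT.inv s hs).2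
    (by rw [hd, CurveDeg.deg_structureModule])
  letI := H23.PicMul.clMonoid X
  have e1 : PicF.cl M * PicF.cl N' = 1 := by
    rw [← H23.PicMul.cl_tensor, H23.PicMul.one_def, H23.PicMul.cl_eq_iff]; exact ⟨(asIso s).symm⟩
  have e2 : PicF.cl N * PicF.cl N' = 1 := by
    rw [← H23.PicMul.cl_tensor, H23.PicMul.one_def, H23.PicMul.cl_eq_iff]; exact ⟨ε⟩
  exact H23.PicMul.cl_eq_iff.1 (left_inv_eq_right_inv e1 ((mul_comm _ _).trans e2))

variable (k hdim)

include hdim in
/-- The module of a point and the divisor of the point. -/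
theorem exists_hasDiv_point (R : CurveFF.Pt X) :
    ∃ (M : X.Modules) (z : X.functionField), z ≠ 0 ∧
      HasDiv k hdim (CurvePoint.ptMod R.1 R.2) (-Finsupp.single (CurveFF.pl k X hdim R) 1 + FunFld.div k z) ∧
      HasDiv k hdim M (Finsupp.single (CurveFF.pl k X hdim R) 1) := by
  obtain ⟨O, hO⟩ := R
  have hr : letI := Curv2.resAlgebra k X O; Module.finrank k (X.residueField O) = 1 := by
    letI := Curv2.resAlgebra k X O
    haveI := CurveCohLib.isNoetherian_of_proper (k := k) (X := X)
    have hb : Function.Bijective (Algebra.linearMap k (X.residueField O)) :=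
      ⟨(Curv2.resMap k X O).injective, CurveSection.surjective_resMap k hO⟩
    rw [← (LinearEquiv.ofBijective _ hb).finrank_eq, Module.finrank_self]
  obtain ⟨M, s, hM, hMd, hs, ⟨ε⟩⟩ := exists_point_bundle_inv k hdim hO hr
  let U₀ := H23.TrivBasic.locus s
  have h₀ : genericPoint X ∈ U₀ := (hs _).2 fun h => by
    have := CurveFF.isDVR k X hdim hO
    subst h
    exact IsDiscreteValuationRing.not_isField _ (Field.toIsField X.functionField)
  have he₀ : InvX.IsFrame (AModX.res M (le_top : U₀ ≤ ⊤) s) := H23.TrivBasic.isFrame_res_of_le_locus le_rfl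
  have hK := CurveFF.isFunctionField k X hdim
  obtain ⟨c, hc⟩ : ∃ c, CurveFF.divisor k hdim hM he₀ h₀ = Finsupp.single (CurveFF.pl k X hdim ⟨O, hO⟩) c := by
    refine ⟨_, (Finsupp.eq_single_iff (b := CurveFF.divisor k hdim hM he₀ h₀ (CurveFF.pl k X hdim ⟨O, hO⟩))).2
      ⟨fun Q hQ => ?_, rfl⟩⟩
    obtain ⟨z, rfl⟩ := (CurveFF.pl k X hdim).surjective Q
    rw [Finset.mem_singleton, (CurveFF.pl k X hdim).injective.eq_iff]
    refine Subtype.ext ?_
    by_contra hne'
    refine Finsupp.mem_support_iff.1 hQ ?_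
    show CurveFF.ordFun k hdim hM he₀ h₀ ((CurveFF.pl k X hdim).symm (CurveFF.pl k X hdim z)) = 0
    rw [Equiv.symm_apply_apply]
    exact CurveFF.ordFun_eq_zero k hdim hM he₀ h₀ ((hs _).2 hne')
  have hd := CurveFF.deg_divisor k hdim hM he₀ h₀
  rw [hc, Divisor.deg_single, deg_eq_one hK.1, hMd, Nat.cast_one, mul_one] at hd
  rw [hd] at hc
  have hMdiv : HasDiv k hdim M (Finsupp.single (CurveFF.pl k X hdim ⟨O, hO⟩) 1) := ⟨hM, U₀, h₀, _, he₀, hc⟩
  obtain ⟨E, hE⟩ := exists_hasDiv (k := k) (hdim := hdim)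
    (CurvePoint.isInvertible_ptMod O hO k hdim)
  obtain ⟨z, hz, h1⟩ := ((hE.tensor hMdiv).congr ε).structure
  refine ⟨M, z⁻¹, inv_ne_zero hz, ?_, hMdiv⟩
  have : -Finsupp.single (CurveFF.pl k X hdim ⟨O, hO⟩) 1 + FunFld.div k z⁻¹ = E := by
    rw [div_inv hK.1]
    calc _ = E - (E + Finsupp.single (CurveFF.pl k X hdim ⟨O, hO⟩) 1 + FunFld.div k z) := by abel
      _ = E := by rw [h1, sub_zero]
  rw [this]
  exact hE

include hdim in
theorem exists_point_module (R : CurveFF.Pt X) :
    ∃ M : X.Modules, HasDiv k hdim M (Finsupp.single (CurveFF.pl k X hdim R) 1) := by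
  obtain ⟨M, -, -, -, h⟩ := exists_hasDiv_point k hdim R
  exact ⟨M, h⟩

include hdim in
theorem exists_div_ptMod (R : CurveFF.Pt X) :
    ∃ z, z ≠ 0 ∧ HasDiv k hdim (CurvePoint.ptMod R.1 R.2)
      (-Finsupp.single (CurveFF.pl k X hdim R) 1 + FunFld.div k z) := by
  obtain ⟨-, z, hz, h, -⟩ := exists_hasDiv_point k hdim R
  exact ⟨z, hz, h⟩

include hdim in
/-- The pullback of the twist is given by the poles of the coordinate. -/
theorem hasDiv_pullback (f : X ⟶ CohB1.ProjSpace 1 k)
    (hf : f ≫ CohB1.ProjSpace.toSpec 1 k = X ↘ Spec (CommRingCat.of k)) [IsFinite f] :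
    HasDiv k hdim ((Scheme.Modules.pullback f).obj (Twist.twistProjSpace 1 k 1))
      (poles (coordX k f hf hdim 0 1)) := by
  have hF := (CurveFF.isFunctionField k X hdim).1
  have hL := PicClLib.isInvertible_pullback f (isInvertible_twist k 1)
  have h₀ := gen_mem_Uc k f hf hdim 0
  refine ⟨hL, CurveVA.Uc k f 0, h₀, frm k f 0, isFrame_frm k f 0, Finsupp.ext fun P => ?_⟩
  obtain ⟨z, rfl⟩ := (CurveFF.pl k X hdim).surjective P
  let x := coordX k f hf hdim 0 1
  have hpol : poles (k := k) x (CurveFF.pl k X hdim z) = max (-(CurveFF.pl k X hdim z).ord x) 0 := by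
    simp [poles, div_apply hF]
  rw [hpol]
  by_cases hz : z.1 ∈ CurveVA.Uc k f 0
  · have hD : CurveFF.divisor k hdim hL (isFrame_frm k f 0) h₀ (CurveFF.pl k X hdim z) = 0 := by
      show CurveFF.ordFun k hdim hL (isFrame_frm k f 0) h₀ ((CurveFF.pl k X hdim).symm (CurveFF.pl k X hdim z)) = 0
      rw [Equiv.symm_apply_apply]
      exact CurveFF.ordFun_eq_zero k hdim hL (isFrame_frm k f 0) h₀ hz
    rw [hD]
    have hle : (CurveFF.pl k X hdim z).1 x ≤ 1 :=
      (CurveFF.inR_iff k X hdim z _).1 (CurveCohLib.Polar.inR_gη hz (CurveVA.β k f 0 1))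
    by_cases hx : x = 0
    · simp [hx]
    · rw [val_le_one_iff _ hx] at hle
      omega
  · obtain ⟨j, hj⟩ := exists_mem_Uc k f z.1
    obtain rfl : j = 1 := by
      rcases (show ∀ i : Fin (1 + 1), i = 0 ∨ i = 1 by decide) j with rfl | rfl
      · exact absurd hj hz
      · rfl
    have h₁ := gen_mem_Uc k f hf hdim 1
    let y := coordX k f hf hdim 1 0
    have hy0 : y ≠ 0 := fun h => one_ne_zero (α := X.functionField) (by
      rw [← coordX_mul k f hf hdim]; show _ * y = 0; rw [h, mul_zero])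
    have hrat : CurveFF.ratio (isFrame_frm k f 0) h₀ h₁ (frm k f 1) = x := by
      refine CurveFF.ratio_eq (isFrame_frm k f 0) ?_
      have e1 : CurveFF.gM h₁ (AModX.res _ (le_top : CurveVA.Uc k f 1 ≤ ⊤) (sec k f 0)) =
          y • CurveFF.gM h₁ (frm k f 1) := by
        rw [res_sec]
        exact CurveFF.gM_smul h₁ _ _
      have e2 : CurveFF.gM h₀ (frm k f 0) = y • CurveFF.gM h₁ (frm k f 1) := by
        rw [← e1, CurveFF.gM_res, CurveFF.gM_res]
      rw [e2, smul_smul]
      have : x * y = 1 := coordX_mul k f hf hdim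
      rw [this, one_smul]
    have hexp := CurveFF.exp_divisor k hdim hL (isFrame_frm k f 0) h₀ (isFrame_frm k f 1) h₁ hj
    rw [hrat] at hexp
    have hx0 : x ≠ 0 := fun h => one_ne_zero (α := X.functionField) (by
      rw [← coordX_mul k f hf hdim]; show x * _ = 0; rw [h, zero_mul])
    have hle : (CurveFF.pl k X hdim z).1 y ≤ 1 :=
      (CurveFF.inR_iff k X hdim z _).1 (CurveCohLib.Polar.inR_gη hj (CurveVA.β k f 1 0))
    rw [val_le_one_iff _ hy0, show y = x⁻¹ from coordX_inv k f hf hdim, ord_inv] at hle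
    rw [val_eq_exp _ hx0, WithZero.exp_inj] at hexp
    omega

end Groth.Agent.CurveCover
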