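import Groth.Agent.CurveCover.FibreConj
import Groth.Agent.CurveCover.PicDiv

/-! Involutions of curves of genus one. -/

noncomputable section

set_option linter.style.haveILetI false
set_option linter.unusedSectionVars false
set_option backward.isDefEq.respectTransparency false
set_option backward.isDefEq.respectTransparency.types false
set_option autoImplicit false
set_option maxHeartbeats 1000000

universe u

open CategoryTheory CategoryTheory.Limits AlgebraicGeometry TopologicalSpace Opposite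
open FunFld Groth.Agent.FFLib

namespace Groth.Agent.CurveCover

attribute [local instance] CurveFF.ffAlg isIntegral_line

variable (k : Type u) [Field k] [IsAlgClosed k] {X : Scheme.{u}} [X.Over (Spec (CommRingCat.of k))] [IsIntegral X]
  [IsProper (X ↘ Spec (CommRingCat.of k))] [Smooth (X ↘ Spec (CommRingCat.of k))]
  (hdim : topologicalKrullDim X = 1)

include hdim in
/-- A double cover of the line by a curve of positive genus has a deck involution. -/
theorem exists_deck (hg : 1 ≤ Curv2.genus k X) (f : X ⟶ CohB1.ProjSpace 1 k)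
    (hf : f ≫ CohB1.ProjSpace.toSpec 1 k = X ↘ Spec (CommRingCat.of k)) [IsFinite f]
    (hdeg : f.residueDegree (genericPoint X) = 2) :
    ∃ (σ : X ⟶ X) (hp : σ ≫ (X ↘ Spec (CommRingCat.of k)) = X ↘ Spec (CommRingCat.of k)) (hσ : σ ≫ σ = 𝟙 X),
      σ ≫ f = f ∧ ffAut k σ hp hσ ≠ AlgEquiv.refl := by
  classical
  haveI := CurveCohLib.isNoetherian_of_proper (k := k) (X := X)
  haveI := isProper_line k
  let K := X.functionField
  have h0 : Module.finrank k (Coh.HH X (Coh.structureModule X) 0) = 1 :=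
    CurveCohLib.Clifford.finrank_h0_structure k
  let x : K := coordX k f hf hdim 0 1
  let E := IntermediateField.adjoin k ({x} : Set K)
  have hd2 : Module.finrank E K = 2 := finrank_adjoin k f hf hdim hdeg
  haveI : Algebra.IsSeparable E K := isSeparable_adjoin k f hf hdim
    ((isSeparable_residue_iff (map_gen k f hf hdim)).1 (separable_of_degree_two k X hdim h0 hg f hf hdeg))
  haveI : Algebra.IsQuadraticExtension E K := { finrank_eq_two' := hd2 }
  haveI : FiniteDimensional E K := Module.finite_of_finrank_pos (by omega)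
  haveI : IsGalois E K := inferInstance
  have hc2 : Nat.card (K ≃ₐ[E] K) = 2 := (IsGalois.card_aut_eq_finrank E K).trans hd2
  obtain ⟨s, hs⟩ : ∃ s : K ≃ₐ[E] K, s ≠ 1 := by
    by_contra! hall
    haveI : Subsingleton (K ≃ₐ[E] K) := ⟨fun a b => (hall a).trans (hall b).symm⟩
    rw [Nat.card_of_subsingleton (1 : K ≃ₐ[E] K)] at hc2
    omega
  have hs2 : ∀ c, s (s c) = c := fun c => by
    have h := pow_card_eq_one' (x := s)
    rw [hc2, pow_two] at h
    exact congr($h c)
  have hsE : ∀ c : K, c ∈ E → s c = c := fun c hc => s.commutes ⟨c, hc⟩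
  have hff : (s : K →+* K).comp (CurveTrace.ff (map_gen k f hf hdim)) = CurveTrace.ff (map_gen k f hf hdim) :=
    RingHom.ext fun c => hsE _ (ff_mem_adjoin k f hf hdim c)
  haveI : (CohB1.ProjSpace 1 k).IsSeparated := ⟨by
    rw [← Limits.terminal.comp_from ((CohB1.ProjSpace 1 k) ↘ Spec (CommRingCat.of k))]; infer_instance⟩
  obtain ⟨σ, hσf, hσs⟩ := exists_hom_of_ff
    (CurveLuroth.valuationRing_stalk (k := k) (X := X) hdim fun x hx =>
      CurveEmbed.isIntegrallyClosed_of_smooth k hdim hx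
        ((Scheme.Hom.smoothLocus_eq_top (f := X ↘ Spec (CommRingCat.of k))).ge (Set.mem_univ x)))
    f (map_gen k f hf hdim) (s : K →+* K) hff
  have hp : σ ≫ (X ↘ Spec (CommRingCat.of k)) = X ↘ Spec (CommRingCat.of k) := by rw [← hf, reassoc_of% hσf]
  obtain ⟨e, -, -⟩ := deck_data k f hf hdim σ hσf
  have hφ : (s : K →+* K) = CurveTrace.ff e := ff_unique e _ hσs.symm
  have hσ : σ ≫ σ = 𝟙 X := by
    have e2 : (σ ≫ σ) (genericPoint X) = genericPoint X := by rw [Scheme.Hom.comp_apply, e, e]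
    refine hom_ext_ff (X ↘ Spec (CommRingCat.of k)) (by rw [Category.assoc, hp, hp, Category.id_comp]) e2 rfl ?_
    rw [ff_id, ← ff_comp rfl e e e2, ← hφ]
    exact RingHom.ext hs2
  refine ⟨σ, hp, hσ, hσf, fun hid => hs (AlgEquiv.ext fun c => ?_)⟩
  exact (RingHom.congr_fun hφ c).trans (congr($hid c))

include hdim in
/-- The points of a fibre add up to the poles of the coordinate. -/
theorem exists_poles_eq (f : X ⟶ CohB1.ProjSpace 1 k)
    (hf : f ≫ CohB1.ProjSpace.toSpec 1 k = X ↘ Spec (CommRingCat.of k)) [IsFinite f]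
    (hdeg : f.residueDegree (genericPoint X) = 2)
    (σ : X ⟶ X) (hp : σ ≫ (X ↘ Spec (CommRingCat.of k)) = X ↘ Spec (CommRingCat.of k)) (hσ : σ ≫ σ = 𝟙 X)
    (hσf : σ ≫ f = f) (hne : ffAut k σ hp hσ ≠ AlgEquiv.refl) (R : CurveFF.Pt X) :
    ∃ z : X.functionField, z ≠ 0 ∧ (poles (coordX k f hf hdim 0 1) : Divisor k X.functionField) =
      Finsupp.single (CurveFF.pl k X hdim R) 1 +
        Finsupp.single (CurveFF.pl k X hdim ⟨σ R.1, isClosed_image σ hσ R.2⟩) 1 + FunFld.div k z := by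
  have hF := (CurveFF.isFunctionField k X hdim).1
  have hinv : ∀ c, ffAut k σ hp hσ (ffAut k σ hp hσ c) = c := fun c =>
    RingHom.congr_fun ((ff_comp hσ (map_gen_invol σ hσ) (map_gen_invol σ hσ) rfl).trans (ff_id rfl)) c
  obtain ⟨e, -, he⟩ := deck_data k f hf hdim σ hσf
  have hsx : ffAut k σ hp hσ (coordX k f hf hdim 0 1) = coordX k f hf hdim 0 1 :=
    he _ (IntermediateField.mem_adjoin_simple_self k _)
  rw [← placeComap_pl k hdim σ hp hσ R]
  exact exists_poles_eq_pair _ hinv hne hF (transcendental_coordX k f hf hdim hdeg)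
    (finrank_adjoin k f hf hdim hdeg) hsx _

include hdim in
/-- The involution exchanging two points of a curve of genus one. -/
theorem exists_swap (hg : Curv2.genus k X = 1) (P Q : CurveFF.Pt X) :
    ∃ (f : X ⟶ CohB1.ProjSpace 1 k) (hf : f ≫ CohB1.ProjSpace.toSpec 1 k = X ↘ Spec (CommRingCat.of k))
      (_ : IsFinite f) (σ : X ⟶ X) (hp : σ ≫ (X ↘ Spec (CommRingCat.of k)) = X ↘ Spec (CommRingCat.of k))
      (hσ : σ ≫ σ = 𝟙 X), σ ≫ f = f ∧ f.residueDegree (genericPoint X) = 2 ∧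
        ffAut k σ hp hσ ≠ AlgEquiv.refl ∧ σ P.1 = Q.1 ∧
        ∃ z : X.functionField, z ≠ 0 ∧ (poles (coordX k f hf hdim 0 1) : Divisor k X.functionField) =
          Finsupp.single (CurveFF.pl k X hdim P) 1 + Finsupp.single (CurveFF.pl k X hdim Q) 1 + FunFld.div k z := by
  classical
  haveI := CurveCohLib.isNoetherian_of_proper (k := k) (X := X)
  have hK := CurveFF.isFunctionField k X hdim
  have hgK : FunFld.genus k X.functionField = 1 := (CurveFF.genus_eq k hdim).trans hg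
  obtain ⟨MP, hMP⟩ := exists_point_module k hdim P
  obtain ⟨MQ, hMQ⟩ := exists_point_module k hdim Q
  have hL := hMP.tensor hMQ
  let L := CohB1.tensorMod MP MQ
  have hd : (Finsupp.single (CurveFF.pl k X hdim P) 1 + Finsupp.single (CurveFF.pl k X hdim Q) 1 :
      Divisor k X.functionField).deg = 2 := by
    rw [Divisor.deg_add, Divisor.deg_single, Divisor.deg_single, deg_eq_one hK.1, deg_eq_one hK.1]
    norm_num
  have hd2 : Curv2.deg k X L 1 = 2 := hL.deg_eq.symm.trans hd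
  have hh : Module.finrank k (Coh.HH X L 0) = 2 := by
    have h := ell_of_deg_gt hK (D := Finsupp.single (CurveFF.pl k X hdim P) 1 +
      Finsupp.single (CurveFF.pl k X hdim Q) 1) (by rw [hd, hgK]; norm_num)
    rw [hd, hgK] at h
    rw [hL.h0_eq]
    push_cast at h
    omega
  have h0 : Module.finrank k (Coh.HH X (Coh.structureModule X) 0) = 1 :=
    CurveCohLib.Clifford.finrank_h0_structure k
  obtain ⟨f, hf, hfin, ⟨τ⟩⟩ := exists_pencil k X hdim h0 hg.ge hL.inv hd2 hh
  haveI := hfin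
  have hdeg : f.residueDegree (genericPoint X) = 2 := by
    have h := residueDegree_pencil k X hdim h0 f hf
    rw [CurveRR.deg_congr k τ 1, hd2] at h
    exact_mod_cast h
  obtain ⟨z, hz, hzeq⟩ := hL.unique ((hasDiv_pullback k hdim f hf).congr τ)
  obtain ⟨σ, hp, hσ, hσf, hne⟩ := exists_deck k hdim hg.ge f hf hdeg
  refine ⟨f, hf, hfin, σ, hp, hσ, hσf, hdeg, hne, ?_, z, hz, hzeq⟩
  obtain ⟨w, hw, hweq⟩ := exists_poles_eq k hdim f hf hdeg σ hp hσ hσf hne P
  let Q' : CurveFF.Pt X := ⟨σ P.1, isClosed_image σ hσ P.2⟩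
  let p' := CurveFF.pl k X hdim Q'
  let q := CurveFF.pl k X hdim Q
  suffices h : p' = q from congrArg Subtype.val ((CurveFF.pl k X hdim).injective h)
  by_contra hpq
  have heq : Finsupp.single p' (1 : ℤ) + FunFld.div k w = Finsupp.single q 1 + FunFld.div k z := by
    have := hweq.symm.trans hzeq
    rw [add_assoc, add_assoc] at this
    exact add_left_cancel this
  let c := w * z⁻¹
  have hc : c ≠ 0 := mul_ne_zero hw (inv_ne_zero hz)
  have hdc : FunFld.div k c = Finsupp.single q 1 - Finsupp.single p' 1 := by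
    rw [div_mul' hK.1 hw (inv_ne_zero hz), div_inv hK.1]
    calc FunFld.div k w + -FunFld.div k z = Finsupp.single p' 1 + FunFld.div k w - Finsupp.single p' 1 - FunFld.div k z := by abel
      _ = _ := by rw [heq]; abel
  have hord : ∀ R, R.ord c = (Finsupp.single q (1 : ℤ) : Divisor k X.functionField) R -
      (Finsupp.single p' (1 : ℤ) : Divisor k X.functionField) R := fun R => by
    rw [← div_apply hK.1, hdc, Finsupp.sub_apply]
  have hcL : c ∈ FunFld.L (Finsupp.single p' 1 : Divisor k X.functionField) := (mem_L_iff_ord hc).2 fun R => by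
    rw [hord]
    have : (0 : ℤ) ≤ (Finsupp.single q (1 : ℤ) : Divisor k X.functionField) R := by
      rw [Finsupp.single_apply]; split_ifs <;> norm_num
    omega
  have hell := ell_single_one hK (by omega) (deg_eq_one hK.1 p')
  haveI := L_finite hK.1 (Finsupp.single p' 1 : Divisor k X.functionField)
  have h1 : (1 : X.functionField) ∈ FunFld.L (Finsupp.single p' 1 : Divisor k X.functionField) := fun R => by
    rw [map_one, ← WithZero.exp_zero, WithZero.exp_le_exp, Finsupp.single_apply]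
    split_ifs <;> norm_num
  obtain ⟨a, ha⟩ := (finrank_eq_one_iff_of_nonzero' (⟨1, h1⟩ : FunFld.L (Finsupp.single p' 1 : Divisor k X.functionField))
    (fun h => one_ne_zero (α := X.functionField) (congrArg Subtype.val h))).1 hell ⟨c, hcL⟩
  have hca : c = algebraMap k X.functionField a := by
    have := congrArg Subtype.val ha
    simp only [SetLike.val_smul, Algebra.smul_def, mul_one] at this
    exact this.symm
  have := hord q
  rw [hca, ord_algebraMap, Finsupp.single_eq_same, Finsupp.single_eq_of_ne (Ne.symm hpq)] at this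
  norm_num at this

include hdim in
/-- A cover whose pushforward is free of rank two has degree two. -/
theorem finrank_of_push (f : X ⟶ CohB1.ProjSpace 1 k)
    (hf : f ≫ CohB1.ProjSpace.toSpec 1 k = X ↘ Spec (CommRingCat.of k)) [IsFinite f]
    (hd : FlatMod.IsFinLocFreeOfRank 2 ((Scheme.Modules.pushforward f).obj (Coh.structureModule X)))
    (y : ↥(CohB1.ProjSpace 1 k)) : f.finrank y = 2 := by
  obtain ⟨hflat, hlfp, -⟩ := flat_and_finrank k hdim f hf
  haveI := hflat
  haveI := hlfp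
  obtain ⟨U, hU, hy, ⟨l⟩⟩ := H23.CoverPush.crit_of_isFinLocFreeOfRank_push f hd y
  letI := H23.CoverPush.alg f U
  haveI : Module.Free Γ(CohB1.ProjSpace 1 k, U) Γ(X, f ⁻¹ᵁ U) := Module.Free.of_equiv l.symm
  haveI : Module.Finite Γ(CohB1.ProjSpace 1 k, U) Γ(X, f ⁻¹ᵁ U) := Module.Finite.equiv l.symm
  haveI : Nontrivial Γ(CohB1.ProjSpace 1 k, U) :=
    ((CohB1.ProjSpace 1 k).presheaf.germ U y hy).hom.domain_nontrivial
  rw [H23.CoverPush.finrank_eq f hU hy, Module.rankAtStalk_eq_finrank_of_free, Pi.natCast_apply, l.finrank_eq,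
    Module.finrank_finsupp_self, Fintype.card_ulift, Fintype.card_fin]
  rfl

include hdim in
/-- A double cover of the line by a curve of genus one has a point doubled in its fibre. -/
theorem exists_double (hg : Curv2.genus k X = 1) (h2 : (2 : k) ≠ 0) (f : X ⟶ CohB1.ProjSpace 1 k)
    (hf : f ≫ CohB1.ProjSpace.toSpec 1 k = X ↘ Spec (CommRingCat.of k)) [IsFinite f]
    (hr : ∀ y : ↥(CohB1.ProjSpace 1 k), f.finrank y = 2) :
    ∃ (P : CurveFF.Pt X) (σ : X ⟶ X) (hp : σ ≫ (X ↘ Spec (CommRingCat.of k)) = X ↘ Spec (CommRingCat.of k))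
      (hσ : σ ≫ σ = 𝟙 X), σ ≫ f = f ∧ σ P.1 = P.1 ∧ ffAut k σ hp hσ ≠ AlgEquiv.refl := by
  obtain ⟨σ, hp, hσ, hσf, hcard⟩ := exists_deck_fixed k hdim h2 hg.ge f hf hr
  haveI : Finite {x : X // IsClosed ({x} : Set X) ∧ σ x = x} := Nat.finite_of_card_ne_zero (by omega)
  obtain ⟨⟨x, hx, hxσ⟩⟩ : Nonempty {x : X // IsClosed ({x} : Set X) ∧ σ x = x} :=
    (Nat.card_pos_iff.1 (by omega)).1
  refine ⟨⟨x, hx⟩, σ, hp, hσ, hσf, hxσ, fun hid => ?_⟩
  haveI : Finite {P : Place k X.functionField // placeComap (ffAut k σ hp hσ) P = P} :=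
    Finite.of_equiv _ (fixedEquiv k hdim σ hp hσ)
  haveI := infinite_places k (X := X) hdim
  exact not_finite_iff_infinite.2 (inferInstance : Infinite (Place k X.functionField))
    (Finite.of_injective (fun P : Place k X.functionField =>
      (⟨P, place_eq_of_iff fun c => by rw [placeComap_apply, hid]; rfl⟩ :
        {P : Place k X.functionField // placeComap (ffAut k σ hp hσ) P = P}))
      fun P Q h => congrArg Subtype.val h)

include hdim in
/-- Any two double covers of the line by a curve of genus one differ by automorphisms. -/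
theorem exists_iso_covers (hg : Curv2.genus k X = 1) (h2 : (2 : k) ≠ 0)
    (f₁ f₂ : X ⟶ CohB1.ProjSpace 1 k) (hf₁ : f₁ ≫ CohB1.ProjSpace.toSpec 1 k = X ↘ Spec (CommRingCat.of k))
    (hf₂ : f₂ ≫ CohB1.ProjSpace.toSpec 1 k = X ↘ Spec (CommRingCat.of k)) [IsFinite f₁] [IsFinite f₂]
    (hr₁ : ∀ y : ↥(CohB1.ProjSpace 1 k), f₁.finrank y = 2) (hr₂ : ∀ y : ↥(CohB1.ProjSpace 1 k), f₂.finrank y = 2) :
    ∃ (σ : X ≅ X) (τ : CohB1.ProjSpace 1 k ≅ CohB1.ProjSpace 1 k),
      σ.hom ≫ (X ↘ Spec (CommRingCat.of k)) = X ↘ Spec (CommRingCat.of k) ∧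
      τ.hom ≫ CohB1.ProjSpace.toSpec 1 k = CohB1.ProjSpace.toSpec 1 k ∧ σ.hom ≫ f₂ = f₁ ≫ τ.hom := by
  classical
  haveI := isProper_line k
  haveI : IsProper (CohB1.ProjSpace.toSpec 1 k) := PnCoh.Chow.isProper_toSpec 1 k
  haveI := CurveCohLib.isNoetherian_of_proper (k := k) (X := X)
  obtain ⟨P₁, τ₁, hp₁, hτ₁, hτ₁f, hP₁, hne₁⟩ := exists_double k hdim hg h2 f₁ hf₁ hr₁
  obtain ⟨P₂, τ₂, hp₂, hτ₂, hτ₂f, hP₂, hne₂⟩ := exists_double k hdim hg h2 f₂ hf₂ hr₂
  obtain ⟨-, -, -, σ, hp, hσ, -, -, -, hPP, -⟩ := exists_swap k hdim hg P₁ P₂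
  have hPP' : σ P₂.1 = P₁.1 := by rw [← hPP, ← Scheme.Hom.comp_apply, hσ]; rfl
  let g := σ ≫ f₂
  have hg' : g ≫ CohB1.ProjSpace.toSpec 1 k = X ↘ Spec (CommRingCat.of k) := by
    show (σ ≫ f₂) ≫ _ = _
    rw [Category.assoc, hf₂, hp]
  haveI : IsIso σ := ⟨σ, hσ, hσ⟩
  haveI : IsFinite g := inferInstanceAs (IsFinite (σ ≫ f₂))
  haveI := (flat_and_finrank k hdim f₂ hf₂).1
  have hrg : ∀ y : ↥(CohB1.ProjSpace 1 k), g.finrank y = 2 := fun y => by
    show (σ ≫ f₂).finrank y = 2
    rw [Scheme.Hom.finrank_comp_left_of_isIso]; exact hr₂ y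
  let π := σ ≫ τ₂ ≫ σ
  have hπ : π ≫ π = 𝟙 X := by simp [π, reassoc_of% hσ, reassoc_of% hτ₂, hσ]
  have hπp : π ≫ (X ↘ Spec (CommRingCat.of k)) = X ↘ Spec (CommRingCat.of k) := by simp [π, hp, hp₂]
  have hπg : π ≫ g = g := by simp [π, g, reassoc_of% hσ, hτ₂f]
  have hπP : π P₁.1 = P₁.1 := by
    show (σ ≫ τ₂ ≫ σ) P₁.1 = _
    rw [Scheme.Hom.comp_apply, Scheme.Hom.comp_apply, hPP, hP₂, hPP']
  have hπne : ffAut k π hπp hπ ≠ AlgEquiv.refl := fun hid => by
    have hπid : π = 𝟙 X := hom_ext_ff (X ↘ Spec (CommRingCat.of k)) (hπp.trans (Category.id_comp _).symm)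
      (map_gen_invol π hπ) rfl (by
        rw [ff_id]
        exact RingHom.ext fun c => congr($hid c))
    have hτid : τ₂ = 𝟙 X := by
      have := congrArg (fun q => σ ≫ q ≫ σ) hπid
      simpa [π, reassoc_of% hσ, hσ] using this
    subst hτid
    refine hne₂ (AlgEquiv.ext fun c => ?_)
    exact RingHom.congr_fun (ff_id (map_gen_invol (𝟙 X) hτ₂)) c
  have hd₁ := residueDegree_eq_two k f₁ hf₁ hdim hr₁
  have hd := residueDegree_eq_two k g hg' hdim hrg
  obtain ⟨z₁, hz₁, he₁⟩ := exists_poles_eq k hdim f₁ hf₁ hd₁ τ₁ hp₁ hτ₁ hτ₁f hne₁ P₁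
  obtain ⟨z₂, hz₂, he₂⟩ := exists_poles_eq k hdim g hg' hd π hπp hπ hπg hπne P₁
  have hK := CurveFF.isFunctionField k X hdim
  rw [show (⟨τ₁ P₁.1, isClosed_image τ₁ hτ₁ P₁.2⟩ : CurveFF.Pt X) = P₁ from Subtype.ext hP₁] at he₁
  rw [show (⟨π P₁.1, isClosed_image π hπ P₁.2⟩ : CurveFF.Pt X) = P₁ from Subtype.ext hπP] at he₂
  have hF1 := finrank_adjoin k f₁ hf₁ hdim hd₁
  have hFg := finrank_adjoin k g hg' hdim hd
  have hpd : (poles (coordX k f₁ hf₁ hdim 0 1) : Divisor k X.functionField).deg = 2 := by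
    rw [deg_poles hK.1 (transcendental_coordX k f₁ hf₁ hdim hd₁), hF1]; norm_num
  have hell : ell (poles (coordX k f₁ hf₁ hdim 0 1) : Divisor k X.functionField) = 2 := by
    have hgK : FunFld.genus k X.functionField = 1 := (CurveFF.genus_eq k hdim).trans hg
    have := ell_of_deg_gt hK (D := poles (coordX k f₁ hf₁ hdim 0 1)) (by rw [hpd, hgK]; norm_num)
    rw [hpd, hgK] at this
    push_cast at this
    omega
  have hadj := adjoin_eq_of_poles hK.1 (transcendental_coordX k f₁ hf₁ hdim hd₁)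
    (transcendental_coordX k g hg' hdim hd) hF1 hFg hell (z := z₂ * z₁⁻¹) (mul_ne_zero hz₂ (inv_ne_zero hz₁)) (by
      rw [he₁, he₂, div_mul' hK.1 hz₂ (inv_ne_zero hz₁), div_inv hK.1]; abel)
  obtain ⟨a, ha, ha'⟩ := exists_factor_of_range (X ↘ Spec (CommRingCat.of k)) (CohB1.ProjSpace.toSpec 1 k)
    (CohB1.ProjSpace.toSpec 1 k) (valuationRing_line k) f₁ hf₁ (map_gen k f₁ hf₁ hdim) g hg' (map_gen k g hg' hdim)
    fun c => exists_ff_eq k f₁ hf₁ hdim _ (hadj.le (ff_mem_adjoin k g hg' hdim c))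
  obtain ⟨b, -, hb'⟩ := exists_factor_of_range (X ↘ Spec (CommRingCat.of k)) (CohB1.ProjSpace.toSpec 1 k)
    (CohB1.ProjSpace.toSpec 1 k) (valuationRing_line k) g hg' (map_gen k g hg' hdim) f₁ hf₁ (map_gen k f₁ hf₁ hdim)
    fun c => exists_ff_eq k g hg' hdim _ (hadj.ge (ff_mem_adjoin k f₁ hf₁ hdim c))
  obtain ⟨hfl₁, -, -⟩ := flat_and_finrank k hdim f₁ hf₁
  obtain ⟨hflg, -, -⟩ := flat_and_finrank k hdim g hg'
  haveI : Surjective f₁ := (Scheme.Hom.one_le_finrank_iff_surjective f₁).1 fun y => by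
    rw [hr₁ y]; exact one_le_two
  haveI : Surjective g := (Scheme.Hom.one_le_finrank_iff_surjective g).1 fun y => by
    rw [hrg y]; exact one_le_two
  refine ⟨⟨σ, σ, hσ, hσ⟩, ⟨a, b, ?_, ?_⟩, hp, ha, ha'.symm⟩
  · exact (cancel_epi f₁).1 (by rw [reassoc_of% ha', hb', Category.comp_id])
  · exact (cancel_epi g).1 (by rw [reassoc_of% hb', ha', Category.comp_id])

end Groth.Agent.CurveCover
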