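import Groth.Agent.CurveCover.Cover
import Groth.Agent.CurveEmbed.Points

/-! A rational point on a genus one curve gives a pencil of degree two. -/

noncomputable section

set_option linter.style.haveILetI false
set_option linter.unusedSectionVars false
set_option backward.isDefEq.respectTransparency false
set_option backward.isDefEq.respectTransparency.types false
set_option autoImplicit false

universe u

open CategoryTheory CategoryTheory.Limits AlgebraicGeometry TopologicalSpace Opposite

attribute [local instance] Curv2.resAlgebra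

namespace Groth.Agent.CurveCover

variable (k : Type u) [Field k] (X : Scheme.{u}) [X.Over (Spec (CommRingCat.of k))]
  [IsProper (X ↘ Spec (CommRingCat.of k))] [Smooth (X ↘ Spec (CommRingCat.of k))]

theorem rational_point (σ : Spec (CommRingCat.of k) ⟶ X) (hσ : σ ≫ (X ↘ Spec (CommRingCat.of k)) = 𝟙 _) :
    IsClosed ({σ (IsLocalRing.closedPoint k)} : Set X) ∧
      Module.finrank k (X.residueField (σ (IsLocalRing.closedPoint k))) = 1 := by
  constructor
  · haveI : IsClosedImmersion (σ ≫ (X ↘ Spec (CommRingCat.of k))) := by rw [hσ]; infer_instance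
    haveI : IsClosedImmersion σ := IsClosedImmersion.of_comp σ (X ↘ Spec (CommRingCat.of k))
    haveI : Subsingleton (Spec (CommRingCat.of k)) := inferInstanceAs (Subsingleton (PrimeSpectrum k))
    have h := σ.isClosedEmbedding.isClosed_range
    rwa [show Set.range σ = {σ (IsLocalRing.closedPoint k)} from
      Set.ext fun x => ⟨fun ⟨y, hy⟩ => hy ▸ congrArg σ (Subsingleton.elim _ _), fun hx => ⟨_, hx.symm⟩⟩] at h
  · let ρ := X.descResidueField (Scheme.stalkClosedPointTo σ)
    let θ := CommRingCat.ofHom (Curv2.resMap k X (σ (IsLocalRing.closedPoint k)))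
    have h : θ ≫ ρ = 𝟙 (CommRingCat.of k) := by
      refine Spec.map_injective ?_
      rw [Spec.map_id]
      refine (Spec.map_comp θ ρ).trans ?_
      refine Eq.trans (congrArg (Spec.map ρ ≫ ·) (GeomConn5.spec_resMap (σ (IsLocalRing.closedPoint k))).symm) ?_
      exact ((Category.assoc _ _ _).symm.trans
        (congrArg (· ≫ (X ↘ Spec (CommRingCat.of k)))
          (Scheme.descResidueField_stalkClosedPointTo_fromSpecResidueField k X σ))).trans hσ
    have hb : Function.Bijective (Curv2.resMap k X (σ (IsLocalRing.closedPoint k))) := by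
      refine ⟨RingHom.injective _, fun y => ⟨ρ.hom y, ρ.hom.injective ?_⟩⟩
      exact congr(($h).hom (ρ.hom y))
    have := (LinearEquiv.ofBijective (Algebra.linearMap k (X.residueField (σ (IsLocalRing.closedPoint k)))) hb).finrank_eq
    rw [← this, Module.finrank_self]

theorem exists_deg_two (hdim : topologicalKrullDim X = 1)
    (h0 : Module.finrank k (Coh.HH X (Coh.structureModule X) 0) = 1) (hg : Curv2.genus k X = 1)
    (σ : Spec (CommRingCat.of k) ⟶ X) (hσ : σ ≫ (X ↘ Spec (CommRingCat.of k)) = 𝟙 _) :
    ∃ L : X.Modules, PicF.IsInvertible L ∧ Curv2.deg k X L 1 = 2 ∧ Module.finrank k (Coh.HH X L 0) = 2 := by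
  classical
  haveI := CurveBC.isIntegral_of_h0 k X h0
  haveI := CurveCohLib.isNoetherian_of_proper (k := k) (X := X)
  obtain ⟨hc, hr⟩ := rational_point k X σ hσ
  have hn := Neron6.isNormalScheme_of_smooth (X ↘ Spec (CommRingCat.of k)) FrobTwist.isNormalScheme_Spec
  obtain ⟨P, hP, hdP⟩ := CurveEmbed.exists_deg_one k hdim {σ (IsLocalRing.closedPoint k)}
    (fun x hx => by rw [Finset.mem_singleton] at hx; subst hx; exact hc) (fun x _ => (hn x).2)
    (by simp [hr])
  have hL := InvX.isInvertible_tensorMod hP hP
  have hd : Curv2.deg k X (CohB1.tensorMod P P) 1 = 2 := by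
    have := CurveRR.deg_tensor k hdim hP hP
    rw [hdP] at this
    exact this
  refine ⟨_, hL, hd, le_antisymm (h0_le_two k X hdim h0 hg.ge hL hd) ?_⟩
  have e1 := CurveRR.euler_eq_h0_sub_h1 k hdim.le (QCoh.isQCoh_structureModule (X := X))
  have e2 := CurveRR.euler_eq_h0_sub_h1 k hdim.le (ProjUPX.isQCoh_of_isInvertible hL)
  have hg' : Module.finrank k (Coh.HH X (Coh.structureModule X) 1) = 1 := hg
  unfold Curv2.deg at hd
  omega

end Groth.Agent.CurveCover
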