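import Groth.Agent.CurveCover.PointBundle
import Groth.Agent.CurveCover.Point
import Groth.Agent.CurveCohLib.GlobGen
import Groth.Agent.CurveVA.Vanish

/-! On a curve of genus one a module of degree one is the module of a unique rational point. -/

noncomputable section

set_option linter.style.haveILetI false
set_option linter.unusedSectionVars false
set_option backward.isDefEq.respectTransparency false
set_option backward.isDefEq.respectTransparency.types false
set_option autoImplicit false
set_option maxHeartbeats 1000000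

universe u

open CategoryTheory CategoryTheory.Limits AlgebraicGeometry TopologicalSpace Opposite
open Groth.Agent.CurveCohLib Groth.Agent.CurveBundle Groth.Agent.CurveSlope Groth.Agent.CurveStable

namespace Groth.Agent.CurveCover

variable (k : Type u) [Field k] {X : Scheme.{u}} [X.Over (Spec (CommRingCat.of k))] [IsIntegral X]
  [IsProper (X ↘ Spec (CommRingCat.of k))] [Smooth (X ↘ Spec (CommRingCat.of k))]

include k in
/-- A section vanishing at a point comes from the twist by the point. -/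
theorem exists_lift_of_not_mem_locus {T : X.Modules} (hT : PicF.IsInvertible T) (φ : Coh.structureModule X ⟶ T)
    (hφ : φ ≠ 0) {x : X} (hx : IsClosed ({x} : Set X))
    (hxs : x ∉ H23.TrivBasic.locus (φ.app ⊤ (H23.Frame.one ⊤) : Γ(T, ⊤))) :
    ∃ ψ : Coh.structureModule X ⟶ CohB1.tensorMod T (CurvePoint.ptMod x hx), ψ ≠ 0 := by
  haveI := CurveCohLib.isNoetherian_of_proper (k := k) (X := X)
  have hTf : FlatMod.IsFinLocFree T := fun y =>
    let ⟨W, hy, he⟩ := InvEnd.isFinLocFreeOfRank_one hT y; ⟨W, 1, hy, he⟩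
  have hS := CurveTensor.shortExact_tensor hTf _ _ _ (CurvePoint.shortExact_pt x hx)
  let Q := (DCoh.tensorBi.obj T).obj (ClSub.quotMod (CurvePoint.ptIdeal x hx))
  let e := KFlatLib.tensorUnitIso T
  let π : (DCoh.tensorBi.obj T).obj (Coh.structureModule X) ⟶ Q :=
    (DCoh.tensorBi.obj T).map (ClSub.toSubscheme (CurvePoint.ptIdeal x hx))
  have hzero : (φ ≫ e.inv) ≫ π = 0 := by
    refine CurveRR.hom_ext_one (φ := (φ ≫ e.inv) ≫ π) (ψ := 0) ?_
    let s : Γ(T, ⊤) := φ.app ⊤ (H23.Frame.one ⊤)
    show (e.inv ≫ π).app ⊤ s = 0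
    refine TopCat.Presheaf.section_ext ⟨Q.presheaf, Q.isSheaf⟩ ⊤ _ _ fun y _ => ?_
    change Q.presheaf.germ ⊤ y trivial ((e.inv ≫ π).app ⊤ s) = Q.presheaf.germ ⊤ y trivial 0
    rw [map_zero]
    by_cases hy : y = x
    · subst hy
      refine (TopCat.Presheaf.stalkFunctor_map_germ_apply ⊤ _ trivial
        ((Scheme.Modules.toPresheaf X).map (e.inv ≫ π)) s).symm.trans ?_
      obtain ⟨U, hyU, fr, hfr⟩ := InvX.exists_frame hT y
      obtain ⟨g, hg⟩ := hfr.exists_coord le_rfl (AModX.res T (le_top : U ≤ ⊤) s)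
      rw [AModX.res_self] at hg
      have hnu : ¬ IsUnit (X.presheaf.germ U y hyU g) := fun hu => hxs <|
        ((H23.TrivBasic.locus_eq_basicOpen hfr hg).ge ((X.mem_basicOpen g y hyU).2 hu)).1
      have hgs : T.presheaf.germ ⊤ y trivial s = X.presheaf.germ U y hyU g • T.presheaf.germ U y hyU fr := by
        rw [← InvX.germ_res' (le_top : U ≤ ⊤) hyU s, hg]
        exact QCoh.germ_smul' T hyU g fr
      show ((DerSch.stalkFunctor X y).map (e.inv ≫ π)).hom (T.presheaf.germ ⊤ y trivial s) = 0
      rw [hgs, map_smul]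
      exact GlobGen.smul_stalk_twist_eq_zero T hx ((IsLocalRing.mem_maximalIdeal _).2 hnu) _
    · exact germ_eq_zero_of_notMem_support (U := ⊤) _ trivial fun hs => hy <|
        Set.mem_singleton_iff.1 (CurvePoint.support_quot_subset x hx (CurveTensor.support_tensor_subset hs))
  haveI := hS.mono_f
  refine ⟨hS.exact.lift (φ ≫ e.inv) hzero, fun h0 => hφ ?_⟩
  have h1 := hS.exact.lift_f (φ ≫ e.inv) hzero
  rw [h0, zero_comp] at h1
  rw [← cancel_mono e.inv, ← h1, zero_comp]

variable (hdim : topologicalKrullDim X = 1) (h0 : Module.finrank k (Coh.HH X (Coh.structureModule X) 0) = 1)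
  (hg : Curv2.genus k X = 1)

include hdim h0 hg in
theorem h0_deg_one {T : X.Modules} (hT : PicF.IsInvertible T) (hd : Curv2.deg k X T 1 = 1) :
    Module.finrank k (Coh.HH X T 0) = 1 := by
  haveI := CurveCohLib.isNoetherian_of_proper (k := k) (X := X)
  haveI := CurveVA.subsingleton_h1_of_deg k hdim h0 hT (by rw [hg, hd]; norm_num)
  have h1 := CurveRR.euler_eq_h0_sub_h1 k hdim.le (ProjUPX.isQCoh_of_isInvertible hT)
  have h2 := CurveRR.euler_eq_h0_sub_h1 k hdim.le (QCoh.isQCoh_structureModule (X := X))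
  rw [Module.finrank_zero_of_subsingleton (R := k) (M := Coh.HH X T 1)] at h1
  unfold Curv2.genus at hg
  rw [h0, hg] at h2
  unfold Curv2.deg at hd
  push_cast at h1 h2
  omega

include hdim h0 hg in
/-- A module of degree one is inverse to the ideal of a rational point. -/
theorem exists_point_of_deg_one {T : X.Modules} (hT : PicF.IsInvertible T) (hd : Curv2.deg k X T 1 = 1) :
    ∃ (x : X) (hx : IsClosed ({x} : Set X)), Function.Bijective (Curv2.resMap k X x) ∧
      Nonempty (CohB1.tensorMod T (CurvePoint.ptMod x hx) ≅ Coh.structureModule X) := by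
  haveI := CurveCohLib.isNoetherian_of_proper (k := k) (X := X)
  haveI : JacobsonSpace X := LocallyOfFiniteType.jacobsonSpace (X ↘ Spec (CommRingCat.of k))
  obtain ⟨φ, hφ⟩ := CurveRR.exists_hom_ne_zero k (P := T) (by rw [h0_deg_one k hdim h0 hg hT hd]; norm_num)
  let U := H23.TrivBasic.locus (φ.app ⊤ (H23.Frame.one ⊤) : Γ(T, ⊤))
  have hne : ((U : Set X)ᶜ).Nonempty := by
    rw [Set.nonempty_compl]
    intro h
    obtain ⟨θ⟩ := H23.TrivBasic.triv_of_frame (H23.TrivBasic.locus_eq_top_iff.1 (Opens.ext h : U = ⊤))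
    rw [CurveRR.deg_congr k θ 1, CurveDeg.deg_structureModule] at hd
    exact zero_ne_one hd
  obtain ⟨x, hxU, hx⟩ := nonempty_inter_closedPoints (X := X) hne U.isOpen.isClosed_compl.isLocallyClosed
  obtain ⟨ψ, hψ⟩ := exists_lift_of_not_mem_locus k hT φ hφ hx hxU
  have hn := Neron6.isNormalScheme_of_smooth (X ↘ Spec (CommRingCat.of k)) FrobTwist.isNormalScheme_Spec
  have hI : PicF.IsInvertible (CurvePoint.ptMod x hx) := CurveEmbed.isInvertible_point k hdim hx (hn x).2
  letI := Curv2.resAlgebra k X x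
  have hdI := CurveEmbed.deg_point k hx
  have hTI : PicF.IsInvertible (CohB1.tensorMod T (CurvePoint.ptMod x hx)) := InvX.isInvertible_tensorMod hT hI
  have hdeg : Curv2.deg k X (CohB1.tensorMod T (CurvePoint.ptMod x hx)) 1 =
      1 - (Module.finrank k (X.residueField x) : ℤ) := by
    rw [show Curv2.deg k X (CohB1.tensorMod T (CurvePoint.ptMod x hx)) 1 = _ from CurveRR.deg_tensor k hdim hT hI,
      hd, hdI]
    ring
  obtain ⟨h1, h2⟩ := CurveDeg.deg_le_and_isIso k hdim.le CurveDeg.isInvertible_structureModule hTI ψ hψ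
  rw [CurveDeg.deg_structureModule, hdeg] at h1 h2
  have hpos : Module.finrank k (X.residueField x) ≠ 0 := by
    intro hz
    rw [hz, Nat.cast_zero, neg_zero] at hdI
    have hι : ClSub.idealModι (CurvePoint.ptIdeal x hx) ≠ 0 := fun he => by
      haveI : Mono (0 : CurvePoint.ptMod x hx ⟶ Coh.structureModule X) := by
        rw [← he]; exact (CurvePoint.shortExact_pt x hx).mono_f
      have hzero : IsZero (CurvePoint.ptMod x hx) := IsZero.of_mono_eq_zero (0 : _ ⟶ Coh.structureModule X) rfl
      haveI := Euler.subsingleton_HH_of_isZero hzero 0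
      obtain ⟨V, hV, e, hfr⟩ := InvX.exists_frame hI x
      have hb := hfr.germ_bijective hV
      have hs : Subsingleton ((CurvePoint.ptMod x hx).presheaf.stalk x) :=
        ModuleCat.subsingleton_of_isZero ((DerSch.stalkFunctor X x).map_isZero hzero)
      exact one_ne_zero (α := X.presheaf.stalk x) (hb.1 (hs.elim _ _))
    haveI := (CurveDeg.deg_le_and_isIso k hdim.le hI CurveDeg.isInvertible_structureModule _ hι).2
      (by rw [hdI, CurveDeg.deg_structureModule])
    have hS := CurvePoint.shortExact_pt x hx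
    have hg0 : ClSub.toSubscheme (CurvePoint.ptIdeal x hx) = 0 :=
      (cancel_epi (ClSub.idealModι (CurvePoint.ptIdeal x hx))).1 (by rw [comp_zero]; exact kernel.condition _)
    haveI : Epi (ClSub.toSubscheme (CurvePoint.ptIdeal x hx)) := hS.epi_g
    exact CurvePoint.not_subsingleton_stalk x hx
      (ModuleCat.subsingleton_of_isZero ((DerSch.stalkFunctor X x).map_isZero (IsZero.of_epi_eq_zero _ hg0)))
  have hone : Module.finrank k (X.residueField x) = 1 := by omega
  haveI := h2 (by rw [hone]; norm_num)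
  refine ⟨x, hx, ⟨(Curv2.resMap k X x).injective, ?_⟩, ⟨(asIso ψ).symm⟩⟩
  intro y
  obtain ⟨c, hc⟩ := (finrank_eq_one_iff_of_nonzero' (1 : X.residueField x) one_ne_zero).1 hone y
  rw [Algebra.smul_def, mul_one] at hc
  exact ⟨c, hc⟩

include hdim h0 hg in
/-- A rational point is determined by the class of its ideal. -/
theorem eq_of_iso_ptMod {P Q : X} (hP : IsClosed ({P} : Set X)) (hQ : IsClosed ({Q} : Set X))
    (hPk : Function.Bijective (Curv2.resMap k X P)) (hQk : Function.Bijective (Curv2.resMap k X Q))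
    (φ : CurvePoint.ptMod P hP ≅ CurvePoint.ptMod Q hQ) : P = Q := by
  haveI := CurveCohLib.isNoetherian_of_proper (k := k) (X := X)
  have hr : ∀ z : X, Function.Bijective (Curv2.resMap k X z) →
      (letI := Curv2.resAlgebra k X z; Module.finrank k (X.residueField z) = 1) := fun z hz => by
    letI := Curv2.resAlgebra k X z
    have hb : Function.Bijective (Algebra.linearMap k (X.residueField z)) := hz
    rw [← (LinearEquiv.ofBijective _ hb).finrank_eq, Module.finrank_self]
  obtain ⟨M, s, hM, hMd, hs, ⟨ε⟩⟩ := exists_point_bundle_inv k hdim hP (hr P hPk)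
  obtain ⟨N, t, hN, -, ht, ⟨ε'⟩⟩ := exists_point_bundle_inv k hdim hQ (hr Q hQk)
  letI := H23.PicMul.clMonoid X
  have e1 : PicF.cl (CurvePoint.ptMod P hP) * PicF.cl M = 1 := by
    rw [← H23.PicMul.cl_tensor, H23.PicMul.one_def, H23.PicMul.cl_eq_iff]; exact ⟨ε⟩
  have e2 : PicF.cl (CurvePoint.ptMod P hP) * PicF.cl N = 1 := by
    rw [H23.PicMul.cl_eq_iff.2 ⟨φ⟩, ← H23.PicMul.cl_tensor, H23.PicMul.one_def, H23.PicMul.cl_eq_iff]
    exact ⟨ε'⟩
  obtain ⟨θ⟩ := H23.PicMul.cl_eq_iff.1 (left_inv_eq_right_inv ((mul_comm _ _).trans e1) e2)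
  by_contra hne
  let e := Sheaf.H.equiv₀ (Coh.toAb N) isTerminalTop
  let s' : Γ(N, ⊤) := θ.hom.app ⊤ s
  have hQs : Q ∈ H23.TrivBasic.locus s' := by
    obtain ⟨U, hU, hfr⟩ := H23.TrivBasic.mem_locus_iff.1 ((hs Q).2 (Ne.symm hne))
    refine H23.TrivBasic.mem_locus_iff.2 ⟨U, hU, ?_⟩
    have := InvX.IsFrame.map_iso θ hfr
    convert this using 1
    exact (ConcreteCategory.congr_hom (((Scheme.Modules.toPresheaf X).map θ.hom).naturality (homOfLE (le_top : U ≤ ⊤)).op) s).symm
  have h1 := h0_deg_one k hdim h0 hg hN (by rw [← CurveRR.deg_congr k θ 1, hMd])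
  haveI := CurveCohLib.finite_HH (k := k) (CurveDeg.isCoh_of_isInvertible hN) 0
  have ht0 : e.symm t ≠ 0 := by
    intro h
    have : t = 0 := by simpa using congrArg e h
    obtain ⟨U, hU, hfr⟩ := H23.TrivBasic.mem_locus_iff.1 ((ht P).2 hne)
    have hb := hfr.germ_bijective hU
    rw [this, map_zero] at hb
    exact one_ne_zero (α := X.presheaf.stalk P) (hb.1 (by simp))
  let B := (Module.finBasisOfFinrankEq k (Coh.HH X N 0) h1)
  obtain ⟨c, hc⟩ := (finrank_eq_one_iff_of_nonzero' (e.symm t) ht0).1 h1 (e.symm s')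
  let b : Module.Basis (Fin 1) k (Coh.HH X N 0) := FiniteDimensional.basisSingleton (Fin 1) h1 (e.symm t) ht0
  obtain ⟨j, hj⟩ := exists_mem_locus_basis_of_mem k hN b hQs
  simp only [b, FiniteDimensional.basisSingleton_apply, e, AddEquiv.apply_symm_apply] at hj
  exact (ht Q).1 hj rfl

end Groth.Agent.CurveCover
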