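import Groth.Agent.FFLib.Ext
import Groth.Agent.FFLib.RR
import Groth.Agent.FFLib.Rational
import Mathlib.FieldTheory.IsAlgClosed.Basic
import Mathlib.Algebra.Polynomial.Reverse

/-! Fixed places of an involution of a function field. -/

set_option linter.style.haveILetI false
set_option linter.unusedSectionVars false
set_option autoImplicit false

namespace Groth.Agent.CurveCover

open FunFld WithZero Groth.Agent.FFLib IntermediateField

variable {k K : Type*} [Field k] [Field K] [Algebra k K] [IsAlgClosed k]

/-- Integral functions at a place have constant residues. -/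
theorem exists_sub_lt (hF : IsFF k K) (P : Place k K) {c : K} (hc : P.1 c ≤ 1) :
    ∃ a : k, P.1 (c - algebraMap k K a) < 1 := by
  haveI := residue_finite hF P
  haveI : Algebra.IsIntegral k (Res P) := @Algebra.IsIntegral.of_finite k (Res P) _ _ _ (residue_finite hF P)
  obtain ⟨a, ha⟩ := (IsAlgClosed.algebraMap_bijective_of_isIntegral (k := k) (K := Res P)).2
    (IsLocalRing.residue P.O ⟨c, hc⟩)
  refine ⟨a, ?_⟩
  have h : IsLocalRing.residue P.O (⟨c, hc⟩ - algebraMap k P.O a) = 0 := by
    rw [map_sub, sub_eq_zero, ← ha]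
    rfl
  exact (residue_eq_zero P _).1 h

/-- A polynomial is a unit at a place centred off its roots. -/
theorem val_aeval_eq_one (P : Place k K) {y : K} {a : k} (hy : P.1 (y - algebraMap k K a) < 1)
    {G : Polynomial k} (hG : G.eval a ≠ 0) : P.1 (Polynomial.aeval y G) = 1 := by
  have hy1 : P.1 y ≤ 1 := by
    have h := P.1.map_add (y - algebraMap k K a) (algebraMap k K a)
    rw [sub_add_cancel] at h
    exact h.trans (max_le hy.le (P.2.1 a))
  obtain ⟨H, hH⟩ := Polynomial.X_sub_C_dvd_sub_C_eval (p := G) (a := a)
  have hH1 : P.1 (Polynomial.aeval y H) ≤ 1 := by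
    clear hH
    induction H using Polynomial.induction_on' with
    | add p q hp hq => rw [map_add]; exact (P.1.map_add _ _).trans (max_le hp hq)
    | monomial n c =>
      rw [Polynomial.aeval_monomial, map_mul, map_pow]
      exact (mul_le_mul' (P.2.1 c) (pow_le_one' hy1 n)).trans_eq (one_mul _)
  have hlt : P.1 (Polynomial.aeval y G - algebraMap k K (G.eval a)) < 1 := by
    have h := congrArg (Polynomial.aeval y) hH
    simp only [map_sub, map_mul, Polynomial.aeval_C, Polynomial.aeval_X] at h
    rw [h, map_mul]
    calc P.1 (y - algebraMap k K a) * P.1 (Polynomial.aeval y H)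
        ≤ P.1 (y - algebraMap k K a) * 1 := mul_le_mul' le_rfl hH1
      _ < 1 := by rwa [mul_one]
  rw [← sub_add_cancel (Polynomial.aeval y G) (algebraMap k K (G.eval a)),
    P.1.map_add_eq_of_lt_right (by rwa [val_algebraMap P hG]), val_algebraMap P hG]

variable (σ : K ≃ₐ[k] K) (hinv : ∀ c, σ (σ c) = c)

theorem val_comap {P : Place k K} (hP : placeComap σ P = P) (c : K) : P.1 (σ c) = P.1 c :=
  (placeComap_apply σ P c).symm.trans (congrArg (fun Q : Place k K => Q.1 c) hP)

include hinv in
theorem comap_comap (Q : Place k K) : placeComap σ (placeComap σ Q) = Q :=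
  place_eq_of_iff fun c => by rw [placeComap_apply, placeComap_apply, hinv]

/-- An anti-invariant function has a zero or pole at every fixed place. -/
theorem ord_ne_zero_of_anti (hF : IsFF k K) (h2 : (2 : k) ≠ 0) {P : Place k K} (hP : placeComap σ P = P)
    {w : K} (hw : w ≠ 0) (hσw : σ w = -w) : P.ord w ≠ 0 := by
  intro h0
  have hv : P.1 w = 1 := by rw [val_eq_exp P hw, h0]; rfl
  obtain ⟨a, ha⟩ := exists_sub_lt hF P hv.le
  have ha' : P.1 (-w - algebraMap k K a) < 1 := by
    have h := val_comap σ hP (w - algebraMap k K a)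
    rw [map_sub, AlgEquiv.commutes, hσw] at h
    rwa [h]
  have h2a : P.1 (algebraMap k K (2 * a)) < 1 := by
    have h := P.1.map_add (w - algebraMap k K a) (-w - algebraMap k K a)
    rw [show w - algebraMap k K a + (-w - algebraMap k K a) = -algebraMap k K (2 * a) by
      rw [map_mul, map_ofNat]; ring, Valuation.map_neg] at h
    exact h.trans_lt (max_lt ha ha')
  by_cases ha0 : a = 0
  · rw [ha0, map_zero, sub_zero, hv] at ha
    exact lt_irrefl _ ha
  · rw [val_algebraMap P (mul_ne_zero h2 ha0)] at h2a
    exact lt_irrefl _ h2a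

/-- Invariant functions have even order at fixed places. -/
theorem even_ord_of_inv (hF : IsFF k K) (h2 : (2 : k) ≠ 0) {P : Place k K} (hP : placeComap σ P = P)
    {w : K} (hw : w ≠ 0) (hσw : σ w = -w) {f : K} (hf : f ≠ 0) (hσf : σ f = f) : Even (P.ord f) := by
  by_contra hodd
  rw [Int.not_even_iff_odd] at hodd
  let y := f ^ P.ord w * (w ^ P.ord f)⁻¹
  have hy : y ≠ 0 := mul_ne_zero (zpow_ne_zero _ hf) (inv_ne_zero (zpow_ne_zero _ hw))
  refine ord_ne_zero_of_anti σ hF h2 hP hy ?_ ?_
  · simp only [y, map_mul, map_inv₀, map_zpow₀, hσf, hσw, hodd.neg_zpow, inv_neg, mul_neg]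
  · rw [ord_mul P (zpow_ne_zero _ hf) (inv_ne_zero (zpow_ne_zero _ hw)), ord_inv, ord_zpow, ord_zpow]
    ring

include hinv in
/-- An involution with many fixed places has a function of degree two. -/
theorem exists_two_le_ell (hK : IsFunctionField k K) (h2 : (2 : k) ≠ 0) (hne : σ ≠ AlgEquiv.refl)
    (hg : 1 ≤ FunFld.genus k K) (S : Finset (Place k K)) (hS : ∀ P ∈ S, placeComap σ P = P)
    (hcard : 2 * FunFld.genus k K + 2 ≤ S.card) :
    ∃ P ∈ S, 2 ≤ ell (Finsupp.single P (2 : ℤ)) := by
  classical
  have hF := hK.1
  obtain ⟨P, hP⟩ : S.Nonempty := Finset.card_pos.1 (by omega)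
  refine ⟨P, hP, ?_⟩
  obtain ⟨c, hc⟩ : ∃ c, σ c ≠ c := by
    by_contra! hall
    exact hne (AlgEquiv.ext hall)
  let w := c - σ c
  have hw : w ≠ 0 := sub_ne_zero.2 (Ne.symm hc)
  have hσw : σ w = -w := by simp only [w, map_sub, hinv, neg_sub]
  set g := FunFld.genus k K
  -- all functions with poles only at `P` of small order are invariant
  have hinvL : ∀ f ∈ L (Finsupp.single P (2 * (g : ℤ)) : Divisor k K), σ f = f := by
    intro f hf
    let y := f - σ f
    let E : Divisor k K := Finsupp.single P (2 * (g : ℤ)) - ∑ Q ∈ S.erase P, Finsupp.single Q 1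
    have hσy : σ y = -y := by simp only [y, map_sub, hinv, neg_sub]
    have hyL : y ∈ L (Finsupp.single P (2 * (g : ℤ)) : Divisor k K) := by
      refine Submodule.sub_mem _ hf fun Q => ?_
      rw [← placeComap_apply σ Q f]
      refine (hf _).trans (le_of_eq (congrArg exp ?_))
      by_cases hQ : Q = P
      · rw [hQ, hS P hP]
      · rw [Finsupp.single_apply, Finsupp.single_apply, if_neg (Ne.symm hQ), if_neg]
        exact fun h => hQ (((congrArg (placeComap σ) h).trans (comap_comap σ hinv Q)).symm.trans (hS P hP))
    have hyE : y ∈ L E := fun Q => by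
      by_cases hy0 : y = 0
      · rw [hy0, map_zero]; exact zero_le
      by_cases hQ : Q ∈ S.erase P
      · have hQP := (Finset.mem_erase.1 hQ).1
        have h1 : P.ord y = P.ord y := rfl
        have hle : Q.1 y ≤ exp 0 := by
          have := hyL Q
          rwa [Finsupp.single_apply, if_neg (Ne.symm hQP)] at this
        have hne0 := ord_ne_zero_of_anti σ hF h2 (hS Q (Finset.mem_erase.1 hQ).2) hy0 hσy
        have hEQ : E Q = -1 := by
          simp only [E, Finsupp.sub_apply, Finsupp.finsetSum_apply, Finsupp.single_apply, if_neg (Ne.symm hQP)]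
          rw [Finset.sum_ite_eq', if_pos hQ]
          ring
        rw [hEQ, val_eq_exp Q hy0, exp_le_exp]
        rw [val_eq_exp Q hy0, exp_le_exp] at hle
        omega
      · have hEQ : E Q = (Finsupp.single P (2 * (g : ℤ)) : Divisor k K) Q := by
          simp only [E, Finsupp.sub_apply, Finsupp.finsetSum_apply, sub_eq_self]
          exact Finset.sum_eq_zero fun R hR => Finsupp.single_eq_of_ne (fun h => hQ (h ▸ hR))
        rw [hEQ]
        exact hyL Q
    have hdE : E.deg < 0 := by
      have hsum : (∑ Q ∈ S.erase P, Finsupp.single Q (1 : ℤ) : Divisor k K).deg = ((S.erase P).card : ℤ) := by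
        induction S.erase P using Finset.induction_on with
        | empty => simp
        | insert Q T hQ ih =>
          rw [Finset.sum_insert hQ, Divisor.deg_add, ih, Divisor.deg_single, deg_eq_one hF Q, Finset.card_insert_of_notMem hQ]
          push_cast
          ring
      rw [Divisor.deg_sub, Divisor.deg_single, deg_eq_one hF P, hsum, Finset.card_erase_of_mem hP]
      omega
    haveI := L_finite hF E
    have h0 : ell E = 0 := ell_eq_zero_of_deg_neg hF hdE
    have : L E = ⊥ := Submodule.finrank_eq_zero.1 h0
    rw [this, Submodule.mem_bot] at hyE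
    exact (sub_eq_zero.1 hyE).symm
  -- odd pole orders do not occur
  have hstep : ∀ j : ℕ, 1 ≤ j → j ≤ g →
      ell (Finsupp.single P (2 * (j : ℤ)) : Divisor k K) ≤ ell (Finsupp.single P (2 : ℤ) : Divisor k K) + (j - 1) := by
    intro j h1 hj
    induction j, h1 using Nat.le_induction with
    | base => simp
    | succ j h1 ih =>
      specialize ih (by omega)
      let A : Divisor k K := Finsupp.single P (2 * (j : ℤ))
      let B : Divisor k K := Finsupp.single P (2 * (j : ℤ) + 1)
      let C : Divisor k K := Finsupp.single P (2 * ((j + 1 : ℕ) : ℤ))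
      have hBC : B ≤ C := Finsupp.single_le_single.2 (by push_cast; omega)
      have hCg : C ≤ Finsupp.single P (2 * (g : ℤ)) := Finsupp.single_le_single.2 (by omega)
      have hBA : L B ≤ L A := by
        intro f hf Q
        by_cases hQ : Q = P
        · subst hQ
          by_cases hf0 : f = 0
          · rw [hf0, map_zero]; exact zero_le
          have he := even_ord_of_inv σ hF h2 (hS _ hP) hw hσw hf0 (hinvL f (L_mono hCg (L_mono hBC hf)))
          have hle := hf Q
          simp only [A, B, Finsupp.single_eq_same, val_eq_exp Q hf0, exp_le_exp] at hle ⊢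
          obtain ⟨r, hr⟩ := he
          omega
        · have hle := hf Q
          simp only [A, B, Finsupp.single_eq_of_ne hQ] at hle ⊢
          exact hle
      haveI := L_finite hF A
      have hA : ell B ≤ ell (Finsupp.single P (2 * (j : ℤ)) : Divisor k K) := Submodule.finrank_mono hBA
      obtain ⟨hC1, hC2⟩ := ell_le_of_le hF hBC
      rw [Divisor.deg_single, Divisor.deg_single, deg_eq_one hF P] at hC2
      show ell C ≤ _
      push_cast at hC2 ⊢
      omega
  have hlow := riemann hF (Finsupp.single P (2 * (g : ℤ)) : Divisor k K)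
  rw [Divisor.deg_single, deg_eq_one hF P] at hlow
  have := hstep g hg le_rfl
  omega

/-- The places of degree two over a value. -/
theorem unique_double (hF : IsFF k K) {y : K} (hy : Transcendental k y)
    (hdeg : Module.finrank k⟮y⟯ K = 2) {P : Place k K} (hP : 0 < P.ord y) (he : Even (P.ord y)) :
    P.ord y = 2 ∧ ∀ Q : Place k K, 0 < Q.ord y → Q = P := by
  classical
  have hz := deg_zeros hF hy
  rw [hdeg] at hz
  have hnn : (0 : Divisor k K) ≤ zeros y := fun R => by simp [zeros]
  have hval : ∀ R, (zeros y : Divisor k K) R = max (R.ord y) 0 := fun R => by simp [zeros, div_apply hF]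
  have key : ∀ Q : Place k K, 0 < Q.ord y → Q ≠ P → P.ord y + Q.ord y ≤ 2 := by
    intro Q hQ hne
    have hle : Finsupp.single P (P.ord y) + Finsupp.single Q (Q.ord y) ≤ (zeros y : Divisor k K) := fun R => by
      rw [Finsupp.add_apply, hval, Finsupp.single_apply, Finsupp.single_apply]
      split_ifs with h1 h2 h2
      · exact absurd (h2.trans h1.symm) hne
      · rw [← h1]; omega
      · rw [← h2]; omega
      · simp
    have := Divisor.deg_mono hle
    rw [Divisor.deg_add, Divisor.deg_single, Divisor.deg_single, deg_eq_one hF P, deg_eq_one hF Q, hz] at this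
    push_cast at this
    omega
  have hle : Finsupp.single P (P.ord y) ≤ (zeros y : Divisor k K) := fun R => by
    rw [hval, Finsupp.single_apply]
    split_ifs with h1
    · rw [← h1]; omega
    · omega
  have h2 := Divisor.deg_mono hle
  rw [Divisor.deg_single, deg_eq_one hF P, hz] at h2
  obtain ⟨r, hr⟩ := he
  push_cast at h2
  refine ⟨by omega, fun Q hQ => ?_⟩
  by_contra hne
  have := key Q hQ hne
  omega

theorem adjoin_sub_algebraMap (x : K) (a : k) : k⟮x - algebraMap k K a⟯ = k⟮x⟯ := by
  apply le_antisymm <;> rw [adjoin_simple_le_iff]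
  · exact sub_mem (mem_adjoin_simple_self k x) (IntermediateField.algebraMap_mem _ a)
  · simpa using add_mem (mem_adjoin_simple_self k (x - algebraMap k K a))
      (IntermediateField.algebraMap_mem _ a)

theorem transcendental_sub {x : K} (hx : Transcendental k x) (a : k) :
    Transcendental k (x - algebraMap k K a) := fun h =>
  hx (by simpa using h.add (isAlgebraic_algebraMap a))

theorem ord_nonneg_or {P : Place k K} (x : K) : P.1 x ≤ 1 ∨ P.ord x < 0 :=
  (le_or_gt (P.1 x) 1).imp id fun h =>
    (one_lt_val_iff P (fun h0 => by simp [h0] at h)).1 h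

/-- The fixed places of the involution of a double cover of the line. -/
theorem card_fixed (hF : IsFF k K) (h2 : (2 : k) ≠ 0) {g : ℕ} {x w : K} {F : Polynomial k}
    (hx : Transcendental k x) (hdeg : Module.finrank k⟮x⟯ K = 2)
    (hw : w ^ 2 = Polynomial.aeval x F) (hsq : F.roots.Nodup)
    (hl : 2 * g + 1 ≤ F.natDegree) (hu : F.natDegree ≤ 2 * g + 2)
    (hσx : σ x = x) (hσw : σ w = -w) :
    Nat.card {P : Place k K // placeComap σ P = P} = 2 * g + 2 := by
  classical
  have hF0 : F ≠ 0 := fun h => by rw [h, Polynomial.natDegree_zero] at hl; omega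
  have hw0 : w ≠ 0 := fun h => by
    rw [h, zero_pow two_ne_zero] at hw
    exact hF0 (transcendental_iff_injective.1 hx (by rw [← hw, map_zero]))
  have hx0 : x ≠ 0 := fun h => hx (h ▸ isAlgebraic_zero)
  -- the order of `w` over a finite value
  have hfin : ∀ (P : Place k K) (a : k), P.1 (x - algebraMap k K a) < 1 →
      (F.eval a ≠ 0 → P.ord w = 0) ∧ (F.eval a = 0 → 2 * P.ord w = P.ord (x - algebraMap k K a)) := by
    intro P a ha
    refine ⟨fun hFa => ?_, fun hFa => ?_⟩
    · have h1 := val_aeval_eq_one P ha hFa
      have h3 := congrArg P.ord hw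
      rw [ord_pow, ord_of_val_eq P (n := 0) (x := Polynomial.aeval x F) (by simpa using h1)] at h3
      omega
    · obtain ⟨G, hG⟩ := Polynomial.dvd_iff_isRoot.2 hFa
      have hGa : G.eval a ≠ 0 := by
        intro hGa
        obtain ⟨H, hH⟩ := Polynomial.dvd_iff_isRoot.2 hGa
        have h1 : 1 < F.rootMultiplicity a := by
          refine Nat.lt_of_succ_le ((Polynomial.le_rootMultiplicity_iff hF0).2 ?_)
          exact ⟨H, by rw [hG, hH]; ring⟩
        rw [← Polynomial.count_roots] at h1
        exact absurd (Multiset.nodup_iff_count_le_one.1 hsq a) (by omega)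
      have hv := val_aeval_eq_one P ha hGa
      have hx' : x - algebraMap k K a ≠ 0 := fun h => transcendental_sub hx a (h ▸ isAlgebraic_zero)
      have h3 := congrArg P.ord hw
      rw [ord_pow, hG, map_mul, map_sub, Polynomial.aeval_X, Polynomial.aeval_C,
        ord_mul P hx' (fun h => by simp [h] at hv), ord_of_val_eq P (n := 0) (x := Polynomial.aeval x G)
          (by simpa using hv)] at h3
      push_cast at h3
      omega
  -- the order of `w` at infinity
  have hinf : ∀ P : Place k K, P.ord x < 0 → 2 * P.ord w = F.natDegree * P.ord x := by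
    intro P hP
    have hy : P.1 (x⁻¹ - algebraMap k K 0) < 1 := by
      rw [map_zero, sub_zero, val_lt_one_iff P (inv_ne_zero hx0), ord_inv]; omega
    have hr : (F.reflect F.natDegree).eval 0 ≠ 0 := by
      rw [← Polynomial.coeff_zero_eq_eval_zero, Polynomial.coeff_reflect, Polynomial.revAt_le (Nat.zero_le _),
        Nat.sub_zero]
      exact Polynomial.leadingCoeff_ne_zero.2 hF0
    have hv := val_aeval_eq_one P hy hr
    have he : Polynomial.aeval x F = Polynomial.aeval x⁻¹ (F.reflect F.natDegree) * x ^ F.natDegree := by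
      letI : Invertible x := invertibleOfNonzero hx0
      have := Polynomial.eval₂_reflect_mul_pow (algebraMap k K) x F.natDegree F le_rfl
      rw [invOf_eq_inv] at this
      exact this.symm
    have h3 := congrArg P.ord hw
    rw [ord_pow, he, ord_mul P (fun h => by simp [h] at hv) (pow_ne_zero _ hx0), ord_pow,
      ord_of_val_eq P (n := 0) (x := Polynomial.aeval x⁻¹ (F.reflect F.natDegree)) (by simpa using hv)] at h3
    push_cast at h3
    omega
  have hfix : ∀ (y : K), Transcendental k y → Module.finrank k⟮y⟯ K = 2 → σ y = y → ∀ P : Place k K,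
      0 < P.ord y → Even (P.ord y) → placeComap σ P = P := fun y hy hdy hσy P hP he => by
    refine (unique_double hF hy hdy hP he).2 _ ?_
    have h0 : y ≠ 0 := fun h => by simp [h] at hP
    rw [← val_lt_one_iff _ h0, placeComap_apply, hσy, val_lt_one_iff _ h0]
    exact hP
  have hda : ∀ a : k, Module.finrank k⟮x - algebraMap k K a⟯ K = 2 := fun a => by
    rw [adjoin_sub_algebraMap]; exact hdeg
  have hdi : Module.finrank k⟮x⁻¹⟯ K = 2 := by rw [FFLib.adjoin_inv]; exact hdeg
  -- a zero over each root
  have hex : ∀ y : K, Transcendental k y → ∃ P : Place k K, 0 < P.ord y := fun y hy => by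
    obtain ⟨P, hP⟩ := exists_place_pole hF (FFLib.transcendental_inv hy)
    have h0 : y ≠ 0 := fun h => hy (h ▸ isAlgebraic_zero)
    refine ⟨P, ?_⟩
    rw [one_lt_val_iff P (inv_ne_zero h0), ord_inv] at hP
    omega
  choose φ hφ using fun a : k => hex _ (transcendental_sub hx a)
  obtain ⟨Pi, hPi⟩ := hex _ (FFLib.transcendental_inv hx)
  rw [ord_inv] at hPi
  let I : Finset (Place k K) := if Odd F.natDegree then {Pi} else ∅
  let Z := F.roots.toFinset.image φ
  have hlt : ∀ a, (φ a).1 (x - algebraMap k K a) < 1 := fun a => by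
    have h0 : x - algebraMap k K a ≠ 0 := fun h => transcendental_sub hx a (h ▸ isAlgebraic_zero)
    exact (val_lt_one_iff _ h0).2 (hφ a)
  have hinj : Function.Injective φ := by
    intro a b hab
    by_contra hne
    have h1 := hlt a
    have h2' := hlt b
    rw [← hab] at h2'
    have h := (φ a).1.map_sub (x - algebraMap k K b) (x - algebraMap k K a)
    rw [show x - algebraMap k K b - (x - algebraMap k K a) = algebraMap k K (a - b) by rw [map_sub]; ring,
      val_algebraMap _ (sub_ne_zero.2 hne)] at h
    exact lt_irrefl _ (h.trans_lt (max_lt h2' h1))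
  have hdisj : Disjoint Z I := by
    rw [Finset.disjoint_left]
    intro P hPZ hPI
    obtain ⟨a, -, rfl⟩ := Finset.mem_image.1 hPZ
    by_cases hodd : Odd F.natDegree
    · simp only [I, if_pos hodd, Finset.mem_singleton] at hPI
      have h1 : 1 < (φ a).1 x := (one_lt_val_iff _ hx0).2 (by rw [hPI]; omega)
      have h := (φ a).1.map_add (x - algebraMap k K a) (algebraMap k K a)
      rw [sub_add_cancel] at h
      exact absurd (h.trans (max_le (hlt a).le ((φ a).2.1 a))) (not_le.2 h1)
    · simp [I, if_neg hodd] at hPI
  have hmem : ∀ P : Place k K, placeComap σ P = P ↔ P ∈ Z ∪ I := by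
    intro P
    rw [Finset.mem_union]
    constructor
    · intro hP
      rcases ord_nonneg_or (P := P) x with h1 | h1
      · obtain ⟨a, ha⟩ := exists_sub_lt hF P h1
        have hFa : F.eval a = 0 := by
          by_contra hne
          exact ord_ne_zero_of_anti σ hF h2 hP hw0 hσw ((hfin P a ha).1 hne)
        left
        refine Finset.mem_image.2 ⟨a, Multiset.mem_toFinset.2 (Polynomial.mem_roots'.2 ⟨hF0, hFa⟩), ?_⟩
        have hev : Even ((φ a).ord (x - algebraMap k K a)) := ⟨_, by
          rw [← (hfin (φ a) a (hlt a)).2 hFa]; ring⟩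
        refine ((unique_double hF (transcendental_sub hx a) (hda a) (hφ a) hev).2 P ?_).symm
        have h0 : x - algebraMap k K a ≠ 0 := fun h => transcendental_sub hx a (h ▸ isAlgebraic_zero)
        exact (val_lt_one_iff _ h0).1 ha
      · right
        by_cases hodd : Odd F.natDegree
        · simp only [I, if_pos hodd, Finset.mem_singleton]
          have hev : Even (Pi.ord x⁻¹) := by
            have h := hinf Pi (by omega)
            obtain ⟨r, hr⟩ := hodd
            rw [hr] at h
            push_cast at h
            exact ⟨(r : ℤ) * Pi.ord x - Pi.ord w, by rw [ord_inv]; linarith⟩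
          refine (unique_double hF (FFLib.transcendental_inv hx) hdi (P := Pi) (by rw [ord_inv]; omega) hev).2 P ?_
          rw [ord_inv]; omega
        · exfalso
          rw [Nat.not_odd_iff_even] at hodd
          obtain ⟨r, hr⟩ := hodd
          have h := hinf P h1
          rw [hr] at h
          have hu0 : w * (x ^ r)⁻¹ ≠ 0 := mul_ne_zero hw0 (inv_ne_zero (pow_ne_zero _ hx0))
          refine ord_ne_zero_of_anti σ hF h2 hP hu0 (by rw [map_mul, map_inv₀, map_pow, hσx, hσw, neg_mul]) ?_
          rw [ord_mul P hw0 (inv_ne_zero (pow_ne_zero _ hx0)), ord_inv, ord_pow]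
          push_cast at h
          linarith
    · rintro (hP | hP)
      · obtain ⟨a, ha, rfl⟩ := Finset.mem_image.1 hP
        have hFa : F.eval a = 0 := (Polynomial.mem_roots'.1 (Multiset.mem_toFinset.1 ha)).2
        refine hfix _ (transcendental_sub hx a) (hda a) (by rw [map_sub, hσx, AlgEquiv.commutes]) _ (hφ a)
          ⟨_, by rw [← (hfin (φ a) a (hlt a)).2 hFa]; ring⟩
      · by_cases hodd : Odd F.natDegree
        · simp only [I, if_pos hodd, Finset.mem_singleton] at hP
          rw [hP]
          refine hfix _ (FFLib.transcendental_inv hx) hdi (by rw [map_inv₀, hσx]) _ (by rw [ord_inv]; omega) ?_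
          have h := hinf Pi (by omega)
          obtain ⟨r, hr⟩ := hodd
          rw [hr] at h
          push_cast at h
          exact ⟨(r : ℤ) * Pi.ord x - Pi.ord w, by rw [ord_inv]; linarith⟩
        · simp [I, if_neg hodd] at hP
  rw [Nat.card_congr (Equiv.subtypeEquivRight hmem), Nat.card_eq_fintype_card, Fintype.card_coe,
    Finset.card_union_of_disjoint hdisj, Finset.card_image_of_injective _ hinj, Multiset.toFinset_card_of_nodup hsq,
    IsAlgClosed.card_roots_eq_natDegree]
  by_cases hodd : Odd F.natDegree
  · simp only [I, if_pos hodd, Finset.card_singleton]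
    obtain ⟨r, hr⟩ := hodd
    omega
  · simp only [I, if_neg hodd, Finset.card_empty]
    rw [Nat.not_odd_iff_even] at hodd
    obtain ⟨r, hr⟩ := hodd
    omega

end Groth.Agent.CurveCover
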