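import Groth.Agent.CurveCover.Point
import Groth.Agent.ParShLib.Degree
import Groth.Agent.H23.PicInv
import Groth.Agent.H23.PicMul

/-! The invertible module of a rational point with its section. -/

noncomputable section

set_option linter.style.haveILetI false
set_option linter.unusedSectionVars false
set_option backward.isDefEq.respectTransparency false
set_option backward.isDefEq.respectTransparency.types false
set_option autoImplicit false

universe u

open CategoryTheory CategoryTheory.Limits AlgebraicGeometry TopologicalSpace Opposite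

namespace Groth.Agent.CurveCover

theorem mem_locus_of_isIso_stalk {X : Scheme.{u}} {M : X.Modules} (hM : PicF.IsInvertible M)
    (φ : Coh.structureModule X ⟶ M) {y : X} (h : IsIso ((DerSch.stalkFunctor X y).map φ)) :
    y ∈ H23.TrivBasic.locus (φ.app ⊤ (H23.Frame.one ⊤) : Γ(M, ⊤)) := by
  obtain ⟨U, hyU, e, he⟩ := InvX.exists_frame hM y
  let s : Γ(M, ⊤) := φ.app ⊤ (H23.Frame.one ⊤)
  obtain ⟨g, hg⟩ := he.exists_coord le_rfl (AModX.res M (le_top : U ≤ ⊤) s)
  rw [AModX.res_self] at hg
  suffices h2 : y ∈ H23.TrivBasic.locus s ⊓ U from h2.1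
  rw [H23.TrivBasic.locus_eq_basicOpen he hg, X.mem_basicOpen _ y hyU]
  obtain ⟨q, hq⟩ := (ConcreteCategory.bijective_of_isIso ((DerSch.stalkFunctor X y).map φ)).2
    (M.presheaf.germ U y hyU e)
  obtain ⟨V, hyV, a, rfl⟩ := TopCat.Presheaf.exists_germ_eq (Coh.structureModule X).presheaf q
  have hq' : M.presheaf.germ V y hyV (φ.app V a) = M.presheaf.germ U y hyU e :=
    ((TopCat.Presheaf.stalkFunctor_map_germ_apply V y hyV ((Scheme.Modules.toPresheaf X).map φ) a).symm.trans hq)
  have happ : φ.app V a = (show Γ(X, V) from a) • AModX.res M (le_top : V ≤ ⊤) s := by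
    rw [InvX.app_eq_smul]
    rfl
  rw [happ, QCoh.germ_smul', InvX.germ_res' (le_top : V ≤ ⊤) hyV s,
    ← InvX.germ_res' (le_top : U ≤ ⊤) hyU s, hg, QCoh.germ_smul', smul_smul] at hq'
  exact IsUnit.of_mul_eq_one _ ((mul_comm _ _).trans
    ((he.germ_bijective hyU).1 (hq'.trans (one_smul _ _).symm)))

theorem isIso_tensor_idealModι {X : Scheme.{u}} (I : X.IdealSheafData) (E : X.Modules) {x : X}
    (hx : x ∉ (I.support : Set X)) :
    IsIso ((DerSch.stalkFunctor X x).map ((DCoh.tensorBi.obj E).map (ClSub.idealModι I))) := by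
  have hS : (ShortComplex.mk (ClSub.idealModι I) (ClSub.toSubscheme I) (kernel.condition _)).Exact :=
    ShortComplex.exact_of_f_is_kernel _ (kernelIsKernel _)
  haveI : Mono ((DerSch.stalkFunctor X x).map (ClSub.idealModι I)) := by
    unfold ClSub.idealModι; infer_instance
  haveI : Epi ((DerSch.stalkFunctor X x).map (ClSub.idealModι I)) := (hS.map (DerSch.stalkFunctor X x)).epi_f
    ((Snapper.notMem_support_iff.1 (not_not.2 (ParShLib.subsingleton_stalk_quotMod I hx))).eq_of_tgt _ _)
  haveI : IsIso ((DerSch.stalkFunctor X x).map (ClSub.idealModι I)) := isIso_of_mono_of_epi _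
  exact (NatIso.isIso_map_iff (KFlatLib.stalkTensorLeftIso E x) (ClSub.idealModι I)).2 (inferInstanceAs
    (IsIso ((MonoidalCategory.tensorLeft _).map ((DerSch.stalkFunctor X x).map (ClSub.idealModι I)))))

variable (k : Type u) [Field k] {X : Scheme.{u}} [X.Over (Spec (CommRingCat.of k))] [IsIntegral X]
  [IsProper (X ↘ Spec (CommRingCat.of k))] [Smooth (X ↘ Spec (CommRingCat.of k))]

/-- The module of a rational point. -/
theorem exists_point_bundle_inv (hdim : topologicalKrullDim X = 1) {O : X} (hO : IsClosed ({O} : Set X))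
    (hr : letI := Curv2.resAlgebra k X O; Module.finrank k (X.residueField O) = 1) :
    ∃ (M : X.Modules) (s : Γ(M, ⊤)), PicF.IsInvertible M ∧ Curv2.deg k X M 1 = 1 ∧
      (∀ y : X, y ∈ H23.TrivBasic.locus s ↔ y ≠ O) ∧
      Nonempty (CohB1.tensorMod (CurvePoint.ptMod O hO) M ≅ Coh.structureModule X) := by
  letI := Curv2.resAlgebra k X O
  haveI := CurveCohLib.isNoetherian_of_proper (k := k) (X := X)
  have hn := Neron6.isNormalScheme_of_smooth (X ↘ Spec (CommRingCat.of k)) FrobTwist.isNormalScheme_Spec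
  let I := CurvePoint.ptMod O hO
  have hI : PicF.IsInvertible I := CurveEmbed.isInvertible_point k hdim hO (hn O).2
  have hdI : Curv2.deg k X I 1 = -1 := by
    rw [CurveEmbed.deg_point k hO, hr]; rfl
  obtain ⟨M, hM, ⟨ε⟩⟩ := H23.PicInv.exists_inverse hI
  let ψ : (DCoh.tensorBi.obj M).obj I ⟶ (DCoh.tensorBi.obj M).obj (Coh.structureModule X) :=
    (DCoh.tensorBi.obj M).map (ClSub.idealModι (CurvePoint.ptIdeal O hO))
  obtain ⟨ε'⟩ : Nonempty ((DCoh.tensorBi.obj M).obj I ≅ Coh.structureModule X) :=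
    (H23.PicMul.comm M I).elim fun c => ⟨c ≪≫ ε⟩
  let φ : Coh.structureModule X ⟶ M := ε'.inv ≫ ψ ≫ (KFlatLib.tensorUnitIso M).hom
  have hdM : Curv2.deg k X M 1 = 1 := by
    have h1 := CurveRR.deg_tensor k hdim hM hI
    rw [CurveRR.deg_congr k ε' 1, CurveDeg.deg_structureModule, hdI] at h1
    omega
  have isIso_stalk : ∀ (z : X) (_ : z ≠ O), IsIso ((DerSch.stalkFunctor X z).map φ) := fun z hz => by
    haveI : IsIso ((DerSch.stalkFunctor X z).map ψ) :=
      isIso_tensor_idealModι _ M (fun h => hz (Set.mem_singleton_iff.1 h))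
    rw [Functor.map_comp, Functor.map_comp]
    infer_instance
  refine ⟨M, φ.app ⊤ (H23.Frame.one ⊤), hM, hdM, fun y => ⟨fun hy hyO => ?_, fun hy => ?_⟩, ⟨ε⟩⟩
  · have htop : H23.TrivBasic.locus (φ.app ⊤ (H23.Frame.one ⊤) : Γ(M, ⊤)) = ⊤ := by
      refine top_le_iff.1 fun z _ => ?_
      by_cases hz : z = O
      · rw [hz, ← hyO]; exact hy
      · exact mem_locus_of_isIso_stalk hM φ (isIso_stalk z hz)
    obtain ⟨θ⟩ := H23.TrivBasic.triv_of_frame (H23.TrivBasic.locus_eq_top_iff.1 htop)
    rw [CurveRR.deg_congr k θ 1, CurveDeg.deg_structureModule] at hdM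
    exact zero_ne_one hdM
  · exact mem_locus_of_isIso_stalk hM φ (isIso_stalk y hy)

/-- The module of a rational point. -/
theorem exists_point_bundle (hdim : topologicalKrullDim X = 1) {O : X} (hO : IsClosed ({O} : Set X))
    (hr : letI := Curv2.resAlgebra k X O; Module.finrank k (X.residueField O) = 1) :
    ∃ (M : X.Modules) (s : Γ(M, ⊤)), PicF.IsInvertible M ∧ Curv2.deg k X M 1 = 1 ∧
      ∀ y : X, y ∈ H23.TrivBasic.locus s ↔ y ≠ O := by
  obtain ⟨M, s, h1, h2, h3, -⟩ := exists_point_bundle_inv k hdim hO hr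
  exact ⟨M, s, h1, h2, h3⟩

end Groth.Agent.CurveCover
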