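import Groth.Agent.CurveCover.InvolPlaces
import Groth.Agent.CurveCover.CoverUniq
import Groth.Agent.CurveCover.EtaleOpen
import Groth.Agent.CurveCover.PointBundle

/-! Hyperelliptic curves and involutions with many fixed points. -/

noncomputable section

set_option linter.style.haveILetI false
set_option linter.unusedSectionVars false
set_option backward.isDefEq.respectTransparency false
set_option backward.isDefEq.respectTransparency.types false
set_option autoImplicit false
set_option maxHeartbeats 1000000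

universe u

open CategoryTheory CategoryTheory.Limits AlgebraicGeometry TopologicalSpace Opposite
open FunFld Groth.Agent.FFLib
open Groth.Agent.CurveCohLib.Polar (InR)

namespace Groth.Agent.CurveCover

attribute [local instance] CurveFF.ffAlg isIntegral_line

/-- A map of function fields over a proper base extends to a morphism. -/
theorem exists_hom_of_ff {X Y : Scheme.{u}} [IsIntegral X] [IsIntegral Y] [Y.IsSeparated]
    (hv : ∀ x : X, ValuationRing (X.presheaf.stalk x))
    (h : X ⟶ Y) [IsProper h] (eh : h (genericPoint X) = genericPoint Y)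
    (φ : X.functionField →+* X.functionField) (hφ : φ.comp (CurveTrace.ff eh) = CurveTrace.ff eh) :
    ∃ (σ : X ⟶ X), σ ≫ h = h ∧
      X.fromSpecStalk (genericPoint X) ≫ σ =
        Spec.map (CommRingCat.ofHom φ) ≫ X.fromSpecStalk (genericPoint X) := by
  let φ₀ : Spec (X.presheaf.stalk (genericPoint X)) ⟶ X :=
    Spec.map (CommRingCat.ofHom φ) ≫ X.fromSpecStalk (genericPoint X)
  have h₀ : φ₀ ≫ h = X.fromSpecStalk _ ≫ h := by
    rw [← fromSpecStalk_ff eh, Category.assoc, ← fromSpecStalk_ff eh, ← Spec.map_comp_assoc,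
      ← CommRingCat.ofHom_comp, hφ]
  haveI : X.IsSeparated := ⟨by
    rw [show terminal.from X = h ≫ terminal.from Y from (terminal.comp_from h).symm]
    infer_instance⟩
  obtain ⟨W, hW, H, hsub, hH, hH'⟩ := H23.RatExtend.extend h h φ₀ h₀ Set.univ
    fun p _ => H23.RatExtend.exists_lift h h φ₀ h₀ p (hv p)
  haveI : IsIso W.ι := by
    have : Surjective W.ι := ⟨fun y => ⟨⟨y, hsub trivial⟩, rfl⟩⟩
    exact (isIso_iff_isOpenImmersion_and_surjective _).2 ⟨inferInstance, this⟩
  refine ⟨inv W.ι ≫ H, by rw [Category.assoc, hH, IsIso.inv_hom_id_assoc], ?_⟩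
  show _ = φ₀
  rw [← hH', ← Scheme.Opens.fromSpecStalkOfMem_ι W (genericPoint X) hW, Category.assoc,
    IsIso.hom_inv_id_assoc]

variable (k : Type u) [Field k] [IsAlgClosed k] {X : Scheme.{u}} [X.Over (Spec (CommRingCat.of k))] [IsIntegral X]
  [IsProper (X ↘ Spec (CommRingCat.of k))] [Smooth (X ↘ Spec (CommRingCat.of k))]
  (hdim : topologicalKrullDim X = 1)
  (σ : X ⟶ X) (hp : σ ≫ (X ↘ Spec (CommRingCat.of k)) = X ↘ Spec (CommRingCat.of k)) (hσ : σ ≫ σ = 𝟙 X)

include hσ in
theorem map_gen_invol : σ (genericPoint X) = genericPoint X := by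
  haveI : IsIso σ := ⟨σ, hσ, hσ⟩
  exact IsGenericPoint.eq (show IsGenericPoint (σ (genericPoint X)) Set.univ from ((genericPoint_spec X).image σ.continuous).trans (by
    rw [Set.image_univ, (show Function.Surjective σ from fun y => ⟨σ y, by
      rw [← Scheme.Hom.comp_apply, hσ]; rfl⟩).range_eq, closure_univ])) (genericPoint_spec X)

/-- The action of an involution on the function field. -/
def ffAut : X.functionField ≃ₐ[k] X.functionField :=
  AlgEquiv.ofRingEquiv (f := RingEquiv.ofRingHom (CurveTrace.ff (map_gen_invol σ hσ)) (CurveTrace.ff (map_gen_invol σ hσ))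
    ((ff_comp hσ _ _ rfl).trans (ff_id rfl)) ((ff_comp hσ _ _ rfl).trans (ff_id rfl)))
    fun a => by
      have h1 : CurveTrace.cst k X a = algebraMap k X.functionField a :=
        CurveVA.germ_sc k (x := genericPoint X) a
      show CurveTrace.ff (map_gen_invol σ hσ) (algebraMap k X.functionField a) = _
      rw [← h1]
      exact (CurveTrace.ff_cst k (map_gen_invol σ hσ) hp a).trans rfl

theorem ffAut_apply (c : X.functionField) :
    ffAut k σ hp hσ c = CurveTrace.ff (map_gen_invol σ hσ) c := rfl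

include hσ in
theorem isClosed_image {z : X} (hz : IsClosed ({z} : Set X)) : IsClosed ({σ z} : Set X) := by
  haveI : IsIso σ := ⟨σ, hσ, hσ⟩
  rw [← Set.image_singleton]
  exact σ.homeomorph.isClosedMap _ hz

/-- The action on places is the action on points. -/
theorem placeComap_pl (z : CurveFF.Pt X) :
    placeComap (ffAut k σ hp hσ) (CurveFF.pl k X hdim z) =
      CurveFF.pl k X hdim ⟨σ z.1, isClosed_image σ hσ z.2⟩ := by
  refine (place_eq_of_le fun c hc => ?_).symm
  obtain ⟨a, rfl⟩ := (CurveFF.inR_iff k X hdim _ c).2 hc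
  rw [placeComap_apply]
  refine (CurveFF.inR_iff k X hdim z _).1 ⟨σ.stalkMap z.1 a, ?_⟩
  rw [ffAut_apply]
  show (X.presheaf.stalkSpecializes ((genericPoint_spec X).specializes (Set.mem_univ _))).hom (σ.stalkMap z.1 a) =
    (σ.stalkMap (genericPoint X)).hom ((X.presheaf.stalkSpecializes _).hom
      ((X.presheaf.stalkSpecializes ((genericPoint_spec X).specializes (Set.mem_univ _))).hom a))
  rw [← Scheme.Hom.stalkSpecializes_stalkMap_apply σ _ _ ((genericPoint_spec X).specializes (Set.mem_univ _)) a,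
    TopCat.Presheaf.stalkSpecializes_comp_apply]

/-- Fixed closed points are fixed places. -/
def fixedEquiv : {x : X // IsClosed ({x} : Set X) ∧ σ x = x} ≃
    {P : Place k X.functionField // placeComap (ffAut k σ hp hσ) P = P} :=
  (Equiv.subtypeSubtypeEquivSubtypeInter (fun x : X => IsClosed ({x} : Set X)) (fun x => σ x = x)).symm.trans
    (Equiv.subtypeEquiv (CurveFF.pl k X hdim) fun z => by
      rw [placeComap_pl k hdim σ hp hσ z, (CurveFF.pl k X hdim).injective.eq_iff]
      exact ⟨fun h => Subtype.ext h, fun h => congrArg Subtype.val h⟩)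

include hdim in
theorem infinite_places : Infinite (Place k X.functionField) := by
  have hF := (CurveFF.isFunctionField k X hdim).1
  obtain ⟨x, hx, -⟩ := hF
  have hex : ∀ a : k, ∃ P : Place k X.functionField, P.1 (x - algebraMap k _ a) < 1 := fun a =>
    exists_place_zero (CurveFF.isFunctionField k X hdim).1 (transcendental_sub hx a)
  choose φ hφ using hex
  refine Infinite.of_injective φ fun a b hab => ?_
  by_contra hne
  have h1 := hφ a
  have h2 := hφ b
  rw [← hab] at h2
  have h := (φ a).1.map_sub (x - algebraMap k _ b) (x - algebraMap k _ a)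
  rw [show x - algebraMap k _ b - (x - algebraMap k _ a) = algebraMap k X.functionField (a - b) by
    rw [map_sub]; ring, val_algebraMap _ (sub_ne_zero.2 hne)] at h
  exact lt_irrefl _ (h.trans_lt (max_lt h2 h1))

include hp hσ hdim in
/-- An involution with `2g + 2` fixed points makes the curve hyperelliptic. -/
theorem exists_cover_of_fixed (h2 : (2 : k) ≠ 0) (hg : 1 ≤ Curv2.genus k X)
    (hcard : Nat.card {x : X // IsClosed ({x} : Set X) ∧ σ x = x} = 2 * Curv2.genus k X + 2) :
    ∃ f : X ⟶ CohB1.ProjSpace 1 k, f ≫ CohB1.ProjSpace.toSpec 1 k = X ↘ Spec (CommRingCat.of k) ∧ IsFinite f ∧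
      Flat f ∧ (∀ y : ↥(CohB1.ProjSpace 1 k), f.finrank y = 2) ∧
      ∃ V : X.Opens, (V : Set X).Nonempty ∧ Etale (V.ι ≫ f) := by
  classical
  haveI := CurveCohLib.isNoetherian_of_proper (k := k) (X := X)
  have hK := CurveFF.isFunctionField k X hdim
  have hgK := CurveFF.genus_eq k (X := X) hdim
  rw [Nat.card_congr (fixedEquiv k hdim σ hp hσ)] at hcard
  haveI hfin : Finite {P : Place k X.functionField // placeComap (ffAut k σ hp hσ) P = P} :=
    Nat.finite_of_card_ne_zero (by omega)
  have hne : ffAut k σ hp hσ ≠ AlgEquiv.refl := fun hid => by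
    haveI := infinite_places k (X := X) hdim
    exact not_finite_iff_infinite.2 (inferInstance : Infinite (Place k X.functionField))
      (Finite.of_injective (fun P : Place k X.functionField =>
        (⟨P, place_eq_of_iff fun c => by rw [placeComap_apply, hid]; rfl⟩ :
          {P : Place k X.functionField // placeComap (ffAut k σ hp hσ) P = P}))
        fun P Q h => congrArg Subtype.val h)
  have hinv : ∀ c, ffAut k σ hp hσ (ffAut k σ hp hσ c) = c := fun c =>
    RingHom.congr_fun ((ff_comp hσ (map_gen_invol σ hσ) (map_gen_invol σ hσ) rfl).trans (ff_id rfl)) c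
  haveI := Fintype.ofFinite {P : Place k X.functionField // placeComap (ffAut k σ hp hσ) P = P}
  let S : Finset (Place k X.functionField) := (Finset.univ : Finset
    {P : Place k X.functionField // placeComap (ffAut k σ hp hσ) P = P}).map (Function.Embedding.subtype _)
  have hScard : 2 * FunFld.genus k X.functionField + 2 ≤ S.card := by
    rw [hgK, ← hcard, Finset.card_map, Finset.card_univ, Nat.card_eq_fintype_card]
  obtain ⟨P, -, hell⟩ := exists_two_le_ell (ffAut k σ hp hσ) hinv hK h2 hne (hgK.symm ▸ hg) S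
    (fun Q hQ => by obtain ⟨R, -, rfl⟩ := Finset.mem_map.1 hQ; exact R.2) hScard
  obtain ⟨⟨O, hO⟩, rfl⟩ := (CurveFF.pl k X hdim).surjective P
  have hr : letI := Curv2.resAlgebra k X O; Module.finrank k (X.residueField O) = 1 := by
    letI := Curv2.resAlgebra k X O
    have hb : Function.Bijective (Algebra.linearMap k (X.residueField O)) :=
      ⟨(Curv2.resMap k X O).injective, CurveSection.surjective_resMap k hO⟩
    rw [← (LinearEquiv.ofBijective _ hb).finrank_eq, Module.finrank_self]
  obtain ⟨M, s, hM, hMd, hs⟩ := exists_point_bundle k hdim hO hr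
  let U₀ := H23.TrivBasic.locus s
  have h₀ : genericPoint X ∈ U₀ := (hs _).2 fun h => by
    have := CurveFF.isDVR k X hdim hO
    subst h
    exact IsDiscreteValuationRing.not_isField _ (Field.toIsField X.functionField)
  have he₀ : InvX.IsFrame (AModX.res M (le_top : U₀ ≤ ⊤) s) := H23.TrivBasic.isFrame_res_of_le_locus le_rfl
  have hD : CurveFF.divisor k hdim hM he₀ h₀ = Finsupp.single (CurveFF.pl k X hdim ⟨O, hO⟩) 1 := by
    obtain ⟨c, hc⟩ : ∃ c, CurveFF.divisor k hdim hM he₀ h₀ = Finsupp.single (CurveFF.pl k X hdim ⟨O, hO⟩) c := by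
      refine ⟨_, (Finsupp.eq_single_iff (b := CurveFF.divisor k hdim hM he₀ h₀ (CurveFF.pl k X hdim ⟨O, hO⟩))).2
        ⟨fun Q hQ => ?_, rfl⟩⟩
      obtain ⟨z, rfl⟩ := (CurveFF.pl k X hdim).surjective Q
      rw [Finset.mem_singleton, (CurveFF.pl k X hdim).injective.eq_iff]
      refine Subtype.ext ?_
      by_contra hne'
      refine Finsupp.mem_support_iff.1 hQ ?_
      show CurveFF.ordFun k hdim hM he₀ h₀ ((CurveFF.pl k X hdim).symm (CurveFF.pl k X hdim z)) = 0
      rw [Equiv.symm_apply_apply]
      exact CurveFF.ordFun_eq_zero k hdim hM he₀ h₀ ((hs _).2 hne')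
    have hd := CurveFF.deg_divisor k hdim hM he₀ h₀
    rw [hc, Divisor.deg_single, deg_eq_one hK.1, hMd, Nat.cast_one, mul_one] at hd
    rw [hc, hd]
  let L := CohB1.tensorMod M M
  have hL : PicF.IsInvertible L := InvX.isInvertible_tensorMod hM hM
  have hd2 : Curv2.deg k X L 1 = 2 := by
    rw [show Curv2.deg k X L 1 = _ from CurveRR.deg_tensor k hdim hM hM, hMd]
    norm_num
  have h0 : Module.finrank k (Coh.HH X (Coh.structureModule X) 0) = 1 :=
    CurveCohLib.Clifford.finrank_h0_structure k
  have hh : Module.finrank k (Coh.HH X L 0) = 2 := by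
    refine le_antisymm (h0_le_two k X hdim h0 hg hL hd2) ?_
    rw [CurveFF.finrank_h0_eq_ell k hdim hL (InvX.isFrame_tmul he₀ he₀) h₀,
      CurveFF.divisor_tensor k hdim hM he₀ h₀ hM he₀, hD, ← Finsupp.single_add]
    exact hell
  obtain ⟨f, hf, _, ⟨τ⟩⟩ := exists_pencil k X hdim h0 hg hL hd2 hh
  have hdeg : f.residueDegree (genericPoint X) = 2 := by
    have h := residueDegree_pencil k X hdim h0 f hf
    rw [CurveRR.deg_congr k τ 1, hd2] at h
    exact_mod_cast h
  obtain ⟨hflat, hfp, hr'⟩ := flat_and_finrank k hdim f hf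
  haveI := hfp
  refine ⟨f, hf, inferInstance, hflat, fun y => (hr' y).trans hdeg, ?_⟩
  exact exists_etale_open (map_gen k f hf hdim)
    ((isSeparable_residue_iff (map_gen k f hf hdim)).1 (separable_of_degree_two k X hdim h0 hg f hf hdeg))

omit σ hp hσ in
include hdim in
/-- A double cover of the line gives an involution over the line with `2g + 2` fixed points. -/
theorem exists_deck_fixed (h2 : (2 : k) ≠ 0) (hg : 1 ≤ Curv2.genus k X)
    (f : X ⟶ CohB1.ProjSpace 1 k) (hf : f ≫ CohB1.ProjSpace.toSpec 1 k = X ↘ Spec (CommRingCat.of k))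
    [IsFinite f] (hr : ∀ y : ↥(CohB1.ProjSpace 1 k), f.finrank y = 2) :
    ∃ σ : X ⟶ X, σ ≫ (X ↘ Spec (CommRingCat.of k)) = X ↘ Spec (CommRingCat.of k) ∧ σ ≫ σ = 𝟙 X ∧ σ ≫ f = f ∧
      Nat.card {x : X // IsClosed ({x} : Set X) ∧ σ x = x} = 2 * Curv2.genus k X + 2 := by
  classical
  haveI := CurveCohLib.isNoetherian_of_proper (k := k) (X := X)
  haveI := isProper_line k
  let K := X.functionField
  have h0 : Module.finrank k (Coh.HH X (Coh.structureModule X) 0) = 1 :=
    CurveCohLib.Clifford.finrank_h0_structure k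
  have hdeg := residueDegree_eq_two k f hf hdim hr
  let x : K := coordX k f hf hdim 0 1
  have hQ := quad k f hf hdim hdeg h0
  obtain ⟨z₀, hn₀⟩ := exists_normal_cover k f hf hdim hdeg h0
  obtain ⟨w, F, hn, hw, hl, hu⟩ := hQ.exists_equation_zero hn₀ h2
  let E := IntermediateField.adjoin k ({x} : Set K)
  have hFE : ∀ p : Polynomial k, Polynomial.aeval x p ∈ E := fun p =>
    (IntermediateField.mem_adjoin_simple_iff k _).2 ⟨p, 1, by simp⟩
  haveI : Algebra.IsSeparable E K := isSeparable_adjoin k f hf hdim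
    ((isSeparable_residue_iff (map_gen k f hf hdim)).1 (separable_of_degree_two k X hdim h0 hg f hf hdeg))
  haveI : Algebra.IsQuadraticExtension E K := { finrank_eq_two' := hQ.deg }
  haveI : FiniteDimensional E K := Module.finite_of_finrank_pos (by rw [hQ.deg]; norm_num)
  haveI : IsGalois E K := inferInstance
  have hc2 : Nat.card (K ≃ₐ[E] K) = 2 := (IsGalois.card_aut_eq_finrank E K).trans hQ.deg
  obtain ⟨s, hs⟩ : ∃ s : K ≃ₐ[E] K, s ≠ 1 := by
    by_contra! hall
    haveI : Subsingleton (K ≃ₐ[E] K) := ⟨fun a b => (hall a).trans (hall b).symm⟩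
    rw [Nat.card_of_subsingleton (1 : K ≃ₐ[E] K)] at hc2
    omega
  have hs2 : ∀ c, s (s c) = c := fun c => by
    have h := pow_card_eq_one' (x := s)
    rw [hc2, pow_two] at h
    exact congr($h c)
  have hsE : ∀ c : K, c ∈ E → s c = c := fun c hc => s.commutes ⟨c, hc⟩
  have hwF : w * w = Polynomial.aeval x F := by rw [← pow_two, hw]
  have hsw : s w = -w := by
    have h1 := congrArg s hwF
    rw [map_mul, hsE _ (hFE F), ← hwF] at h1
    rcases mul_self_eq_mul_self_iff.1 h1 with h3 | h3
    · refine absurd (AlgEquiv.ext fun c => ?_) hs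
      obtain ⟨p, q, d, hd, he⟩ := hn.span c
      have hd' : Polynomial.aeval x d ≠ 0 := fun h =>
        hd (transcendental_iff_injective.1 hQ.transc (h.trans (map_zero _).symm))
      have h4 := congrArg s he
      rw [map_mul, map_add, map_mul, hsE _ (hFE d), hsE _ (hFE p), hsE _ (hFE q), h3, ← he] at h4
      exact mul_right_cancel₀ hd' h4
    · exact h3
  -- the squarefreeness of the polynomial
  have hF0 : F ≠ 0 := fun h => by
    rw [h, Polynomial.natDegree_zero] at hl
    omega
  have hsq : F.roots.Nodup := by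
    rw [Multiset.nodup_iff_count_le_one]
    intro a
    by_contra! hgt
    rw [Polynomial.count_roots] at hgt
    obtain ⟨H, hH⟩ := (Polynomial.le_rootMultiplicity_iff hF0).1 hgt
    let G : Polynomial k := Polynomial.X - Polynomial.C a
    have hG : Polynomial.aeval x G ≠ 0 := fun h =>
      Polynomial.X_sub_C_ne_zero a (transcendental_iff_injective.1 hQ.transc (h.trans (map_zero _).symm))
    have hint : w / Polynomial.aeval x G ∈ intAlg (k := k) x := by
      refine ⟨Polynomial.X ^ 2 - Polynomial.C H, Polynomial.monic_X_pow_sub_C H two_ne_zero, ?_⟩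
      rw [Polynomial.eval₂_sub, Polynomial.eval₂_X_pow, Polynomial.eval₂_C, div_pow, hw, hH, map_mul, map_pow,
        sub_eq_zero]
      exact mul_div_cancel_left₀ _ (pow_ne_zero _ hG)
    obtain ⟨p, q, he⟩ := hn.gen _ hint
    rw [div_eq_iff hG] at he
    have := hn.indep (G * p) (G * q - 1) (by
      simp only [map_mul, map_sub, map_one]
      linear_combination (-1 : K) * he)
    have h1 := IsUnit.of_mul_eq_one q (sub_eq_zero.1 this.2)
    exact Polynomial.not_isUnit_X_sub_C a h1
  -- the morphism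
  have hff : (s : K →+* K).comp (CurveTrace.ff (map_gen k f hf hdim)) = CurveTrace.ff (map_gen k f hf hdim) :=
    RingHom.ext fun c => hsE _ (ff_mem_adjoin k f hf hdim c)
  haveI : (CohB1.ProjSpace 1 k).IsSeparated := ⟨by
    rw [← Limits.terminal.comp_from ((CohB1.ProjSpace 1 k) ↘ Spec (CommRingCat.of k))]; infer_instance⟩
  obtain ⟨σ, hσf, hσs⟩ := exists_hom_of_ff
    (CurveLuroth.valuationRing_stalk (k := k) (X := X) hdim fun x hx =>
      CurveEmbed.isIntegrallyClosed_of_smooth k hdim hx
        ((Scheme.Hom.smoothLocus_eq_top (f := X ↘ Spec (CommRingCat.of k))).ge (Set.mem_univ x)))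
    f (map_gen k f hf hdim) (s : K →+* K) hff
  have hp : σ ≫ (X ↘ Spec (CommRingCat.of k)) = X ↘ Spec (CommRingCat.of k) := by rw [← hf, reassoc_of% hσf]
  obtain ⟨e, -, -⟩ := deck_data k f hf hdim σ hσf
  have hφ : (s : K →+* K) = CurveTrace.ff e := ff_unique e _ hσs.symm
  have hσ : σ ≫ σ = 𝟙 X := by
    have e2 : (σ ≫ σ) (genericPoint X) = genericPoint X := by rw [Scheme.Hom.comp_apply, e, e]
    refine hom_ext_ff (X ↘ Spec (CommRingCat.of k)) (by rw [Category.assoc, hp, hp, Category.id_comp]) e2 rfl ?_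
    rw [ff_id, ← ff_comp rfl e e e2, ← hφ]
    exact RingHom.ext hs2
  refine ⟨σ, hp, hσ, hσf, ?_⟩
  have hap : ∀ c, ffAut k σ hp hσ c = s c := fun c => (RingHom.congr_fun hφ c).symm
  rw [Nat.card_congr (fixedEquiv k hdim σ hp hσ)]
  exact card_fixed (ffAut k σ hp hσ) (CurveFF.isFunctionField k X hdim).1 h2 hQ.transc hQ.deg hw hsq
    (by omega) (by omega) ((hap x).trans (hsE x (IntermediateField.mem_adjoin_simple_self k x))) ((hap w).trans hsw)

omit σ hp hσ in
include hdim in
/-- A double cover of the line gives an involution with `2g + 2` fixed points. -/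
theorem exists_invol_of_cover (h2 : (2 : k) ≠ 0) (hg : 1 ≤ Curv2.genus k X)
    (f : X ⟶ CohB1.ProjSpace 1 k) (hf : f ≫ CohB1.ProjSpace.toSpec 1 k = X ↘ Spec (CommRingCat.of k))
    [IsFinite f] (hr : ∀ y : ↥(CohB1.ProjSpace 1 k), f.finrank y = 2) :
    ∃ σ : X ⟶ X, σ ≫ (X ↘ Spec (CommRingCat.of k)) = X ↘ Spec (CommRingCat.of k) ∧ σ ≫ σ = 𝟙 X ∧
      Nat.card {x : X // IsClosed ({x} : Set X) ∧ σ x = x} = 2 * Curv2.genus k X + 2 := by
  obtain ⟨σ, h1, h3, -, h4⟩ := exists_deck_fixed k hdim h2 hg f hf hr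
  exact ⟨σ, h1, h3, h4⟩

end Groth.Agent.CurveCover
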