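import Groth.Agent.CurveCover.WeierData

/-! Legendre normal form of an affine Weierstrass equation. -/

noncomputable section

set_option linter.style.haveILetI false
set_option linter.unusedSectionVars false
set_option backward.isDefEq.respectTransparency false
set_option backward.isDefEq.respectTransparency.types false
set_option autoImplicit false

universe u

open CategoryTheory CategoryTheory.Limits AlgebraicGeometry TopologicalSpace Opposite
open Groth.Agent.CurveCohLib.Polar

namespace Groth.Agent.CurveCover

attribute [local instance] CurveFF.ffAlg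

variable (k : Type u) [Field k] {X : Scheme.{u}} [X.Over (Spec (CommRingCat.of k))] [IsIntegral X]
  [Smooth (X ↘ Spec (CommRingCat.of k))]

theorem indep_shift {K : Type u} [Field K] [Algebra k K] {u v : K} {a c : k} (hc : c ≠ 0) (ha : a ≠ 0) (b : k)
    (r : Polynomial k)
    (h : ∀ p q : Polynomial k, Polynomial.aeval u p + Polynomial.aeval u q * v = 0 → p = 0 ∧ q = 0)
    (p q : Polynomial k)
    (hpq : Polynomial.aeval (algebraMap k K a * (u - algebraMap k K b)) p +
      Polynomial.aeval (algebraMap k K a * (u - algebraMap k K b)) q *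
        (algebraMap k K c * (v + Polynomial.aeval u r)) = 0) : p = 0 ∧ q = 0 := by
  let l : Polynomial k := Polynomial.C a * (Polynomial.X - Polynomial.C b)
  have key : ∀ s : Polynomial k, Polynomial.aeval (algebraMap k K a * (u - algebraMap k K b)) s =
      Polynomial.aeval u (s.comp l) := fun s => by
    rw [Polynomial.aeval_comp]; simp [l]
  rw [key, key] at hpq
  obtain ⟨h1, h2⟩ := h (p.comp l + q.comp l * Polynomial.C c * r) (q.comp l * Polynomial.C c) (by
    simp only [map_add, map_mul, Polynomial.aeval_C]
    linear_combination hpq)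
  have hq : q.comp l = 0 := (mul_eq_zero.1 h2).resolve_right (by simpa using hc)
  rw [hq, zero_mul, zero_mul, add_zero] at h1
  have hl : ∀ s : Polynomial k, s.comp l = 0 → s = 0 := fun s hs => by
    have h := congrArg (fun t => Polynomial.comp t (Polynomial.C a⁻¹ * Polynomial.X + Polynomial.C b)) hs
    simpa [l, Polynomial.comp_assoc, ← mul_assoc, ← Polynomial.C_mul, mul_inv_cancel₀ ha] using h
  exact ⟨hl p h1, hl q hq⟩

theorem gen_shift {K : Type u} [Field K] [Algebra k K] {u v w : K} {a c : k} (hc : c ≠ 0) (ha : a ≠ 0) (b : k)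
    (r : Polynomial k) (hw : ∃ p q : Polynomial k, w = Polynomial.aeval u p + Polynomial.aeval u q * v) :
    ∃ p q : Polynomial k, w = Polynomial.aeval (algebraMap k K a * (u - algebraMap k K b)) p +
      Polynomial.aeval (algebraMap k K a * (u - algebraMap k K b)) q *
        (algebraMap k K c * (v + Polynomial.aeval u r)) := by
  obtain ⟨p, q, rfl⟩ := hw
  let l : Polynomial k := Polynomial.C a⁻¹ * Polynomial.X + Polynomial.C b
  have hu : Polynomial.aeval (algebraMap k K a * (u - algebraMap k K b)) l = u := by
    simp only [l, map_add, map_mul, Polynomial.aeval_C, Polynomial.aeval_X]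
    rw [← mul_assoc, ← map_mul, inv_mul_cancel₀ ha, map_one]
    ring
  have key : ∀ s : Polynomial k, Polynomial.aeval (algebraMap k K a * (u - algebraMap k K b)) (s.comp l) =
      Polynomial.aeval u s := fun s => by rw [Polynomial.aeval_comp, hu]
  refine ⟨(p - q * r).comp l, Polynomial.C c⁻¹ * q.comp l, ?_⟩
  have hcc : algebraMap k K c⁻¹ * algebraMap k K c = 1 := by rw [← map_mul, inv_mul_cancel₀ hc, map_one]
  rw [map_mul (Polynomial.aeval (algebraMap k K a * (u - algebraMap k K b))), key, key, Polynomial.aeval_C, map_sub,
    map_mul]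
  linear_combination (-(Polynomial.aeval u q * (v + Polynomial.aeval u r))) * hcc

/-- The right hand side has no double root. -/
theorem no_double_root {U : X.Opens} (hη : genericPoint X ∈ U) {u v : Γ(X, U)}
    (hindep : ∀ p q : Polynomial k, Polynomial.aeval (gη hη u) p + Polynomial.aeval (gη hη u) q * gη hη v = 0 →
        p = 0 ∧ q = 0)
    (hgen : ∀ w : Γ(X, U), ∃ p q : Polynomial k,
        gη hη w = Polynomial.aeval (gη hη u) p + Polynomial.aeval (gη hη u) q * gη hη v)
    (e e' : k) (he : gη hη v ^ 2 = (gη hη u - algebraMap k X.functionField e) ^ 2 *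
      (gη hη u - algebraMap k X.functionField e')) : False := by
  let x := gη hη u
  let d := x - algebraMap k X.functionField e
  have hd : d ≠ 0 := fun h => by
    have := (hindep (Polynomial.X - Polynomial.C e) 0 (by simpa [d, x] using h)).1
    exact Polynomial.X_sub_C_ne_zero e this
  let t := gη hη v / d
  have ht : t ^ 2 = x - algebraMap k X.functionField e' := by
    rw [div_pow, div_eq_iff (pow_ne_zero _ hd), he]; ring
  obtain ⟨w, hw⟩ := exists_of_forall_inR (W := U) (c := t) fun z hz => by
    have hn := Neron6.isNormalScheme_of_smooth (X ↘ Spec (CommRingCat.of k)) FrobTwist.isNormalScheme_Spec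
    haveI : IsDomain (X.presheaf.stalk z) := (hn z).1
    haveI : IsIntegrallyClosed (X.presheaf.stalk z) := (hn z).2
    haveI : Nonempty U := ⟨⟨z, hz⟩⟩
    have hg : algebraMap (X.presheaf.stalk z) X.functionField (X.presheaf.germ U z hz u) = x :=
      X.algebraMap_germ_eq_germToFunctionField hz u
    have hint : _root_.IsIntegral (X.presheaf.stalk z) t := by
      refine ⟨Polynomial.X ^ 2 - Polynomial.C (X.presheaf.germ U z hz u - Curv2.stalkMap k X z e'), ?_, ?_⟩
      · exact Polynomial.monic_X_pow_sub_C _ two_ne_zero
      · simp only [Polynomial.eval₂_sub, Polynomial.eval₂_X_pow, Polynomial.eval₂_C, map_sub, hg,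
          ← CurveFF.algebraMap_eq, ht, sub_self]
    obtain ⟨m, hm⟩ := IsIntegrallyClosed.isIntegral_iff.1 hint
    exact ⟨m, hm⟩
  obtain ⟨p, q, hpq⟩ := hgen w
  rw [hw hη] at hpq
  have h2 := (hindep ((Polynomial.X - Polynomial.C e) * p) ((Polynomial.X - Polynomial.C e) * q - 1) (by
    have h3 : gη hη v = t * d := (div_mul_cancel₀ _ hd).symm
    simp only [map_mul, map_sub, Polynomial.aeval_X, Polynomial.aeval_C, map_one]
    linear_combination -d * hpq - h3)).2
  have h4 := congrArg (Polynomial.eval e) (sub_eq_zero.1 h2)
  simp at h4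

end Groth.Agent.CurveCover
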