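import Groth.Agent.Lib.AmpleEmbed
import Groth.Agent.VAmpleX.Eventually
import Groth.Agent.AmpleX.Extend
import Groth.Agent.AmpleX.QuasiAffine
import Groth.Prelude.Def_SecTwist

/-!
A normally generated ample invertible module on a proper scheme over an affine base is very ample.
-/

universe u

set_option autoImplicit false
set_option backward.isDefEq.respectTransparency false
set_option backward.isDefEq.respectTransparency.types false
set_option linter.style.haveILetI false
set_option linter.unusedSectionVars false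
set_option maxHeartbeats 800000

open CategoryTheory CategoryTheory.Limits AlgebraicGeometry TopologicalSpace Opposite

namespace Groth.Agent.CurveCover.NormGen

open Groth.Agent Groth.Agent.InvX Groth.Agent.H23

variable {X : Scheme.{u}} {L : X.Modules}

/-- A quasi-affine scheme which is proper over an affine scheme is affine. -/
theorem isAffine_of_isProper {V D : Scheme.{u}} (g : V ⟶ D) [IsAffine D] [IsProper g] [V.IsQuasiAffine] :
    IsAffine V := by
  have h : V.toSpecΓ ≫ Spec.map g.appTop ≫ D.isoSpec.inv = g := by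
    rw [← Category.assoc, ← Scheme.toSpecΓ_naturality, Category.assoc, Scheme.toSpecΓ_isoSpec_inv,
      Category.comp_id]
  haveI : IsProper (V.toSpecΓ ≫ Spec.map g.appTop ≫ D.isoSpec.inv) := by rw [h]; infer_instance
  haveI : IsProper V.toSpecΓ := IsProper.of_comp V.toSpecΓ (Spec.map g.appTop ≫ D.isoSpec.inv)
  have hsurj : Function.Surjective V.toSpecΓ.base := by
    rw [← Set.range_eq_univ, ← V.toSpecΓ.isClosedMap.isClosed_range.closure_eq,
      ← V.toSpecΓ.support_ker, Scheme.ker_toSpecΓ]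
    simp
  haveI : Surjective V.toSpecΓ := ⟨hsurj⟩
  haveI : IsIso V.toSpecΓ := (isIso_iff_isOpenImmersion_and_epi_base _).2
    ⟨inferInstance, (TopCat.epi_iff_surjective _).2 hsurj⟩
  exact IsAffine.of_isIso V.toSpecΓ

/-- `1 ⊗ a`. -/
noncomputable abbrev oneTmul {U : X.Opens} (a : Γ(L, U)) :
    Γ(CohB1.tensorMod (Coh.structureModule X) L, U) :=
  InvX.tmul (show Γ(Coh.structureModule X, U) from (1 : Γ(X, U))) a

lemma res_oneTmul {U V : X.Opens} (h : V ≤ U) (a : Γ(L, U)) :
    AModX.res _ h (oneTmul a) = oneTmul (AModX.res L h a) :=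
  (InvX.res_tmul h _ a).trans (congrArg (fun z => InvX.tmul z (AModX.res L h a)) (map_one (AModX.resR h)))

theorem oneTmul_injective (hL : PicF.IsInvertible L) {U : X.Opens} {a b : Γ(L, U)}
    (h : oneTmul a = oneTmul b) : a = b := by
  refine AModX.eq_of_locally _ _ fun p hp => ?_
  obtain ⟨W, hpW, e, he⟩ := InvX.exists_frame hL p
  obtain ⟨g, hg⟩ := he.exists_coord inf_le_right (AModX.res L (inf_le_left : U ⊓ W ≤ U) a)
  obtain ⟨g', hg'⟩ := he.exists_coord inf_le_right (AModX.res L (inf_le_left : U ⊓ W ≤ U) b)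
  refine ⟨U ⊓ W, inf_le_left, ⟨hp, hpW⟩, ?_⟩
  have h' := congrArg (AModX.res _ (inf_le_left : U ⊓ W ≤ U)) h
  rw [res_oneTmul, res_oneTmul, hg, hg', oneTmul, oneTmul, InvX.tmul_smul_right, InvX.tmul_smul_right] at h'
  have hfr := InvX.isFrame_tmul (InvX.isFrame_one (U ⊓ W)) (he.res (inf_le_right : U ⊓ W ≤ W))
  rw [hg, hg', hfr.coord_unique le_rfl (r := g) (r' := g') (by rwa [AModX.res_self])]

theorem oneTmul_surjective (hL : PicF.IsInvertible L)
    (z : Γ(CohB1.tensorMod (Coh.structureModule X) L, ⊤)) : ∃ a : Γ(L, ⊤), z = oneTmul a := by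
  choose W hW e he using fun p : X => InvX.exists_frame hL p
  have hloc : ∀ p : X, ∃ a : Γ(L, W p), AModX.res _ (le_top : W p ≤ ⊤) z = oneTmul a := fun p => by
    obtain ⟨g, hg⟩ := (InvX.isFrame_tmul (InvX.isFrame_one (W p)) (he p)).exists_coord le_rfl
      (AModX.res _ (le_top : W p ≤ ⊤) z)
    rw [AModX.res_self] at hg
    exact ⟨g • e p, by rw [hg, oneTmul, InvX.tmul_smul_right]⟩
  choose a ha using hloc
  obtain ⟨t, ht, -⟩ := AModX.existsUnique_glue (M := L) (V := ⊤) W (fun _ => le_top)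
    (fun p _ => ⟨p, hW p⟩) a fun i j => oneTmul_injective hL (by
      rw [← res_oneTmul, ← res_oneTmul, ← ha, ← ha, AModX.res_res, AModX.res_res])
  exact ⟨t, AModX.eq_of_locally _ _ fun p _ => ⟨W p, le_top, hW p, by rw [res_oneTmul, ht, ha]⟩⟩

/-- Sections of the higher tensor powers are sums of products. -/
def NormGenerated (L : X.Modules) : Prop :=
  ∀ n : ℕ, 1 ≤ n → AddSubgroup.closure {t | ∃ (m : (CohB1.tensorPow L n).val.obj (op ⊤)) (s : L.val.obj (op ⊤)),
    t = SecTwist.tmul (CohB1.tensorPow L n) L ⊤ m s} = ⊤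

lemma secTwist_tmul_eq {A : X.Modules} (m : A.val.obj (op ⊤)) (s : L.val.obj (op ⊤)) :
    SecTwist.tmul A L ⊤ m s = InvX.tmul (show Γ(A, ⊤) from m) (show Γ(L, ⊤) from s) := rfl

theorem normGenerated_induction (hng : NormGenerated L) {n : ℕ} (hn : 1 ≤ n)
    {p : Γ(CohB1.tensorPow L (n + 1), ⊤) → Prop}
    (mem : ∀ (m : Γ(CohB1.tensorPow L n, ⊤)) (s : Γ(L, ⊤)), p (InvX.tmul m s))
    (zero : p 0) (add : ∀ a b, p a → p b → p (a + b)) (neg : ∀ a, p a → p (-a))
    (z : Γ(CohB1.tensorPow L (n + 1), ⊤)) : p z := by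
  have hz : z ∈ AddSubgroup.closure {t | ∃ (m : (CohB1.tensorPow L n).val.obj (op ⊤)) (s : L.val.obj (op ⊤)),
      t = SecTwist.tmul (CohB1.tensorPow L n) L ⊤ m s} := by
    rw [hng n hn]
    exact AddSubgroup.mem_top _
  induction hz using AddSubgroup.closure_induction with
  | mem t ht => obtain ⟨m, s, rfl⟩ := ht; rw [secTwist_tmul_eq]; exact mem m s
  | zero => exact zero
  | add a b _ _ ha hb => exact add a b ha hb
  | neg a _ ha => exact neg a ha

/-- Some section of degree one is a frame at each point. -/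
theorem exists_mem_locus [CompactSpace X] [X.IsSeparated] (hLa : CohB1.IsAmple L) (hng : NormGenerated L)
    (x : X) : ∃ s : Γ(L, ⊤), x ∈ TrivBasic.locus s := by
  have hL := hLa.1
  obtain ⟨a, ha, κ, _, σ, -, -, hcov⟩ := AmpleX.exists_cover_genLocus hLa
  obtain ⟨k, hk⟩ := hcov x
  obtain ⟨n, rfl⟩ := Nat.exists_eq_add_of_le' ha
  obtain ⟨U, hxU, e, he⟩ := InvX.exists_frame (InvX.isInvertible_tensorPow hL (n + 1)) x
  obtain ⟨g, hg⟩ := he.exists_coord le_rfl (AModX.res _ (le_top : U ≤ ⊤) (InvX.one (σ k)))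
  rw [AModX.res_self] at hg
  have hxg : x ∈ X.basicOpen g := (InvX.genLocus_inf (σ k) he hg).le ⟨hk, hxU⟩
  by_contra hcon
  refine absurd hxg ?_
  let p : Γ(CohB1.tensorPow L (n + 1), ⊤) → Prop := fun z => ∀ c : Γ(X, U),
    AModX.res _ (le_top : U ≤ ⊤) z = c • e → X.presheaf.germ U x hxU c ∈ IsLocalRing.maximalIdeal _
  suffices H : ∀ z, p z by
    intro hb
    exact (IsLocalRing.mem_maximalIdeal _).1 (H (InvX.one (σ k)) g hg) ((X.mem_basicOpen g x hxU).1 hb)
  have hp : ∀ (m : Γ(CohB1.tensorPow L n, ⊤)) (s : Γ(L, ⊤)), p (InvX.tmul m s) := fun m s c hc => by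
    rw [IsLocalRing.mem_maximalIdeal]
    intro hu
    have hx : x ∈ TrivBasic.locus (InvX.tmul m s) ⊓ U :=
      (TrivBasic.locus_eq_basicOpen he hc).ge ((X.mem_basicOpen c x hxU).2 hu)
    rw [VAmpleX.locus_tmul (InvX.isInvertible_tensorPow hL n) hL] at hx
    exact hcon ⟨s, hx.1.2⟩
  intro z
  rcases Nat.eq_zero_or_pos n with rfl | hn
  · obtain ⟨t, rfl⟩ := oneTmul_surjective hL z
    exact hp _ t
  refine normGenerated_induction hng hn hp (fun c hc => ?_) (fun a b ha hb c hc => ?_) (fun a ha c hc => ?_) z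
  · have : c = 0 := he.coord_unique le_rfl (r := c) (r' := 0) (by rw [AModX.res_self, ← hc, map_zero, zero_smul])
    rw [this, map_zero]
    exact zero_mem _
  · obtain ⟨c₁, h₁⟩ := he.exists_coord le_rfl (AModX.res _ (le_top : U ≤ ⊤) a)
    obtain ⟨c₂, h₂⟩ := he.exists_coord le_rfl (AModX.res _ (le_top : U ≤ ⊤) b)
    rw [AModX.res_self] at h₁ h₂
    have : c = c₁ + c₂ := he.coord_unique le_rfl (by rw [AModX.res_self, ← hc, map_add, h₁, h₂, add_smul])
    rw [this, map_add]
    exact add_mem (ha c₁ h₁) (hb c₂ h₂)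
  · obtain ⟨c₁, h₁⟩ := he.exists_coord le_rfl (AModX.res _ (le_top : U ≤ ⊤) a)
    rw [AModX.res_self] at h₁
    have : c = -c₁ := he.coord_unique le_rfl (by rw [AModX.res_self, ← hc, map_neg, h₁, neg_smul])
    rw [this, map_neg]
    exact neg_mem (ha c₁ h₁)

/-- Over an affine base, the locus of one of finitely many covering sections of an ample module is
affine when the scheme is proper. -/
theorem isAffineOpen_locus {R : Type u} [CommRing R] (f : X ⟶ Spec (CommRingCat.of R)) [IsProper f]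
    (hLa : CohB1.IsAmple L) {κ : Type u} [Fintype κ] (S : κ → Γ(L, ⊤))
    (hcov : ∀ x : X, ∃ i, x ∈ TrivBasic.locus (S i)) (i₀ : κ) : IsAffineOpen (TrivBasic.locus (S i₀)) := by
  classical
  have hL := hLa.1
  haveI : CompactSpace X := hLa.2.1
  haveI : X.IsSeparated := ⟨by rw [← Limits.terminal.comp_from f]; infer_instance⟩
  obtain ⟨n, ⟨e⟩⟩ : ∃ n, Nonempty (Fin (n + 1) ≃ Option κ) :=
    ⟨Fintype.card κ, ⟨(finCongr Fintype.card_option.symm).trans (Fintype.equivFin _).symm⟩⟩
  let el : Option κ → Γ(L, ⊤) := fun o => o.elim 0 S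
  have hgenB : ProjUP.GeneratedBy L (fun j => el (e j)) := fun x => by
    obtain ⟨i, hi⟩ := hcov x
    refine eq_top_iff.2 fun z _ => ?_
    obtain ⟨c, hc⟩ := ((TrivBasic.isFrame_res_of_le_locus (le_refl (TrivBasic.locus (S i)))).germ_bijective hi).2 z
    rw [← hc]
    refine Submodule.smul_mem _ c (Submodule.subset_span ⟨e.symm (some i), ?_⟩)
    show (L.presheaf.germ ⊤ x trivial).hom (el (e (e.symm _))) = _
    rw [Equiv.apply_symm_apply]
    exact (InvX.germ_res' (le_top : TrivBasic.locus (S i) ≤ ⊤) hi (S i)).symm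
  obtain ⟨r, hr, τ, hτ⟩ := S3572.result n f L hL (fun j => el (e j)) hgenB
  haveI : IsProper (r ≫ CohB1.ProjSpace.toSpec n R) := by rw [hr]; infer_instance
  haveI : IsProper (CohB1.ProjSpace.toSpec n R) := PnCoh.Chow.isProper_toSpec n R
  haveI : IsProper r := IsProper.of_comp r (CohB1.ProjSpace.toSpec n R)
  let D := Proj.basicOpen (CohB1.polyGrading n R) (MvPolynomial.X (e.symm (some i₀)))
  haveI : IsAffine (D : Scheme) := Proj.isAffineOpen_basicOpen _ _ (ProjPt.X_mem _) one_pos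
  have hpre : r ⁻¹ᵁ D = TrivBasic.locus (S i₀) := AmpleEmbed.preimage_chart r τ _ (by
    rw [hτ]; show el _ = _; rw [Equiv.apply_symm_apply]; rfl)
  haveI hprop : IsProper (r ∣_ D) := IsZariskiLocalAtTarget.restrict ‹IsProper r› D
  haveI : CompactSpace (r ⁻¹ᵁ D : Scheme) := QuasiCompact.compactSpace_of_compactSpace (r ∣_ D)
  haveI : (r ⁻¹ᵁ D : Scheme).IsQuasiAffine := by
    obtain ⟨a, -, κ', _, σ, haff, -, hcov'⟩ := AmpleX.exists_cover_genLocus hLa
    refine Scheme.IsQuasiAffine.of_forall_exists_mem_basicOpen _ fun x => ?_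
    obtain ⟨k, hk⟩ := hcov' x.1
    have hfr : IsFrame (AmpleX.powElt (AModX.res L (le_top : r ⁻¹ᵁ D ≤ ⊤) (S i₀)) a) :=
      AmpleX.isFrame_powElt (TrivBasic.isFrame_res_of_le_locus hpre.le) a
    obtain ⟨c, hc⟩ := hfr.exists_coord le_rfl (AModX.res _ (le_top : r ⁻¹ᵁ D ≤ ⊤) (InvX.one (σ k)))
    rw [AModX.res_self] at hc
    have hb : CohB1.genLocus _ (σ k) ⊓ r ⁻¹ᵁ D = X.basicOpen c := InvX.genLocus_inf (σ k) hfr hc
    refine ⟨(r ⁻¹ᵁ D).topIso.inv c, ?_, ?_⟩
    · rw [← (r ⁻¹ᵁ D).ι.isAffineOpen_iff_of_isOpenImmersion, Scheme.Opens.ι_image_basicOpen_topIso_inv, ← hb, hpre]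
      exact AmpleX.isAffineOpen_inf_genLocus hL (haff k) (InvX.ofSect (S i₀))
    · have : x.1 ∈ X.basicOpen c := hb.le ⟨hk, x.2⟩
      rw [← Scheme.Opens.ι_image_basicOpen_topIso_inv] at this
      obtain ⟨y, hy, hyx⟩ := this
      rwa [show y = x from Subtype.ext hyx] at hy
  have := isAffine_of_isProper (r ∣_ D)
  rw [← hpre]
  exact this

lemma exists_finset_mem_closure {A : Type*} [CommRing A] {ι : Type*} (B : Set A) (φ : ι → A) {x : A}
    (hx : x ∈ Subring.closure (B ∪ Set.range φ)) : ∃ F : Finset ι, x ∈ Subring.closure (B ∪ φ '' F) := by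
  classical
  have mono : ∀ {F G : Finset ι}, F ⊆ G → Subring.closure (B ∪ φ '' F) ≤ Subring.closure (B ∪ φ '' G) :=
    fun h => Subring.closure_mono (Set.union_subset_union_right _ (Set.image_mono (Finset.coe_subset.2 h)))
  induction hx using Subring.closure_induction with
  | mem y hy =>
    rcases hy with hy | ⟨i, rfl⟩
    · exact ⟨∅, Subring.subset_closure (Or.inl hy)⟩
    · exact ⟨{i}, Subring.subset_closure (Or.inr ⟨i, by simp, rfl⟩)⟩
  | zero => exact ⟨∅, zero_mem _⟩
  | one => exact ⟨∅, one_mem _⟩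
  | add a b _ _ ha hb =>
    obtain ⟨F, hF⟩ := ha; obtain ⟨G, hG⟩ := hb
    exact ⟨F ∪ G, add_mem (mono Finset.subset_union_left hF) (mono Finset.subset_union_right hG)⟩
  | neg a _ ha => obtain ⟨F, hF⟩ := ha; exact ⟨F, neg_mem hF⟩
  | mul a b _ _ ha hb =>
    obtain ⟨F, hF⟩ := ha; obtain ⟨G, hG⟩ := hb
    exact ⟨F ∪ G, mul_mem (mono Finset.subset_union_left hF) (mono Finset.subset_union_right hG)⟩

theorem isRelVeryAmplePn_of_normGenerated {R : Type u} [CommRing R] (f : X ⟶ Spec (CommRingCat.of R))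
    [IsProper f] (hLa : CohB1.IsAmple L) (hng : NormGenerated L) : RelAmple.IsRelVeryAmplePn f L := by
  classical
  have hL := hLa.1
  haveI : CompactSpace X := hLa.2.1
  haveI : X.IsSeparated := ⟨by rw [← Limits.terminal.comp_from f]; infer_instance⟩
  choose s₀ hs₀ using exists_mem_locus hLa hng
  obtain ⟨T₀, hT₀⟩ := isCompact_univ.elim_finite_subcover (fun x => (TrivBasic.locus (s₀ x) : Set X))
    (fun x => (TrivBasic.locus (s₀ x)).2) (fun x _ => Set.mem_iUnion.2 ⟨x, hs₀ x⟩)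
  have hcov : ∀ x : X, ∃ i : T₀, x ∈ TrivBasic.locus (s₀ i.1) := fun x => by
    obtain ⟨y, hy, hxy⟩ := Set.mem_iUnion₂.1 (hT₀ (Set.mem_univ x))
    exact ⟨⟨y, hy⟩, hxy⟩
  let S : T₀ → Γ(L, ⊤) := fun i => s₀ i.1
  let V : T₀ → X.Opens := fun i => TrivBasic.locus (S i)
  have haff : ∀ i, IsAffineOpen (V i) := isAffineOpen_locus f hLa S hcov
  have hfr : ∀ i, IsFrame (AModX.res L (le_top : V i ≤ ⊤) (S i)) := fun i =>
    TrivBasic.isFrame_res_of_le_locus le_rfl
  choose c hc using fun i (t : Γ(L, ⊤)) => (hfr i).exists_coord le_rfl (AModX.res L (le_top : V i ≤ ⊤) t)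
  simp only [AModX.res_self] at hc
  let P : ∀ i, Subring Γ(X, V i) := fun i =>
    Subring.closure (Set.range (VAmpleX.baseFn f (V i)) ∪ Set.range (c i))
  have hdeg : ∀ i, ∀ n, 1 ≤ n → ∀ z : Γ(CohB1.tensorPow L n, ⊤), ∀ d : Γ(X, V i),
      AModX.res _ (le_top : V i ≤ ⊤) z = d • AmpleX.powElt (AModX.res L (le_top : V i ≤ ⊤) (S i)) n → d ∈ P i := by
    intro i n hn
    induction n, hn using Nat.le_induction with
    | base =>
      intro z d hd
      obtain ⟨t, rfl⟩ := oneTmul_surjective hL z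
      have h1 : AModX.res (CohB1.tensorMod (Coh.structureModule X) L) (le_top : V i ≤ ⊤) (oneTmul t) =
          c i t • oneTmul (AModX.res L (le_top : V i ≤ ⊤) (S i)) := by
        refine (res_oneTmul (le_top : V i ≤ ⊤) t).trans ?_
        rw [hc i t]
        exact InvX.tmul_smul_right _ _ _
      rw [(AmpleX.isFrame_powElt (hfr i) 1).coord_unique le_rfl (r := d) (r' := c i t)
        (by rw [AModX.res_self, ← hd]; exact h1)]
      exact Subring.subset_closure (Or.inr ⟨t, rfl⟩)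
    | succ n hn ih =>
      intro z
      have hfn := AmpleX.isFrame_powElt (hfr i) (n + 1)
      refine normGenerated_induction hng hn (p := fun z => ∀ d : Γ(X, V i),
        AModX.res _ (le_top : V i ≤ ⊤) z = d • AmpleX.powElt (AModX.res L (le_top : V i ≤ ⊤) (S i)) (n + 1) → d ∈ P i)
        (fun m t d hd => ?_) (fun d hd => ?_) (fun a b ha hb d hd => ?_) (fun a ha d hd => ?_) z
      · obtain ⟨dm, hm⟩ := (AmpleX.isFrame_powElt (hfr i) n).exists_coord le_rfl
          (AModX.res _ (le_top : V i ≤ ⊤) m)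
        rw [AModX.res_self] at hm
        have h1 : AModX.res _ (le_top : V i ≤ ⊤) (InvX.tmul m t) =
            (dm * c i t) • AmpleX.powElt (AModX.res L (le_top : V i ≤ ⊤) (S i)) (n + 1) := by
          rw [InvX.res_tmul, hm, hc i t, InvX.tmul_smul_left, InvX.tmul_smul_right, ← mul_smul,
            AmpleX.powElt_succ]
        rw [hfn.coord_unique le_rfl (r := d) (r' := dm * c i t) (by rw [AModX.res_self, ← hd]; exact h1)]
        exact mul_mem (ih m dm hm) (Subring.subset_closure (Or.inr ⟨t, rfl⟩))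
      · rw [hfn.coord_unique le_rfl (r := d) (r' := 0) (by rw [AModX.res_self, ← hd, map_zero, zero_smul])]
        exact zero_mem _
      · obtain ⟨da, h₁⟩ := hfn.exists_coord le_rfl (AModX.res _ (le_top : V i ≤ ⊤) a)
        obtain ⟨db, h₂⟩ := hfn.exists_coord le_rfl (AModX.res _ (le_top : V i ≤ ⊤) b)
        rw [AModX.res_self] at h₁ h₂
        rw [hfn.coord_unique le_rfl (r := d) (r' := da + db)
          (by rw [AModX.res_self, ← hd, map_add, h₁, h₂, add_smul])]
        exact add_mem (ha da h₁) (hb db h₂)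
      · obtain ⟨da, h₁⟩ := hfn.exists_coord le_rfl (AModX.res _ (le_top : V i ≤ ⊤) a)
        rw [AModX.res_self] at h₁
        rw [hfn.coord_unique le_rfl (r := d) (r' := -da)
          (by rw [AModX.res_self, ← hd, map_neg, h₁, neg_smul])]
        exact neg_mem (ha da h₁)
  have htop : ∀ i, ∀ z : Γ(X, V i), z ∈ P i := fun i z => by
    have hgl : CohB1.genLocus L (InvX.ofSect (S i)) = V i := rfl
    obtain ⟨n₀, hn₀⟩ := AmpleX.exists_extend (AmpleX.isQCoh_one X) hL (InvX.ofSect (S i))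
      (show Γ(Coh.structureModule X, CohB1.genLocus L (InvX.ofSect (S i))) from (z : Γ(X, V i)))
    obtain ⟨T, hT⟩ := hn₀ (n₀ + 1) n₀.le_succ
    obtain ⟨T', rfl⟩ := oneTmul_surjective (InvX.isInvertible_tensorPow hL (n₀ + 1)) T
    refine hdeg i (n₀ + 1) (Nat.le_add_left 1 n₀) T' z (oneTmul_injective (InvX.isInvertible_tensorPow hL _) ?_)
    rw [res_oneTmul] at hT
    refine hT.trans ?_
    rw [InvX.one_ofSect]
    refine Eq.trans ?_ (InvX.tmul_smul_right _ _ _).symm
    refine Eq.trans ?_ (InvX.tmul_smul_left _ _ _)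
    exact congrArg (fun w => InvX.tmul w _) (mul_one z).symm
  have hfin : ∀ i, ∃ F : Finset Γ(L, ⊤), ∀ Q : Subring Γ(X, V i),
      Set.range (VAmpleX.baseFn f (V i)) ⊆ Q → (∀ t ∈ F, c i t ∈ Q) → Q = ⊤ := fun i => by
    letI := (VAmpleX.baseFn f (V i)).toAlgebra
    obtain ⟨G, hG⟩ := (show Algebra.FiniteType Γ(Spec (CommRingCat.of R), ⊤) Γ(X, V i) from
      f.finiteType_appLE (isAffineOpen_top _) (haff i) le_top).out
    choose F hF using fun g : Γ(X, V i) => exists_finset_mem_closure _ _ (htop i g)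
    refine ⟨G.biUnion F, fun Q h1 h2 => top_le_iff.1 fun z hz0 => ?_⟩
    clear hz0
    have hz : z ∈ Algebra.adjoin Γ(Spec (CommRingCat.of R), ⊤) (G : Set Γ(X, V i)) := hG ▸ Algebra.mem_top
    induction hz using Algebra.adjoin_induction with
    | mem y hy =>
      refine Subring.closure_le.2 (Set.union_subset h1 ?_) (hF y)
      rintro _ ⟨t, ht, rfl⟩
      exact h2 t (Finset.mem_biUnion.2 ⟨y, hy, ht⟩)
    | algebraMap a => exact h1 ⟨a, rfl⟩
    | add y w _ _ hy hw => exact Q.add_mem hy hw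
    | mul y w _ _ hy hw => exact Q.mul_mem hy hw
  choose F hF using hfin
  exact VAmpleX.exists_immersion' f L hL S V (fun _ => rfl) haff hcov (fun i => F i)
    (fun i t => c i t.1) (fun i t => t.1) (fun i t => hc i t.1)
    (fun i Q h1 h2 => hF i Q h1 fun t ht => h2 ⟨⟨t, ht⟩, rfl⟩)

end Groth.Agent.CurveCover.NormGen
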