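import Groth.Agent.CurveCover.OmegaBase
import Groth.Agent.CurveBC.Main
import Groth.Agent.GeomField.GlobalFunctions
import Groth.Agent.GrpSchLib.SmoothReduced
import Groth.Agent.Lib.CurveAmple
import Groth.Agent.S5019
import Groth.Agent.Lib.CurveDualPrep
import Groth.Agent.CurveCover.FamilyDense
import Groth.Agent.AmpleDesc5.Proper

/-!
The differentials of a family of irreducible smooth curves of genus at least two are relatively ample;
the fibres need not be geometrically connected.
-/

set_option autoImplicit false
set_option backward.isDefEq.respectTransparency false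
set_option backward.isDefEq.respectTransparency.types false
set_option linter.style.haveILetI false
set_option linter.unusedSectionVars false
set_option maxHeartbeats 800000

universe u

open CategoryTheory CategoryTheory.Limits AlgebraicGeometry TopologicalSpace Opposite

noncomputable section

namespace Groth.Agent.CurveCover.OmegaAmple

open Groth.Agent

/-- A section of a smooth morphism's factorisation through an étale base is smooth. -/
theorem smooth_of_comp_etale {X T S : Scheme.{u}} (g : X ⟶ T) (s : T ⟶ S) [Etale s] [Smooth (g ≫ s)] :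
    Smooth g := by
  let γ : X ⟶ pullback (g ≫ s) s := pullback.lift (𝟙 X) g (Category.id_comp _)
  haveI : Etale (pullback.fst (g ≫ s) s) := MorphismProperty.pullback_fst _ _ inferInstance
  haveI : Etale (γ ≫ pullback.fst (g ≫ s) s) := by rw [pullback.lift_fst]; infer_instance
  haveI : Etale γ := Etale.of_comp γ (pullback.fst (g ≫ s) s)
  haveI : Smooth (pullback.snd (g ≫ s) s) := MorphismProperty.pullback_snd _ _ inferInstance
  rw [show g = γ ≫ pullback.snd (g ≫ s) s from (pullback.lift_snd _ _ _).symm]
  infer_instance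

theorem toGlobal_comp {X : Scheme.{u}} {A B : Type u} [CommRing A] [CommRing B]
    (g : X ⟶ Spec (CommRingCat.of B)) (φ : A →+* B) (r : A) :
    Coh.toGlobal (g ≫ Spec.map (CommRingCat.ofHom φ)) r = Coh.toGlobal g (φ r) := by
  show (g ≫ Spec.map (CommRingCat.ofHom φ)).appTop ((Scheme.ΓSpecIso (CommRingCat.of A)).inv r) =
    g.appTop ((Scheme.ΓSpecIso (CommRingCat.of B)).inv (φ r))
  rw [Scheme.Hom.comp_appTop, CommRingCat.comp_apply]
  exact congrArg _ congr($(Scheme.ΓSpecIso_inv_naturality (CommRingCat.ofHom φ)) r).symm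

/-- Dimensions over a field through an intermediate field. -/
theorem finrank_eq_mul {k K : Type u} [Field k] [Field K] [Algebra k K] {X : Scheme.{u}}
    [X.Over (Spec (CommRingCat.of k))] [X.Over (Spec (CommRingCat.of K))]
    (h : (X ↘ Spec (CommRingCat.of K)) ≫ Spec.map (CommRingCat.ofHom (algebraMap k K)) =
      X ↘ Spec (CommRingCat.of k)) (F : X.Modules) (i : ℕ) :
    Module.finrank k (Coh.HH X F i) = Module.finrank k K * Module.finrank K (Coh.HH X F i) := by
  haveI : IsScalarTower k K (Coh.HH X F i) := IsScalarTower.of_algebraMap_smul fun r x => by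
    show (Coh.toGlobal (X ↘ Spec (CommRingCat.of K)) (algebraMap k K r) : Coh.Γtop X) • x =
      (Coh.toGlobal (X ↘ Spec (CommRingCat.of k)) r : Coh.Γtop X) • x
    rw [← h, toGlobal_comp]
  exact (Module.finrank_mul_finrank k K (Coh.HH X F i)).symm

/-- A finite separable extension gives an étale morphism. -/
theorem etale_specMap (k K : Type u) [Field k] [Field K] [Algebra k K] [Module.Finite k K]
    [Algebra.IsSeparable k K] : Etale (Spec.map (CommRingCat.ofHom (algebraMap k K))) := by
  rw [HasRingHomProperty.Spec_iff (P := @Etale), CommRingCat.hom_ofHom, RingHom.etale_algebraMap]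
  show Algebra.Etale k K
  exact { formallyEtale := Algebra.FormallyEtale.of_isSeparable k K
          finitePresentation := Algebra.FinitePresentation.of_finiteType.1 inferInstance }

/-- Ampleness of the differentials, through a field over which the curve is connected. -/
theorem isAmple_omega_of_h0 {k K : Type u} [Field k] [Field K] [Algebra k K] [Module.Finite k K]
    [Algebra.IsSeparable k K] {X : Scheme.{u}} [X.Over (Spec (CommRingCat.of k))]
    [X.Over (Spec (CommRingCat.of K))] [IsProper (X ↘ Spec (CommRingCat.of k))]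
    [Smooth (X ↘ Spec (CommRingCat.of k))]
    (h : (X ↘ Spec (CommRingCat.of K)) ≫ Spec.map (CommRingCat.ofHom (algebraMap k K)) =
      X ↘ Spec (CommRingCat.of k))
    (hdim : topologicalKrullDim X = 1)
    (h0 : Module.finrank k (Coh.HH X (Coh.structureModule X) 0) = Module.finrank k K)
    (hg : (2 : ℤ) ≤ 1 - (Module.finrank k (Coh.HH X (Coh.structureModule X) 0) : ℤ) +
      Module.finrank k (Coh.HH X (Coh.structureModule X) 1)) :
    CohB1.IsAmple (Omega.sheaf (X ↘ Spec (CommRingCat.of k))) := by
  let g := X ↘ Spec (CommRingCat.of K)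
  let s := Spec.map (CommRingCat.ofHom (algebraMap k K))
  haveI : Etale s := etale_specMap k K
  haveI : IsProper (g ≫ s) := by rw [h]; infer_instance
  haveI : Smooth (g ≫ s) := by rw [h]; infer_instance
  haveI : IsProper (X ↘ Spec (CommRingCat.of K)) := IsProper.of_comp g s
  haveI : Smooth (X ↘ Spec (CommRingCat.of K)) := smooth_of_comp_etale g s
  have e0 := finrank_eq_mul (k := k) (K := K) h (Coh.structureModule X) 0
  have e1 := finrank_eq_mul (k := k) (K := K) h (Coh.structureModule X) 1
  have hpos : 0 < Module.finrank k K := Module.finrank_pos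
  have h0' : Module.finrank K (Coh.HH X (Coh.structureModule X) 0) = 1 := by nlinarith
  haveI := CurveBC.isIntegral_of_h0 K X h0'
  have hg' : 2 ≤ Curv2.genus K X := by
    unfold Curv2.genus
    rw [h0, e1] at hg
    push_cast at hg
    by_contra hlt
    have : (Module.finrank K (Coh.HH X (Coh.structureModule X) 1) : ℤ) ≤ 1 := by omega
    nlinarith
  have hdeg := (CurveBC.canonical_invariants K X hdim h0').2
  have hamp : CohB1.IsAmple (Omega.sheaf g) :=
    CurveAmple.isAmple_of_deg_pos (k := K) hdim (CurveBC.isInvertible_omega K X hdim h0')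
      (lt_of_lt_of_eq (by omega) hdeg.symm)
  obtain ⟨e⟩ := OmegaBase.nonempty_omega_iso g s
  have key : ∀ (f : X ⟶ Spec (CommRingCat.of k)), g ≫ s = f → CohB1.IsAmple (Omega.sheaf f) := by
    rintro f rfl
    exact AmpleX.isAmple_of_iso e.symm hamp
  exact key _ h

attribute [local instance] GeomField.globalAlgebra

variable (k : Type u) [Field k] (X : Scheme.{u}) [X.Over (Spec (CommRingCat.of k))]
  [IsProper (X ↘ Spec (CommRingCat.of k))]

theorem toSpecΓ_comp :
    X.toSpecΓ ≫ Spec.map (CommRingCat.ofHom (algebraMap k Γ(X, ⊤))) = X ↘ Spec (CommRingCat.of k) := by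
  let f := X ↘ Spec (CommRingCat.of k)
  show X.toSpecΓ ≫ Spec.map ((Scheme.ΓSpecIso (CommRingCat.of k)).inv ≫ f.appTop) = f
  rw [Spec.map_comp, ← Scheme.toSpecΓ_naturality_assoc, ← SpecMap_ΓSpecIso_hom, ← Spec.map_comp,
    Iso.inv_hom_id, Spec.map_id, Category.comp_id]

/-- On a smooth irreducible curve of genus at least two the differentials are ample. -/
theorem isAmple_omega [IrreducibleSpace X] [Smooth (X ↘ Spec (CommRingCat.of k))]
    (hdim : topologicalKrullDim X = 1)
    (hg : (2 : ℤ) ≤ 1 - (Module.finrank k (Coh.HH X (Coh.structureModule X) 0) : ℤ) +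
      Module.finrank k (Coh.HH X (Coh.structureModule X) 1)) :
    CohB1.IsAmple (Omega.sheaf (X ↘ Spec (CommRingCat.of k))) := by
  haveI : AlgebraicGeometry.IsReduced X := GrpSchLib.isReduced_of_smooth_field (X ↘ Spec (CommRingCat.of k))
  haveI : GeometricallyReduced (X ↘ Spec (CommRingCat.of k)) := GrpSchLib.geometricallyReduced_of_smooth _
  haveI := GeomField.globalFunctions_separable k X
  haveI := GeomField.finite_globalFunctions k X
  letI : Field ↥Γ(X, ⊤) := (GeomField.isField_globalFunctions k X).toField
  letI : X.Over (Spec (CommRingCat.of ↥Γ(X, ⊤))) := ⟨X.toSpecΓ⟩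
  exact isAmple_omega_of_h0 (K := ↥Γ(X, ⊤)) (toSpecΓ_comp k X) hdim (GeomField.finrank_HH_zero k X) hg

omit [IsProper (X ↘ Spec (CommRingCat.of k))] in
/-- The differentials of a smooth family with irreducible one-dimensional fibres form an invertible module. -/
theorem isInvertible_omega_family {C S : Scheme.{u}} (f : C ⟶ S) [IsProper f] [Smooth f]
    (hirr : ∀ s : S, IrreducibleSpace ↥(f.fiber s)) (hdim : ∀ s : S, topologicalKrullDim ↥(f.fiber s) = 1) :
    PicF.IsInvertible (Omega.sheaf f) := by
  refine CurveDuality.isInvertible_of_rank_one fun x => ?_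
  obtain ⟨U, n, hx, ⟨e⟩, hn⟩ := S5019.result f _ _ (OmegaUniv.isUniversal_dOmega f) x
  obtain rfl : n = 1 := by
    let s := f x
    haveI := hirr s
    haveI : Smooth (f.fiberToSpecResidueField s) := MorphismProperty.pullback_snd _ _ inferInstance
    haveI : AlgebraicGeometry.IsReduced (f.fiber s) :=
      GrpSchLib.isReduced_of_smooth_field (K := ↥(S.residueField s)) (f.fiberToSpecResidueField s)
    haveI : AlgebraicGeometry.IsIntegral (f.fiber s) := isIntegral_of_irreducibleSpace_of_isReduced _
    obtain ⟨w, hwx, hwf, he, -⟩ := FibDim.exists_fibreDimAt_eq f x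
    have h1 : FlatMor.fibreDimAt f x = ((1 : ℕ) : WithBot ℕ∞) := by
      refine le_antisymm ?_ ?_
      · rw [he]
        by_contra hn
        have h2 : 2 ≤ FibDim.rd f w := by
          by_contra h3
          exact hn ((WithBot.coe_le_coe).2 (Nat.cast_le.2 (by omega)))
        have h3 := (FibDim.le_topologicalKrullDim_fiber_iff f s 2).2 ⟨w, hwf, h2⟩
        rw [hdim s] at h3
        exact absurd h3 (by norm_cast)
      · obtain ⟨z, hz, hrd⟩ := (FibDim.le_topologicalKrullDim_fiber_iff f s 1).1 (by rw [hdim s]; rfl)
        have hgen : ∀ y : ↥C, f y = s → f.fiberι s (genericPoint ↥(f.fiber s)) ⤳ y := fun y hy => by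
          obtain ⟨y', rfl⟩ := (f.range_fiberι s).superset (show y ∈ f ⁻¹' {s} from hy)
          exact (genericPoint_specializes y').map (f.fiberι s).continuous
        have hgs : f (f.fiberι s (genericPoint ↥(f.fiber s))) = s := FibDim.fiber_apply_fiberι f _
        refine le_trans ((cast_le_withBot _ _).2 (hrd.trans ?_))
          (FibDim.rd_le_fibreDimAt f (hgen x rfl) hgs)
        exact FibDim.rd_le_of_specializes f (hgen z hz) (hgs.trans hz.symm)
    rw [h1] at hn
    exact_mod_cast hn.symm
  exact ⟨U, hx, ⟨e⟩⟩

omit [IsProper (X ↘ Spec (CommRingCat.of k))] in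
/-- The differentials are relatively ample when the fibres have genus at least two. -/
theorem isRelAmple_omega {C S : Scheme.{u}} (f : C ⟶ S) [IsProper f] [Smooth f]
    (hirr : ∀ s : S, IrreducibleSpace ↥(f.fiber s)) (hdim : ∀ s : S, topologicalKrullDim ↥(f.fiber s) = 1)
    (hg : ∀ s : S, (2 : ℤ) ≤ 1 - (CohIII.fiberRank f (Coh.structureModule C) 0 s : ℤ) +
      CohIII.fiberRank f (Coh.structureModule C) 1 s) :
    RelAmple.IsRelAmple f (Omega.sheaf f) := by
  refine (AmpleDesc5.isRelAmple_iff_forall_fibre f (isInvertible_omega_family f hirr hdim)).2 fun s => ?_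
  let p := f.fiberToSpecResidueField s
  letI : (f.fiber s).Over (Spec (CommRingCat.of ↥(S.residueField s))) := ⟨p⟩
  haveI : IsProper ((f.fiber s) ↘ Spec (CommRingCat.of ↥(S.residueField s))) :=
    (MorphismProperty.pullback_snd _ _ inferInstance : IsProper p)
  haveI : Smooth ((f.fiber s) ↘ Spec (CommRingCat.of ↥(S.residueField s))) :=
    (MorphismProperty.pullback_snd _ _ inferInstance : Smooth p)
  haveI := hirr s
  obtain ⟨eO⟩ := PicClLib.nonempty_pullback_structureModule (f.fiberι s)
  obtain ⟨eΩ⟩ := GrpOmega.nonempty_omega_baseChange (f := f) (g := S.fromSpecResidueField s)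
    (g' := f.fiberι s) (f' := p) (IsPullback.of_hasPullback _ _)
  have hr : ∀ i, Module.finrank ↥(S.residueField s) (Coh.HH (f.fiber s) (Coh.structureModule (f.fiber s)) i) =
      CohIII.fiberRank f (Coh.structureModule C) i s := fun i =>
    (CurveCohLib.hhEquiv (k := ↥(S.residueField s)) eO i).finrank_eq.symm
  refine AmpleX.isAmple_of_iso eΩ.symm (isAmple_omega ↥(S.residueField s) (f.fiber s) (hdim s) ?_)
  rw [hr 0, hr 1]
  exact hg s

end Groth.Agent.CurveCover.OmegaAmple
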