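import Groth.Agent.OmegaUniv.Unram

/-!
Differentials relative to a base which is formally unramified over another base.
-/

set_option autoImplicit false
set_option backward.isDefEq.respectTransparency false
set_option backward.isDefEq.respectTransparency.types false
set_option linter.style.haveILetI false

universe u

open CategoryTheory CategoryTheory.Limits AlgebraicGeometry TopologicalSpace Opposite

noncomputable section

namespace Groth.Agent.CurveCover.OmegaBase

open Groth.Agent

variable {X Y' Y : Scheme.{u}}

/-- Two receptacles of universal derivations are isomorphic. -/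
theorem nonempty_iso_of_isUniversal {f : X ⟶ Y} {A B : X.Modules} {a : OmegaSh.Der f A} {b : OmegaSh.Der f B}
    (ha : OmegaSh.IsUniversal a) (hb : OmegaSh.IsUniversal b) : Nonempty (A ≅ B) := by
  obtain ⟨α, hα, -⟩ := ha B b
  obtain ⟨β, hβ, -⟩ := hb A a
  refine ⟨⟨α, β, ?_, ?_⟩⟩
  · obtain ⟨c, -, hc⟩ := ha A a
    refine (hc _ ?_).trans (hc _ ?_).symm
    · refine PresheafOfModules.Derivation.ext ?_
      funext W
      exact AddMonoidHom.ext fun s => (congrArg (fun x => β.val.app W x)
        (PresheafOfModules.Derivation.congr_d hα s)).trans (PresheafOfModules.Derivation.congr_d hβ s)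
    · exact PresheafOfModules.Derivation.ext (by funext W; rfl)
  · obtain ⟨c, -, hc⟩ := hb B b
    refine (hc _ ?_).trans (hc _ ?_).symm
    · refine PresheafOfModules.Derivation.ext ?_
      funext W
      exact AddMonoidHom.ext fun s => (congrArg (fun x => α.val.app W x)
        (PresheafOfModules.Derivation.congr_d hβ s)).trans (PresheafOfModules.Derivation.congr_d hα s)
    · exact PresheafOfModules.Derivation.ext (by funext W; rfl)

variable (g : X ⟶ Y') (kk : Y' ⟶ Y) {F : X.Modules}

lemma comp_c_app (W : Y.Opens) (c : Γ(Y, W)) :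
    (g ≫ kk).app W c = g.app (kk ⁻¹ᵁ W) (kk.app W c) := rfl

/-- A derivation over the intermediate base is one over the base. -/
def derUp (D : OmegaSh.Der g F) : OmegaSh.Der (g ≫ kk) F where
  d {U} := D.d (X := U)
  d_mul {U} a b := D.d_mul a b
  d_map {U V} i a := D.d_map i a
  d_app {W} c := D.d_app (X := op (kk ⁻¹ᵁ W.unop)) (kk.app W.unop c)

/-- The derivation of the intermediate base attached to a derivation of the composite. -/
def derPush (D : OmegaSh.Der (g ≫ kk) F) :
    OmegaSh.Der kk ((Scheme.Modules.pushforward g).obj F) where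
  d {V} := (D.d (X := op (g ⁻¹ᵁ V.unop))).comp (g.app V.unop).hom.toAddMonoidHom
  d_mul {V} a b := by
    show D.d (g.app V.unop (a * b)) = _
    rw [map_mul]
    exact D.d_mul _ _
  d_map {V V'} i a := by
    show D.d (g.app V'.unop (Y'.presheaf.map i a)) = _
    refine (congrArg (fun x => D.d (X := op (g ⁻¹ᵁ V'.unop)) x) ?_).trans (D.d_map ((Opens.map g.base).map i.unop).op _)
    exact congr($(g.naturality i) a)
  d_app {W} c := D.d_app (X := W) c

variable [QuasiSeparated kk] [FormallyUnramified kk]

theorem eq_zero_of_formallyUnramified (D : OmegaSh.Der (g ≫ kk) F) (V : Y'.Opens) (s : Γ(Y', V)) :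
    D.d (X := op (g ⁻¹ᵁ V)) (g.app V s) = 0 := by
  obtain ⟨α, hα, -⟩ := OmegaUniv.isUniversal_dOmega kk _ (derPush g kk D)
  have h : α = 0 := ((OmegaUniv.isZero_iff kk).2 inferInstance).eq_of_src α 0
  refine (PresheafOfModules.Derivation.congr_d hα (X := op V) s).symm.trans ?_
  rw [h]
  rfl

/-- A derivation over the base is one over a formally unramified intermediate base. -/
def derDown (D : OmegaSh.Der (g ≫ kk) F) : OmegaSh.Der g F where
  d {U} := D.d (X := U)
  d_mul {U} a b := D.d_mul a b
  d_map {U V} i a := D.d_map i a
  d_app {W} c := eq_zero_of_formallyUnramified g kk D W.unop c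

variable [QuasiSeparated g]

/-- The differentials do not see a formally unramified change of base. -/
theorem nonempty_omega_iso : Nonempty (Omega.sheaf (g ≫ kk) ≅ Omega.sheaf g) := by
  refine nonempty_iso_of_isUniversal (OmegaUniv.isUniversal_dOmega (g ≫ kk))
    (b := derUp g kk (OmegaSh.dOmega g)) fun F D => ?_
  obtain ⟨α, hα, hu⟩ := OmegaUniv.isUniversal_dOmega g F (derDown g kk D)
  refine ⟨α, ?_, fun β hβ => hu β ?_⟩
  · refine PresheafOfModules.Derivation.ext ?_
    funext W
    exact AddMonoidHom.ext fun s => PresheafOfModules.Derivation.congr_d hα s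
  · refine PresheafOfModules.Derivation.ext ?_
    funext W
    exact AddMonoidHom.ext fun s => PresheafOfModules.Derivation.congr_d hβ s

end Groth.Agent.CurveCover.OmegaBase
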