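import Groth.Agent.CurveCover.FamilyDense
import Groth.Agent.CurveCover.CurveVeryAmple
import Groth.Agent.Lib.CurveDualPrep
import Groth.Agent.S5019

/-!
# The differentials of a smooth family of curves form an invertible module
-/

set_option autoImplicit false
set_option backward.isDefEq.respectTransparency false
set_option backward.isDefEq.respectTransparency.types false
set_option linter.style.haveILetI false

universe u

open CategoryTheory CategoryTheory.Limits AlgebraicGeometry TopologicalSpace

namespace Groth.Agent.CurveCover

variable {X S : Scheme.{u}} (f : X ⟶ S) [IsProper f] [Smooth f] [GeometricallyConnected f]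
  (hdim : ∀ s : S, topologicalKrullDim ↥(f.fiber s) = 1)

include hdim

/-- A family of curves has relative dimension one at every point. -/
theorem fibreDimAt_eq_one (x : X) : FlatMor.fibreDimAt f x = ((1 : ℕ) : WithBot ℕ∞) := by
  let s := f x
  let p := f.fiberToSpecResidueField s
  haveI : IsProper p := MorphismProperty.pullback_snd _ _ inferInstance
  haveI : Smooth p := MorphismProperty.pullback_snd _ _ inferInstance
  haveI : CompactSpace ↥(f.fiber s) := QuasiCompact.compactSpace_of_compactSpace p
  haveI : AlgebraicGeometry.IsIntegral (f.fiber s) :=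
    CurveCohLib.isIntegral_of_smooth_connected (k := ↥(S.residueField s)) p
  obtain ⟨w, hwx, hwf, he, -⟩ := FibDim.exists_fibreDimAt_eq f x
  refine le_antisymm ?_ ?_
  · rw [he]
    by_contra hn
    have h2 : 2 ≤ FibDim.rd f w := by
      by_contra h3
      exact hn ((WithBot.coe_le_coe).2 (Nat.cast_le.2 (by omega)))
    have h3 := (FibDim.le_topologicalKrullDim_fiber_iff f s 2).2 ⟨w, hwf, h2⟩
    rw [hdim s] at h3
    exact absurd h3 (by norm_cast)
  · obtain ⟨z, hz, hrd⟩ := (FibDim.le_topologicalKrullDim_fiber_iff f s 1).1 (by rw [hdim s]; rfl)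
    have hgen : ∀ y : ↥X, f y = s → f.fiberι s (genericPoint ↥(f.fiber s)) ⤳ y := fun y hy => by
      obtain ⟨y', rfl⟩ := (f.range_fiberι s).superset (show y ∈ f ⁻¹' {s} from hy)
      exact (genericPoint_specializes y').map (f.fiberι s).continuous
    have hgs : f (f.fiberι s (genericPoint ↥(f.fiber s))) = s := FibDim.fiber_apply_fiberι f _
    refine le_trans ((cast_le_withBot _ _).2 (hrd.trans ?_))
      (FibDim.rd_le_fibreDimAt f (hgen x rfl) hgs)
    exact FibDim.rd_le_of_specializes f (hgen z hz) (hgs.trans hz.symm)

/-- The relative differentials of a family of curves form an invertible module. -/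
theorem isInvertible_omega_family : PicF.IsInvertible (Omega.sheaf f) := by
  refine CurveDuality.isInvertible_of_rank_one fun x => ?_
  obtain ⟨U, n, hx, ⟨e⟩, hn⟩ := S5019.result f _ _ (OmegaUniv.isUniversal_dOmega f) x
  rw [fibreDimAt_eq_one f hdim x] at hn
  obtain rfl : n = 1 := by exact_mod_cast hn.symm
  exact ⟨U, hx, ⟨e⟩⟩

end Groth.Agent.CurveCover
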