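import Groth.Agent.CohPullX.Semicont
import Groth.Agent.KFlatLib.Scheme.RpushQCoh
import Groth.Agent.H26.H0Univ
import Groth.Agent.QCoh.RpushExchange
import Mathlib.RingTheory.Flat.Localization

/-!
# Projective `H¹` gives projective `H⁰` over fibres of dimension one
-/

set_option autoImplicit false
set_option backward.isDefEq.respectTransparency false
set_option backward.isDefEq.respectTransparency.types false
set_option linter.style.haveILetI false

universe u

open CategoryTheory CategoryTheory.Limits AlgebraicGeometry TopologicalSpace TensorProduct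

namespace Groth.Agent.CurveCover

/-- Base change along the identity does nothing. -/
theorem nonempty_bcCx_id {R : Type u} [CommRing R] (P : ChainComplex (ModuleCat.{u} R) ℤ) :
    Nonempty (CohIII.bcCx (RingHom.id R) P ≅ P) :=
  ⟨HomologicalComplex.Hom.isoOfComponents (fun n => (ModuleCat.extendScalarsId R).app (P.X n))
    fun a b _ => ((ModuleCat.extendScalarsId R).hom.naturality (P.d a b)).symm⟩

section

variable {R : Type u} [CommRing R] [IsNoetherianRing R] {X : Scheme.{u}} [X.Over (Spec (CommRingCat.of R))]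
  [IsProper (X ↘ Spec (CommRingCat.of R))] {F : X.Modules} {P : ChainComplex (ModuleCat.{u} R) ℤ}

omit [IsNoetherianRing R] [IsProper (X ↘ Spec (CommRingCat.of R))] in
/-- The model computes the cohomology itself. -/
theorem nonempty_HH_model (hP : QCoh.IsBCModel F P) (p : ℕ) :
    Nonempty (Coh.HH X F p ≃ₗ[R] P.homology (-(p : ℤ))) := by
  have hpb : IsPullback (𝟙 X) (X ↘ Spec (CommRingCat.of R)) (X ↘ Spec (CommRingCat.of R))
      (Spec.map (CommRingCat.ofHom (RingHom.id R))) := by
    rw [show CommRingCat.ofHom (RingHom.id R) = 𝟙 _ from rfl, Spec.map_id]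
    exact IsPullback.of_horiz_isIso ⟨by simp⟩
  obtain ⟨e⟩ := hP.2.2.2.2.2 R (RingHom.id R) X (𝟙 X) _ hpb p
  obtain ⟨c⟩ := nonempty_bcCx_id P
  let e0 : F ≅ (Scheme.Modules.pullback (𝟙 X)).obj F := ((Scheme.Modules.pullbackId X).app F).symm
  exact ⟨((QCoh.HHcongr (A := R) (Coh.toGlobal (A := R) (X ↘ Spec (CommRingCat.of R))) e0 p).trans e).trans
    ((HomologicalComplex.homologyFunctor _ _ (-(p : ℤ))).mapIso c).toLinearEquiv⟩

/-- The degree above the dimension of the fibre vanishes at every prime. -/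
theorem preservesEpi_locCx_one (hP : QCoh.IsBCModel F P) (x : PrimeSpectrum R)
    (hd : topologicalKrullDim ↥((X ↘ Spec (CommRingCat.of R)).fiber x) ≤ 1) :
    (CohIII.TFun (QCoh.locCx P x) (-1)).PreservesEpimorphisms := by
  let f := X ↘ Spec (CommRingCat.of R)
  have hPfl := QCoh.flat_of_isBCModel hP
  let φh := Spec.preimage ((Spec (CommRingCat.of R)).fromSpecResidueField x)
  have hpb : IsPullback (f.fiberι x) (f.fiberToSpecResidueField x) f (Spec.map φh) := by
    rw [Spec.map_preimage]
    exact IsPullback.of_hasPullback _ _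
  have hker : RingHom.ker φh.hom = x.asIdeal := by
    obtain ⟨w⟩ : Nonempty ↥(Spec ((Spec (CommRingCat.of R)).residueField x)) :=
      inferInstanceAs (Nonempty (PrimeSpectrum _))
    have h := (Spec (CommRingCat.of R)).fromSpecResidueField_apply x w
    rw [← Spec.map_preimage ((Spec (CommRingCat.of R)).fromSpecResidueField x)] at h
    have h' : PrimeSpectrum.comap φh.hom w = x := h
    refine Eq.trans ?_ (congrArg PrimeSpectrum.asIdeal h')
    rw [PrimeSpectrum.comap_asIdeal, (Ideal.eq_bot_or_top w.asIdeal).resolve_right w.isPrime.ne_top]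
    rfl
  obtain ⟨e⟩ := hP.2.2.2.2.2 _ φh.hom (f.fiber x) (f.fiberι x) (f.fiberToSpecResidueField x) hpb 2
  haveI : HasInjectiveResolutions X.Modules := KFlatLib.hasInjectiveResolutions_modules
  haveI : IsProper f := ‹IsProper (X ↘ Spec (CommRingCat.of R))›
  haveI : IsLocallyNoetherian X := LocallyOfFiniteType.isLocallyNoetherian f
  haveI : LocallyOfFinitePresentation f := inferInstance
  have hz : Subsingleton (CohIII.fiberH f F x 2) :=
    CohPullX.subsingleton_fiberH_of_dim (f := f) (M := F) x 1 (by rw [Nat.cast_one]; exact hd) 2 one_lt_two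
  have hd2 : CohIII.dRank P (-((2 : ℕ) : ℤ)) x = 0 := by
    haveI : Subsingleton (Coh.HH (f.fiber x) ((Scheme.Modules.pullback (f.fiberι x)).obj F) 2) := hz
    haveI : Subsingleton ((CohIII.bcCx φh.hom P).homology (-((2 : ℕ) : ℤ))) := e.symm.toEquiv.subsingleton
    rw [← QCoh.finrank_bc_eq_dRank φh.hom P x hker]
    exact Module.finrank_zero_of_subsingleton
  haveI : IsNoetherianRing (Localization.AtPrime x.asIdeal) :=
    IsLocalization.isNoetherianRing x.asIdeal.primeCompl _ inferInstance
  have hzero := (QCoh.epi_and_isZero_of_dRank (FlatCxLib.flat_bcCx_X P hPfl)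
    (QCoh.finite_bcCx_X_aux P _ hP.1) ((QCoh.dRank_locCx_closedPoint P x _).trans hd2)).2.1
  exact (FlatCxLib.preservesEpi_iff_preservesMono (FlatCxLib.flat_bcCx_X P hPfl)
    (show -((2 : ℕ) : ℤ) + 1 = (-1 : ℤ) by norm_num)).2 (QCoh.isExactT_of_isZero hzero).1

end

theorem projective_h0_of_projective_h1 (R : Type u) [CommRing R] [IsNoetherianRing R]
    (X : Scheme.{u}) [X.Over (Spec (CommRingCat.of R))] [IsProper (X ↘ Spec (CommRingCat.of R))]
    (hdim : ∀ s : Spec (CommRingCat.of R), topologicalKrullDim ↥((X ↘ Spec (CommRingCat.of R)).fiber s) ≤ 1)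
    (F : X.Modules) (hF : Coh.IsCoh F) (hfl : FlatMod.IsFlatOver (X ↘ Spec (CommRingCat.of R)) F)
    (h1 : Module.Projective R (Coh.HH X F 1)) : Module.Projective R (Coh.HH X F 0) := by
  obtain ⟨P, hP⟩ := QCoh.exists_isBCModel F hF hfl
  have hPfl := QCoh.flat_of_isBCModel hP
  have hH := fun p => nonempty_HH_model (F := F) hP p
  have hloc : ∀ x : PrimeSpectrum R, (CohIII.TFun (QCoh.locCx P x) (-1)).PreservesEpimorphisms :=
    fun x => preservesEpi_locCx_one hP x (hdim x)
  haveI hfl1 : Module.Flat R (FlatCxLib.Coker P (-1) (-2)) := by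
    refine Module.flat_of_localized_maximal (R := R) (FlatCxLib.Coker P (-1) (-2)) fun m hm => ?_
    let x : PrimeSpectrum R := ⟨m, hm.isPrime⟩
    haveI h : Module.Flat (Localization.AtPrime x.asIdeal)
        (Localization.AtPrime x.asIdeal ⊗[R] FlatCxLib.Coker P (-1) (-2)) :=
      (FlatCxLib.preservesEpi_bcCx_iff P hPfl (show (-2 : ℤ) + 1 = -1 by norm_num)).1 (hloc x)
    haveI : Module.Flat R (Localization.AtPrime x.asIdeal) := IsLocalization.flat _ x.asIdeal.primeCompl
    haveI := Module.Flat.trans R (Localization.AtPrime x.asIdeal)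
      (Localization.AtPrime x.asIdeal ⊗[R] FlatCxLib.Coker P (-1) (-2))
    exact Module.Flat.of_linearEquiv
      ((LocalizedModule.equivTensorProduct m.primeCompl (FlatCxLib.Coker P (-1) (-2))).restrictScalars R)
  have he1 : (CohIII.TFun P (-1)).PreservesEpimorphisms :=
    (FlatCxLib.preservesEpi_iff hPfl (show (-2 : ℤ) + 1 = -1 by norm_num)).2 hfl1
  -- the first degree is exact
  have hx1 : (CohIII.TFun P (-1)).PreservesMonomorphisms := by
    refine ((FlatCxLib.exact_iff hPfl (show (-1 : ℤ) + 1 = 0 by norm_num)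
      (show (-2 : ℤ) + 1 = -1 by norm_num)).2 ⟨he1, ?_⟩).1
    obtain ⟨e⟩ := hH 1
    haveI : Module.Flat R (Coh.HH X F 1) := @Module.Flat.of_projective _ _ _ _ _ h1
    exact Module.Flat.of_linearEquiv
      ((FlatCxLib.tUnitIso (P := P) (-1)).toLinearEquiv.trans e.symm)
  have he0 : (CohIII.TFun P 0).PreservesEpimorphisms :=
    (FlatCxLib.preservesEpi_iff_preservesMono hPfl (show (-1 : ℤ) + 1 = 0 by norm_num)).2 hx1
  have hm0 : (CohIII.TFun P 0).PreservesMonomorphisms :=
    (FlatCxLib.preservesEpi_iff_preservesMono hPfl (show (0 : ℤ) + 1 = 1 from rfl)).1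
      (QCoh.isExactT_of_isZero (hP.2.2.2.1 1 one_pos)).2
  obtain ⟨-, hT⟩ := (FlatCxLib.exact_iff hPfl (show (0 : ℤ) + 1 = 1 from rfl)
    (show (-1 : ℤ) + 1 = 0 by norm_num)).1 ⟨hm0, he0⟩
  haveI := hT
  obtain ⟨e⟩ := hH 0
  let e' : Coh.HH X F 0 ≃ₗ[R] CohIII.T P 0 (ModuleCat.of R R) :=
    e.trans (FlatCxLib.tUnitIso (P := P) 0).toLinearEquiv.symm
  haveI : Module.Flat R (Coh.HH X F 0) := Module.Flat.of_linearEquiv e'
  haveI : Module.Finite R (Coh.HH X F 0) := by
    haveI := FlatCxLib.finite_hom' (P := P) hP.1 1 0 (-1)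
    exact Module.Finite.equiv ((FlatCxLib.hom'Equiv (P := P) (show (0 : ℤ) + 1 = 1 from rfl)
      (show (-1 : ℤ) + 1 = 0 by norm_num)).trans e.symm)
  haveI : Module.FinitePresentation R (Coh.HH X F 0) := Module.finitePresentation_of_finite _ _
  exact Module.Flat.projective_of_finitePresentation

end Groth.Agent.CurveCover
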