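import Mathlib.FieldTheory.RatFunc.Basic
import Mathlib.FieldTheory.RatFunc.AsPolynomial
import Mathlib.FieldTheory.IntermediateField.Adjoin.Basic
import Mathlib.RingTheory.Polynomial.ScaleRoots
import Mathlib.RingTheory.Algebraic.Integral
import Mathlib.RingTheory.Polynomial.RationalRoot
import Mathlib.Algebra.Polynomial.Reverse
import Mathlib.RingTheory.PrincipalIdealDomain

/-!
Normal form of a quadratic extension of a rational function field with respect to the two rings of
integers at the finite and at the infinite places.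
-/

noncomputable section

set_option autoImplicit false

universe u

namespace Groth.Agent.CurveCover

open Polynomial

variable {k K : Type u} [Field k] [Field K] [Algebra k K]

/-- Integral over `k[x]`. -/
def Int₁ (x c : K) : Prop := ((aeval x : k[X] →ₐ[k] K) : k[X] →+* K).IsIntegralElem c

/-- The data of the integers at the finite and at the infinite places. -/
structure Quad (x : K) (A B : Subalgebra k K) : Prop where
  transc : Transcendental k x
  deg : Module.finrank (IntermediateField.adjoin k ({x} : Set K)) K = 2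
  memA : ∀ c, c ∈ A ↔ Int₁ (k := k) x c
  memB : ∀ c, c ∈ B ↔ Int₁ (k := k) x⁻¹ c
  finA : ∃ S : Finset K, ↑S ⊆ (A : Set K) ∧ ∀ a ∈ A, ∃ q : K → k[X], a = ∑ s ∈ S, aeval x (q s) * s
  finB : ∃ S : Finset K, ↑S ⊆ (B : Set K) ∧ ∀ b ∈ B, ∃ q : K → k[X], b = ∑ s ∈ S, aeval x⁻¹ (q s) * s
  inter : ∀ c ∈ A, c ∈ B → c ∈ (algebraMap k K).range

variable {x : K}

theorem aeval_injective_of_transc (hx : Transcendental k x) :
    Function.Injective (aeval x : k[X] →ₐ[k] K) := transcendental_iff_injective.1 hx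

theorem Int₁.aeval (x : K) (p : k[X]) : Int₁ (k := k) x (Polynomial.aeval x p) :=
  RingHom.isIntegralElem_map _

/-- An integral rational function is a polynomial. -/
theorem exists_poly_of_int (hx : Transcendental k x) {c : K}
    (hc : c ∈ IntermediateField.adjoin k ({x} : Set K)) (hi : Int₁ (k := k) x c) :
    ∃ p : k[X], c = Polynomial.aeval x p := by
  obtain ⟨r, s, rfl⟩ := (IntermediateField.mem_adjoin_simple_iff k c).1 hc
  letI : Algebra k[X] K := ((Polynomial.aeval x : k[X] →ₐ[k] K) : k[X] →+* K).toAlgebra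
  let ι : RatFunc k →ₐ[k[X]] K := IsFractionRing.liftAlgHom (g := Algebra.ofId k[X] K)
    (aeval_injective_of_transc hx)
  have hmap : ∀ p : k[X], ι (algebraMap k[X] (RatFunc k) p) = Polynomial.aeval x p := fun p =>
    ι.commutes p
  have he : ι (algebraMap k[X] (RatFunc k) r / algebraMap k[X] (RatFunc k) s) =
      Polynomial.aeval x r / Polynomial.aeval x s := by rw [map_div₀, hmap, hmap]
  have h1 : _root_.IsIntegral k[X] (algebraMap k[X] (RatFunc k) r / algebraMap k[X] (RatFunc k) s) := by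
    rw [← isIntegral_algHom_iff ι (RingHom.injective (ι : RatFunc k →+* K)), he]
    exact hi
  obtain ⟨p, hp⟩ := IsIntegrallyClosed.isIntegral_iff.1 h1
  exact ⟨p, by rw [← he, ← hp, hmap]⟩

theorem indep_of_coord (hx : Transcendental k x) {φ : K →ₗ[IntermediateField.adjoin k ({x} : Set K)] IntermediateField.adjoin k ({x} : Set K)}
    (h1 : φ 1 = 0) {z : K} (hz : φ z ≠ 0) {p q : k[X]}
    (h : Polynomial.aeval x p + Polynomial.aeval x q * z = 0) : p = 0 ∧ q = 0 := by
  let F := IntermediateField.adjoin k ({x} : Set K)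
  have hm : ∀ r : k[X], Polynomial.aeval x r ∈ F := fun r =>
    (IntermediateField.mem_adjoin_simple_iff k _).2 ⟨r, 1, by simp⟩
  have h' := congrArg φ h
  rw [show Polynomial.aeval x p + Polynomial.aeval x q * z =
      (⟨_, hm p⟩ : F) • (1 : K) + (⟨_, hm q⟩ : F) • z by
    simp [IntermediateField.smul_def],
    map_add, map_smul, map_smul, h1, smul_zero, zero_add, map_zero, smul_eq_mul] at h'
  have hq : q = 0 := aeval_injective_of_transc hx (by
    rw [map_zero]
    exact congrArg Subtype.val ((mul_eq_zero.1 h').resolve_right hz))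
  refine ⟨aeval_injective_of_transc hx ?_, hq⟩
  rw [hq, map_zero, zero_mul, add_zero] at h
  rw [h, map_zero]

/-- The integers have a basis containing one. -/
theorem exists_basis (hx : Transcendental k x)
    (hdeg : Module.finrank (IntermediateField.adjoin k ({x} : Set K)) K = 2) {A : Subalgebra k K}
    (memA : ∀ c, c ∈ A ↔ Int₁ (k := k) x c)
    (finA : ∃ S : Finset K, ↑S ⊆ (A : Set K) ∧ ∀ a ∈ A, ∃ q : K → k[X], a = ∑ s ∈ S, Polynomial.aeval x (q s) * s) :
    ∃ z ∈ A, (∀ p q : k[X], Polynomial.aeval x p + Polynomial.aeval x q * z = 0 → p = 0 ∧ q = 0) ∧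
      (∀ a ∈ A, ∃ p q : k[X], a = Polynomial.aeval x p + Polynomial.aeval x q * z) ∧
      (∀ c : K, ∃ p q d : k[X], d ≠ 0 ∧ c * Polynomial.aeval x d = Polynomial.aeval x p + Polynomial.aeval x q * z) := by
  classical
  let F := IntermediateField.adjoin k ({x} : Set K)
  replace hdeg : Module.finrank F K = 2 := hdeg
  haveI : FiniteDimensional F K := Module.finite_of_finrank_pos (hdeg.symm ▸ two_pos)
  have hinj := aeval_injective_of_transc hx
  have hm : ∀ r : k[X], Polynomial.aeval x r ∈ F := fun r =>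
    (IntermediateField.mem_adjoin_simple_iff k _).2 ⟨r, 1, by simp⟩
  -- a linear form killing exactly the rational functions
  obtain ⟨ζ, hζ⟩ : ∃ ζ : K, ζ ∉ F := by
    by_contra! hall
    have : Module.finrank F K ≤ 1 := finrank_le_one (1 : K) fun w => ⟨⟨w, hall w⟩, by simp [IntermediateField.smul_def]⟩
    omega
  have hli : LinearIndependent F ![(1 : K), ζ] := by
    refine LinearIndependent.pair_iff.2 fun a b hab => ?_
    have hb : b = 0 := by
      by_contra hb
      refine hζ ?_
      have : ζ = -((b : K)⁻¹ * a) := by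
        have hb' : (b : K) ≠ 0 := fun h => hb (Subtype.ext h)
        simp [IntermediateField.smul_def] at hab
        field_simp
        linear_combination hab
      rw [this]
      exact neg_mem (mul_mem (inv_mem b.2) a.2)
    refine ⟨?_, hb⟩
    rw [hb, zero_smul, add_zero] at hab
    exact (smul_eq_zero.1 hab).resolve_right one_ne_zero
  let b := basisOfLinearIndependentOfCardEqFinrank hli (by rw [Fintype.card_fin]; exact hdeg.symm)
  let φ : K →ₗ[F] F := b.coord 1
  have hb0 : b 0 = 1 := by simp [b]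
  have hb1 : b 1 = ζ := by simp [b]
  have hφ1 : φ 1 = 0 := by
    rw [← hb0]; simp [φ]
  have hker : ∀ c : K, φ c = 0 → c ∈ F := fun c hc => by
    rw [← b.sum_repr c, Fin.sum_univ_two, hb0, hb1, show b.repr c 1 = φ c from rfl, hc, zero_smul, add_zero,
      IntermediateField.smul_def, smul_eq_mul, mul_one]
    exact (b.repr c 0).2
  have hmul : ∀ (r : k[X]) (c : K), φ (Polynomial.aeval x r * c) = (⟨_, hm r⟩ : F) * φ c := fun r c => by
    rw [show Polynomial.aeval x r * c = (⟨_, hm r⟩ : F) • c from rfl, map_smul, smul_eq_mul]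
  -- a common denominator
  obtain ⟨S, hS, hgen⟩ := finA
  have hden : ∀ s : K, ∃ d n : k[X], d ≠ 0 ∧ Polynomial.aeval x d * (φ s : K) = Polynomial.aeval x n := fun s => by
    obtain ⟨n, d, hnd⟩ := (IntermediateField.mem_adjoin_simple_iff k _).1 (φ s).2
    by_cases hd : d = 0
    · exact ⟨1, 0, one_ne_zero, by rw [hnd, hd]; simp⟩
    · exact ⟨d, n, hd, by rw [hnd, mul_div_cancel₀ _ fun h => hd (hinj (h.trans (map_zero _).symm))]⟩
  choose d n hd0 hdn using hden
  let D : k[X] := ∏ s ∈ S, d s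
  have hD0 : D ≠ 0 := Finset.prod_ne_zero_iff.2 fun s _ => hd0 s
  let I : Ideal k[X] :=
    { carrier := {q | ∃ a ∈ A, Polynomial.aeval x D * (φ a : K) = Polynomial.aeval x q}
      add_mem' := by
        rintro q q' ⟨a, ha, e⟩ ⟨a', ha', e'⟩
        exact ⟨a + a', add_mem ha ha', by rw [map_add φ, IntermediateField.coe_add, mul_add, e, e', map_add]⟩
      zero_mem' := ⟨0, zero_mem A, by simp⟩
      smul_mem' := by
        rintro r q ⟨a, ha, e⟩
        exact ⟨Polynomial.aeval x r * a, mul_mem ((memA _).2 (Int₁.aeval x r)) ha, by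
          rw [hmul, IntermediateField.coe_mul, smul_eq_mul, map_mul, ← e]; ring⟩ }
  have hI : ∀ a ∈ A, ∃ q ∈ I, Polynomial.aeval x D * (φ a : K) = Polynomial.aeval x q := fun a ha => by
    obtain ⟨q, hq⟩ := hgen a ha
    refine ⟨∑ s ∈ S, q s * ((∏ t ∈ S.erase s, d t) * n s), ⟨a, ha, ?_⟩, ?_⟩ <;>
    · rw [hq, map_sum φ, AddSubmonoidClass.coe_finsetSum, Finset.mul_sum, map_sum]
      refine Finset.sum_congr rfl fun s hs => ?_
      rw [hmul, IntermediateField.coe_mul, map_mul, map_mul, ← hdn s,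
        show D = d s * ∏ t ∈ S.erase s, d t from (Finset.mul_prod_erase S d hs).symm, map_mul]
      ring
  obtain ⟨g, hg⟩ := (IsPrincipalIdealRing.principal I).principal
  obtain ⟨z, hz, hzg⟩ := (show g ∈ I from hg ▸ Ideal.mem_span_singleton_self g)
  have hAF : ∀ a ∈ A, φ a = 0 → ∃ p : k[X], a = Polynomial.aeval x p := fun a ha h =>
    exists_poly_of_int hx (hker a h) ((memA a).1 ha)
  have hgenA : ∀ a ∈ A, ∃ p q : k[X], a = Polynomial.aeval x p + Polynomial.aeval x q * z := fun a ha => by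
    obtain ⟨q, hqI, hq⟩ := hI a ha
    rw [hg] at hqI
    obtain ⟨h, rfl⟩ := Ideal.mem_span_singleton'.1 hqI
    obtain ⟨p, hp⟩ := hAF (a - Polynomial.aeval x h * z)
      (sub_mem ha (mul_mem ((memA _).2 (Int₁.aeval x h)) hz)) (by
        refine Subtype.ext (mul_left_cancel₀ (fun h0 => hD0 (hinj (h0.trans (map_zero _).symm))) ?_)
        rw [map_sub φ, hmul, AddSubgroupClass.coe_sub, IntermediateField.coe_mul, mul_sub, hq]
        simp only [map_mul, IntermediateField.coe_zero, mul_zero]
        linear_combination (-(Polynomial.aeval x h : K)) * hzg)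
    exact ⟨p, h, by rw [← hp]; ring⟩
  -- multiples of everything are integral
  have hscale : ∀ c : K, ∃ d : k[X], d ≠ 0 ∧ c * Polynomial.aeval x d ∈ A := fun c => by
    letI : Algebra k[X] K := ((Polynomial.aeval x : k[X] →ₐ[k] K) : k[X] →+* K).toAlgebra
    haveI : FaithfulSMul k[X] K := (faithfulSMul_iff_algebraMap_injective _ _).2 hinj
    let j : k[X] →+* F := ((Polynomial.aeval x : k[X] →ₐ[k] K) : k[X] →+* K).codRestrict F.toSubfield.toSubring hm
    letI : Algebra k[X] F := j.toAlgebra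
    haveI : IsScalarTower k[X] F K := IsScalarTower.of_algebraMap_eq fun _ => rfl
    haveI : FaithfulSMul k[X] F := (faithfulSMul_iff_algebraMap_injective _ _).2
      fun r s h => hinj (congrArg Subtype.val h)
    haveI : IsFractionRing k[X] F := by
      refine IsFractionRing.of_field k[X] F (fun v => ?_)
      obtain ⟨r, s, hrs⟩ := (IntermediateField.mem_adjoin_simple_iff k _).1 v.2
      exact ⟨r, s, Subtype.ext hrs⟩
    have halg : IsAlgebraic k[X] c :=
      (IsFractionRing.isAlgebraic_iff k[X] F K).2 (Algebra.IsAlgebraic.isAlgebraic c)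
    obtain ⟨d, hd, hd'⟩ := halg.exists_integral_multiple
    exact ⟨d, hd, (memA _).2 (by rw [mul_comm]; rwa [Algebra.smul_def] at hd')⟩
  have hφz : φ z ≠ 0 := fun h0 => by
    obtain ⟨p₀, hp₀⟩ := hAF z hz h0
    obtain ⟨d, hd, hdA⟩ := hscale ζ
    obtain ⟨p, q, he⟩ := hgenA _ hdA
    have hd' : Polynomial.aeval x d ≠ 0 := fun h => hd (hinj (h.trans (map_zero _).symm))
    refine hζ ?_
    rw [show ζ = (Polynomial.aeval x p + Polynomial.aeval x q * z) / Polynomial.aeval x d by
      rw [← he, mul_div_cancel_right₀ _ hd'], hp₀]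
    exact div_mem (add_mem (hm _) (mul_mem (hm _) (hm _))) (hm _)
  refine ⟨z, hz, fun p q h => indep_of_coord hx hφ1 hφz h, hgenA, fun c => ?_⟩
  obtain ⟨d, hd, hdA⟩ := hscale c
  obtain ⟨p, q, he⟩ := hgenA _ hdA
  exact ⟨p, q, d, hd, he⟩

theorem adjoin_inv (x : K) :
    IntermediateField.adjoin k ({x⁻¹} : Set K) = IntermediateField.adjoin k ({x} : Set K) := by
  apply le_antisymm <;> rw [IntermediateField.adjoin_simple_le_iff]
  · exact inv_mem (IntermediateField.mem_adjoin_simple_self k x)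
  · simpa using inv_mem (IntermediateField.mem_adjoin_simple_self k x⁻¹)

theorem transc_inv (hx : Transcendental k x) : Transcendental k x⁻¹ := fun h =>
  hx (by simpa using h.inv)

theorem aeval_reflect (x : K) (hx : x ≠ 0) {p : k[X]} {n : ℕ} (h : p.natDegree ≤ n) :
    Polynomial.aeval x⁻¹ (p.reflect n) = Polynomial.aeval x p * x⁻¹ ^ n := by
  letI : Invertible x := invertibleOfNonzero hx
  have := eval₂_reflect_mul_pow (algebraMap k K) x n p h
  rw [invOf_eq_inv] at this
  simp only [Polynomial.aeval_def]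
  rw [← this, inv_pow, mul_assoc, mul_inv_cancel₀ (pow_ne_zero _ hx), mul_one]

theorem aeval_reflect' (x : K) (hx : x ≠ 0) {p : k[X]} {n : ℕ} (h : p.natDegree ≤ n) :
    Polynomial.aeval x (p.reflect n) = Polynomial.aeval x⁻¹ p * x ^ n := by
  simpa using aeval_reflect x⁻¹ (inv_ne_zero hx) h

/-- An integer at the finite places times a power of the uniformiser at infinity is an integer
at infinity. -/
theorem Int₁.scale (hx : x ≠ 0) {a : K} (ha : Int₁ (k := k) x a) :
    ∃ N : ℕ, Int₁ (k := k) x⁻¹ (a * x⁻¹ ^ N) := by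
  obtain ⟨P, hP, hPa⟩ := ha
  let N := (Finset.range P.natDegree).sup fun i => (P.coeff i).natDegree
  let c : ℕ → k[X] := fun i => (P.coeff i).reflect (N * (P.natDegree - i))
  refine ⟨N, X ^ P.natDegree + ∑ i : Fin P.natDegree, C (c i) * X ^ (i : ℕ), ?_, ?_⟩
  · exact monic_X_pow_add (degree_sum_fin_lt _)
  rw [hP.as_sum] at hPa
  simp only [eval₂_add, eval₂_X_pow, eval₂_finset_sum, eval₂_mul, eval₂_C, RingHom.coe_coe] at hPa ⊢
  rw [Finset.sum_fin_eq_sum_range]
  calc _ = x⁻¹ ^ (N * P.natDegree) * (a ^ P.natDegree +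
        ∑ i ∈ Finset.range P.natDegree, Polynomial.aeval x (P.coeff i) * a ^ i) := by
          rw [mul_add, Finset.mul_sum, mul_pow, ← pow_mul, mul_comm (a ^ _)]
          congr 1
          refine Finset.sum_congr rfl fun i hi => ?_
          have hi' := Finset.mem_range.1 hi
          have hle : (P.coeff i).natDegree ≤ N * (P.natDegree - i) :=
            (Finset.le_sup (f := fun i => (P.coeff i).natDegree) hi).trans
              (Nat.le_mul_of_pos_right _ (by omega))
          rw [dif_pos hi', aeval_reflect x hx hle, mul_pow, ← pow_mul,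
            show N * P.natDegree = N * (P.natDegree - i) + N * i by
              rw [← Nat.mul_add, Nat.sub_add_cancel hi'.le], pow_add]
          ring
    _ = 0 := by rw [hPa, mul_zero]

variable {A B : Subalgebra k K}

theorem Quad.swap (h : Quad x A B) : Quad x⁻¹ B A where
  transc := transc_inv h.transc
  deg := by rw [adjoin_inv]; exact h.deg
  memA := h.memB
  memB := by simpa using h.memA
  finA := h.finB
  finB := by simpa using h.finA
  inter := fun c hc hc' => h.inter c hc' hc

theorem Quad.ne_zero (h : Quad x A B) : x ≠ 0 := fun h0 => h.transc (h0 ▸ isAlgebraic_zero)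

theorem Quad.scale (h : Quad x A B) {a : K} (ha : a ∈ A) : ∃ N : ℕ, a * x⁻¹ ^ N ∈ B :=
  let ⟨N, hN⟩ := ((h.memA a).1 ha).scale h.ne_zero
  ⟨N, (h.memB _).2 hN⟩

theorem Quad.aeval_mem (h : Quad x A B) (p : k[X]) : Polynomial.aeval x p ∈ A :=
  (h.memA _).2 (Int₁.aeval x p)

/-- The normal form of the integers at the finite and at the infinite places. -/
structure Normal (x : K) (A B : Subalgebra k K) (m : ℕ) (z : K) : Prop where
  pos : 1 ≤ m
  mem : z ∈ A
  indep : ∀ p q : k[X], Polynomial.aeval x p + Polynomial.aeval x q * z = 0 → p = 0 ∧ q = 0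
  gen : ∀ a ∈ A, ∃ p q : k[X], a = Polynomial.aeval x p + Polynomial.aeval x q * z
  crit : ∀ (p q : k[X]) (n : ℕ),
    (Polynomial.aeval x p + Polynomial.aeval x q * z) * x⁻¹ ^ n ∈ B ↔
      p.natDegree ≤ n ∧ (q = 0 ∨ q.natDegree + m ≤ n)
  span : ∀ c : K, ∃ p q d : k[X], d ≠ 0 ∧
    c * Polynomial.aeval x d = Polynomial.aeval x p + Polynomial.aeval x q * z

theorem Quad.crit_of_genB (h : Quad x A B) {m : ℕ} {z : K}
    (indep : ∀ p q : k[X], Polynomial.aeval x p + Polynomial.aeval x q * z = 0 → p = 0 ∧ q = 0)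
    (hzB : z * x⁻¹ ^ m ∈ B)
    (genB : ∀ b ∈ B, ∃ p q : k[X],
      b = Polynomial.aeval x⁻¹ p + Polynomial.aeval x⁻¹ q * (z * x⁻¹ ^ m))
    (p q : k[X]) (n : ℕ) :
    (Polynomial.aeval x p + Polynomial.aeval x q * z) * x⁻¹ ^ n ∈ B ↔
      p.natDegree ≤ n ∧ (q = 0 ∨ q.natDegree + m ≤ n) := by
  have hx := h.ne_zero
  constructor
  · intro hB
    obtain ⟨P, Q, he⟩ := genB _ hB
    obtain ⟨D, hDP, hDQ, hDn⟩ : ∃ D, P.natDegree ≤ D ∧ Q.natDegree ≤ D ∧ n ≤ D :=
      ⟨P.natDegree + Q.natDegree + n, by omega, by omega, by omega⟩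
    have he' : Polynomial.aeval x (X ^ (D + m - n) * p - X ^ m * P.reflect D) +
        Polynomial.aeval x (X ^ (D + m - n) * q - Q.reflect D) * z = 0 := by
      simp only [map_sub, map_mul, map_pow, aeval_X, aeval_reflect' x hx hDP, aeval_reflect' x hx hDQ]
      have e1 : x ^ (D + m - n) = x ^ (D + m) * x⁻¹ ^ n := by
        rw [inv_pow, pow_sub₀ x hx (by omega)]
      have e2 : x ^ (D + m) * x⁻¹ ^ m = x ^ D := by
        rw [inv_pow, pow_add, mul_inv_cancel_right₀ (pow_ne_zero _ hx)]
      rw [pow_add] at e1 e2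
      rw [e1]
      linear_combination (x ^ D * x ^ m) * he + Polynomial.aeval x⁻¹ Q * z * e2
    obtain ⟨h1, h2⟩ := indep _ _ he'
    rw [sub_eq_zero] at h1 h2
    have d1 := congrArg natDegree h1
    have d2 := congrArg natDegree h2
    have b1 : (P.reflect D).natDegree ≤ D := (natDegree_reflect_le).trans (max_le le_rfl hDP)
    have b2 : (Q.reflect D).natDegree ≤ D := (natDegree_reflect_le).trans (max_le le_rfl hDQ)
    refine ⟨?_, ?_⟩
    · by_cases hp : p = 0
      · simp [hp]
      · rw [natDegree_mul (pow_ne_zero _ X_ne_zero) hp, natDegree_X_pow] at d1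
        have : (X ^ m * P.reflect D).natDegree ≤ m + D := by
          refine natDegree_mul_le.trans ?_
          rw [natDegree_X_pow]; omega
        omega
    · by_cases hq : q = 0
      · exact Or.inl hq
      · refine Or.inr ?_
        rw [natDegree_mul (pow_ne_zero _ X_ne_zero) hq, natDegree_X_pow] at d2
        omega
  · rintro ⟨hp, hq⟩
    have hq' : Polynomial.aeval x q * z * x⁻¹ ^ n ∈ B := by
      rcases hq with rfl | hq
      · simp
      · have : Polynomial.aeval x q * z * x⁻¹ ^ n =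
            Polynomial.aeval x⁻¹ (q.reflect (n - m)) * (z * x⁻¹ ^ m) := by
          rw [aeval_reflect x hx (by omega : q.natDegree ≤ n - m)]
          conv_lhs => rw [show n = n - m + m by omega, pow_add]
          ring
        rw [this]
        exact mul_mem (h.swap.aeval_mem _) hzB
    rw [add_mul, ← aeval_reflect x hx hp]
    exact add_mem (h.swap.aeval_mem _) hq'

/-- Existence of the normal form. -/
theorem Quad.exists_normal (h : Quad x A B) : ∃ (m : ℕ) (z : K), Normal x A B m z := by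
  have hx := h.ne_zero
  have hinj := aeval_injective_of_transc h.transc
  obtain ⟨z₀, hz₀, ind₀, gen₀, span₀⟩ := exists_basis h.transc h.deg h.memA h.finA
  obtain ⟨w, hw, -, genw, -⟩ := exists_basis h.swap.transc h.swap.deg h.swap.memA h.swap.finA
  obtain ⟨N, hN⟩ := h.swap.scale hw
  rw [inv_inv] at hN
  obtain ⟨M, hM⟩ := h.scale hz₀
  obtain ⟨Pc, Pu, hwP⟩ := gen₀ _ hN
  obtain ⟨Qc, Qu, hzQ⟩ := genw _ hM
  obtain ⟨D, hDc, hDu⟩ : ∃ D, Qc.natDegree ≤ D ∧ Qu.natDegree ≤ D :=
    ⟨Qc.natDegree + Qu.natDegree, by omega, by omega⟩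
  have he : Polynomial.aeval x (X ^ (M + N) * Qc.reflect D + X ^ M * Qu.reflect D * Pc) +
      Polynomial.aeval x (X ^ M * Qu.reflect D * Pu - X ^ (N + D)) * z₀ = 0 := by
    simp only [map_add, map_sub, map_mul, map_pow, aeval_X, aeval_reflect' x hx hDc,
      aeval_reflect' x hx hDu]
    have e1 : x ^ M * x⁻¹ ^ M = 1 := by rw [inv_pow, mul_inv_cancel₀ (pow_ne_zero _ hx)]
    rw [pow_add, pow_add]
    linear_combination (-(x ^ M * x ^ D * Polynomial.aeval x⁻¹ Qu)) * hwP
      - (x ^ M * x ^ N * x ^ D) * hzQ + (z₀ * x ^ N * x ^ D) * e1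
  have hdvd : Pu ∣ X ^ (N + D) :=
    ⟨X ^ M * Qu.reflect D, by rw [mul_comm Pu, ← sub_eq_zero.1 (ind₀ _ _ he).2]⟩
  obtain ⟨i, -, hassoc⟩ := (dvd_prime_pow Polynomial.prime_X _).1 hdvd
  obtain ⟨a, ha0, hPu⟩ : ∃ a : k, a ≠ 0 ∧ Pu = C a * X ^ i := by
    obtain ⟨v, hv⟩ := hassoc.symm
    obtain ⟨a, ha, hav⟩ := Polynomial.isUnit_iff.1 v.isUnit
    exact ⟨a, ha.ne_zero, by rw [← hv, ← hav, mul_comm]⟩
  subst hPu
  have hXN : (X ^ N : k[X]).Monic := monic_X_pow N
  let low := Pc %ₘ X ^ N
  let high := Pc /ₘ X ^ N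
  have hlh : low + X ^ N * high = Pc := modByMonic_add_div Pc (X ^ N)
  have hlow : low.natDegree ≤ N := by
    refine natDegree_le_natDegree (degree_modByMonic_lt Pc hXN).le |>.trans ?_
    rw [natDegree_X_pow]
  have hL : Polynomial.aeval x low * x⁻¹ ^ N ∈ B := by
    rw [← aeval_reflect x hx hlow]; exact h.swap.aeval_mem _
  rw [← hlh] at hwP
  simp only [map_add, map_mul, map_pow, aeval_X, aeval_C] at hwP
  have hw' : w = Polynomial.aeval x low * x⁻¹ ^ N +
      (Polynomial.aeval x high + algebraMap k K a * x ^ i * x⁻¹ ^ N * z₀) := by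
    have e1 : x ^ N * x⁻¹ ^ N = 1 := by rw [inv_pow, mul_inv_cancel₀ (pow_ne_zero _ hx)]
    linear_combination x⁻¹ ^ N * hwP - (w - Polynomial.aeval x high) * e1
  have hiN : i < N := by
    by_contra! hNi
    have hH : Polynomial.aeval x high + algebraMap k K a * x ^ i * x⁻¹ ^ N * z₀ =
        Polynomial.aeval x high + Polynomial.aeval x (C a * X ^ (i - N)) * z₀ := by
      rw [map_mul, map_pow, aeval_X, aeval_C, pow_sub₀ x hx hNi, inv_pow]
      ring
    rw [hH] at hw'
    obtain ⟨c₀, hc₀⟩ := h.inter _ (add_mem (h.aeval_mem high) (mul_mem (h.aeval_mem _) hz₀))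
      (by
        have : w - Polynomial.aeval x low * x⁻¹ ^ N ∈ B := sub_mem hw hL
        rwa [hw', add_sub_cancel_left] at this)
    have h3 := (ind₀ (high - C c₀) (C a * X ^ (i - N)) (by
      rw [map_sub, aeval_C]; linear_combination -hc₀)).2
    rw [mul_eq_zero, C_eq_zero] at h3
    exact h3.elim ha0 (pow_ne_zero _ X_ne_zero)
  obtain ⟨m, hm, rfl⟩ : ∃ m, 1 ≤ m ∧ N = i + m := ⟨N - i, by omega, by omega⟩
  let r : k[X] := C a⁻¹ * X ^ m * high
  have haa : algebraMap k K a * algebraMap k K a⁻¹ = 1 := by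
    rw [← map_mul, mul_inv_cancel₀ ha0, map_one]
  refine ⟨m, z₀ + Polynomial.aeval x r, ⟨hm, add_mem hz₀ (h.aeval_mem r), ?_, ?_, ?_, ?_⟩⟩
  · intro p q hpq
    obtain ⟨h1, h2⟩ := ind₀ (p + q * r) q (by rw [map_add, map_mul]; linear_combination hpq)
    exact ⟨by simpa [h2] using h1, h2⟩
  · intro b hb
    obtain ⟨p, q, rfl⟩ := gen₀ b hb
    exact ⟨p - q * r, q, by rw [map_sub, map_mul]; ring⟩
  · have hzw : w = Polynomial.aeval x low * x⁻¹ ^ (i + m) +
        algebraMap k K a * ((z₀ + Polynomial.aeval x r) * x⁻¹ ^ m) := by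
      rw [hw']
      simp only [r, map_mul, map_pow, aeval_X, aeval_C]
      have e1 : x ^ i * x⁻¹ ^ i = 1 := by rw [inv_pow, mul_inv_cancel₀ (pow_ne_zero _ hx)]
      have e2 : x ^ m * x⁻¹ ^ m = 1 := by rw [inv_pow, mul_inv_cancel₀ (pow_ne_zero _ hx)]
      rw [pow_add x⁻¹]
      linear_combination (algebraMap k K a * x⁻¹ ^ m * z₀) * e1 -
        (Polynomial.aeval x high * (x ^ m * x⁻¹ ^ m)) * haa - Polynomial.aeval x high * e2
    refine h.crit_of_genB ?_ ?_ ?_
    · intro p q hpq
      obtain ⟨h1, h2⟩ := ind₀ (p + q * r) q (by rw [map_add, map_mul]; linear_combination hpq)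
      exact ⟨by simpa [h2] using h1, h2⟩
    · have : (z₀ + Polynomial.aeval x r) * x⁻¹ ^ m =
          algebraMap k K a⁻¹ * (w - Polynomial.aeval x low * x⁻¹ ^ (i + m)) := by
        linear_combination (-(algebraMap k K a⁻¹)) * hzw -
          ((z₀ + Polynomial.aeval x r) * x⁻¹ ^ m) * haa
      rw [this]
      exact mul_mem (B.algebraMap_mem _) (sub_mem hw hL)
    · intro b hb
      obtain ⟨p, q, rfl⟩ := genw b hb
      refine ⟨p + q * low.reflect (i + m), C a * q, ?_⟩
      rw [map_add, map_mul, map_mul, aeval_C, aeval_reflect x hx hlow]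
      linear_combination Polynomial.aeval x⁻¹ q * hzw
  · intro c
    obtain ⟨p, q, d, hd, he⟩ := span₀ c
    exact ⟨p - q * r, q, d, hd, by rw [he, map_sub, map_mul]; ring⟩

theorem Normal.shift {m : ℕ} {z : K} (h : Normal x A B m z) (hA : ∀ p : k[X], Polynomial.aeval x p ∈ A)
    {c : k[X]} (hc : c.natDegree ≤ m) : Normal x A B m (z + Polynomial.aeval x c) where
  pos := h.pos
  mem := add_mem h.mem (hA c)
  indep p q hpq := by
    obtain ⟨h1, h2⟩ := h.indep (p + q * c) q (by rw [map_add, map_mul]; linear_combination hpq)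
    exact ⟨by simpa [h2] using h1, h2⟩
  gen a ha := by
    obtain ⟨p, q, rfl⟩ := h.gen a ha
    exact ⟨p - q * c, q, by rw [map_sub, map_mul]; ring⟩
  crit p q n := by
    rw [show Polynomial.aeval x p + Polynomial.aeval x q * (z + Polynomial.aeval x c) =
      Polynomial.aeval x (p + q * c) + Polynomial.aeval x q * z by rw [map_add, map_mul]; ring,
      h.crit]
    by_cases hq : q = 0
    · simp [hq]
    · have hd : (q * c).natDegree ≤ q.natDegree + m := natDegree_mul_le.trans (by omega)
      simp only [hq, false_or]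
      refine ⟨fun ⟨h1, h2⟩ => ⟨?_, h2⟩, fun ⟨h1, h2⟩ => ⟨?_, h2⟩⟩
      · have := natDegree_sub_le (p + q * c) (q * c)
        rw [add_sub_cancel_right] at this
        omega
      · have := natDegree_add_le p (q * c)
        omega
  span a := by
    obtain ⟨p, q, d, hd, he⟩ := h.span a
    exact ⟨p - q * c, q, d, hd, by rw [he, map_sub, map_mul]; ring⟩

/-- The quadratic equation of the normal form. -/
theorem Quad.exists_equation (h : Quad x A B) {m : ℕ} {z : K} (hn : Normal x A B m z) :
    ∃ p q : k[X], z ^ 2 + Polynomial.aeval x q * z = Polynomial.aeval x p ∧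
      2 * m - 1 ≤ max p.natDegree (2 * q.natDegree) ∧ max p.natDegree (2 * q.natDegree) ≤ 2 * m := by
  have hm := hn.pos
  have hx := h.ne_zero
  obtain ⟨P, Q, he⟩ := hn.gen _ (pow_mem hn.mem 2)
  refine ⟨P, -Q, by rw [he, map_neg]; ring, ?_, ?_⟩
  · by_contra! hlt
    rw [natDegree_neg] at hlt
    have h1 : P.natDegree ≤ 2 * (m - 1) := by omega
    have h2 : Q.natDegree ≤ m - 1 := by omega
    have hB : z * x⁻¹ ^ (m - 1) ∈ B := by
      refine (h.memB _).2 ⟨X ^ 2 + (-(C (Q.reflect (m - 1)) * X) - C (P.reflect (2 * (m - 1)))), ?_, ?_⟩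
      · refine monic_X_pow_add ((degree_sub_le _ _).trans_lt (max_lt ?_ ?_))
        · rw [degree_neg]
          exact (degree_C_mul_X_le _).trans_lt (by norm_num)
        · exact degree_C_le.trans_lt (by norm_num)
      · simp only [eval₂_add, eval₂_sub, eval₂_neg, eval₂_X_pow, eval₂_mul, eval₂_C, eval₂_X,
          RingHom.coe_coe, aeval_reflect x hx h1, aeval_reflect x hx h2]
        linear_combination (x⁻¹ ^ (2 * (m - 1))) * he
    have := ((hn.crit 0 1 (m - 1)).1 (by simpa using hB)).2
    simp at this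
    omega
  · have hzB : z * x⁻¹ ^ m ∈ B := by simpa using (hn.crit 0 1 m).2 ⟨by simp, Or.inr (by simp)⟩
    have h2 := (hn.crit P Q (2 * m)).1 (by
      rw [← he, mul_comm 2 m, pow_mul, ← mul_pow]; exact pow_mem hzB 2)
    rw [natDegree_neg]
    rcases h2.2 with rfl | h3
    · simp; omega
    · omega

/-- In characteristic not two the linear term can be removed. -/
theorem Quad.exists_equation_zero (h : Quad x A B) {m : ℕ} {z : K} (hn : Normal x A B m z)
    (h2 : (2 : k) ≠ 0) :
    ∃ (z' : K) (p : k[X]), Normal x A B m z' ∧ z' ^ 2 = Polynomial.aeval x p ∧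
      2 * m - 1 ≤ p.natDegree ∧ p.natDegree ≤ 2 * m := by
  obtain ⟨p, q, he, -, hle⟩ := h.exists_equation hn
  have hc : (C (2 : k)⁻¹ * q).natDegree ≤ m := by
    have := natDegree_C_mul_le (2 : k)⁻¹ q
    omega
  have hn' := hn.shift h.aeval_mem hc
  obtain ⟨p', q', he', hl, hu⟩ := h.exists_equation hn'
  have h22 : (2 : K) * algebraMap k K (2 : k)⁻¹ = 1 := by
    rw [← map_ofNat (algebraMap k K) 2, ← map_mul, mul_inv_cancel₀ h2, map_one]
  have hzero : q' = 0 := by
    have := (hn.indep ((C (2 : k)⁻¹ * q) * (C (2 : k)⁻¹ * q) + q' * (C (2 : k)⁻¹ * q) - p' + p) q' (by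
      simp only [map_add, map_sub, map_mul, aeval_C] at he' ⊢
      linear_combination he' - he - (z * Polynomial.aeval x q) * h22)).2
    exact this
  subst hzero
  simp only [map_zero, zero_mul, add_zero] at he'
  simp only [natDegree_zero, mul_zero, max_eq_left (Nat.zero_le _)] at hl hu
  exact ⟨_, p', hn', he', hl, hu⟩

end Groth.Agent.CurveCover
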