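import Groth.Agent.CurveCover.QuadGeom

/-! The affine chart of a double cover as a plane curve. -/

noncomputable section

set_option linter.style.haveILetI false
set_option linter.unusedSectionVars false
set_option backward.isDefEq.respectTransparency false
set_option backward.isDefEq.respectTransparency.types false
set_option autoImplicit false
set_option maxHeartbeats 1000000

universe u

open CategoryTheory CategoryTheory.Limits AlgebraicGeometry TopologicalSpace Opposite
open Groth.Agent.CurveCohLib.Polar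

namespace Groth.Agent.CurveCover

attribute [local instance] CurveFF.ffAlg

variable (k : Type u) [Field k]

/-- Two variable polynomials modulo a monic quadratic in the second variable. -/
theorem exists_linear_mod (p q : Polynomial k) (F : MvPolynomial (Fin 2) k) :
    ∃ a b : Polynomial k, F - (Polynomial.aeval (MvPolynomial.X 0) a +
      Polynomial.aeval (MvPolynomial.X 0) b * MvPolynomial.X 1) ∈
        Ideal.span {MvPolynomial.X 1 ^ 2 + Polynomial.aeval (MvPolynomial.X 0) q * MvPolynomial.X 1 -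
          Polynomial.aeval (MvPolynomial.X (0 : Fin 2)) p} := by
  induction F using MvPolynomial.induction_on with
  | C c => exact ⟨Polynomial.C c, 0, by simp⟩
  | add F G hF hG =>
    obtain ⟨a, b, h⟩ := hF
    obtain ⟨a', b', h'⟩ := hG
    refine ⟨a + a', b + b', Set.mem_of_eq_of_mem ?_ (add_mem h h')⟩
    simp only [map_add]
    ring
  | mul_X F i hF =>
    obtain ⟨a, b, h⟩ := hF
    rcases (show ∀ i : Fin 2, i = 0 ∨ i = 1 by decide) i with rfl | rfl
    · refine ⟨a * Polynomial.X, b * Polynomial.X, Set.mem_of_eq_of_mem ?_ (Ideal.mul_mem_right (MvPolynomial.X 0) _ h)⟩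
      simp only [map_mul, Polynomial.aeval_X]
      ring
    · obtain ⟨t, ht⟩ := Ideal.mem_span_singleton'.1 h
      refine ⟨b * p, a - b * q, Ideal.mem_span_singleton'.2
        ⟨t * MvPolynomial.X 1 + Polynomial.aeval (MvPolynomial.X 0) b, ?_⟩⟩
      simp only [map_mul, map_sub]
      linear_combination MvPolynomial.X (1 : Fin 2) * ht

variable {k} in
/-- The structure map of an affine open over a field. -/
theorem ι_comp_eq {X : Scheme.{u}} (s : X ⟶ Spec (CommRingCat.of k)) (U : X.Opens) :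
    U.ι ≫ s = U.toSpecΓ ≫ Spec.map ((Scheme.ΓSpecIso (CommRingCat.of k)).inv ≫ s.appTop ≫
      X.presheaf.map (homOfLE (le_top : U ≤ ⊤)).op) := by
  rw [Spec.map_comp, Spec.map_comp, ← Category.assoc, ← Category.assoc,
    Scheme.Opens.toSpecΓ_SpecMap_presheaf_map_top, Category.assoc, Category.assoc]
  refine congrArg (U.ι ≫ ·) ?_
  rw [← Category.assoc, ← Scheme.toSpecΓ_naturality, Category.assoc]
  simp

variable {X : Scheme.{u}} [X.Over (Spec (CommRingCat.of k))] [IsIntegral X]
  [IsProper (X ↘ Spec (CommRingCat.of k))] [Smooth (X ↘ Spec (CommRingCat.of k))]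
  (f : X ⟶ CohB1.ProjSpace 1 k) (hf : f ≫ CohB1.ProjSpace.toSpec 1 k = X ↘ Spec (CommRingCat.of k))
  [IsFinite f] (hdim : topologicalKrullDim X = 1)

include hf in
/-- The chart is a plane curve. -/
theorem exists_chart_iso {m : ℕ} {z : X.functionField}
    (hn : Normal (coordX k f hf hdim 0 1) (intAlg (k := k) (coordX k f hf hdim 0 1))
      (intAlg (k := k) (coordX k f hf hdim 0 1)⁻¹) m z) {p q : Polynomial k}
    (he : z ^ 2 + Polynomial.aeval (coordX k f hf hdim 0 1) q * z = Polynomial.aeval (coordX k f hf hdim 0 1) p) :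
    ∃ e : (↑(f ⁻¹ᵁ (LefPen.chart 1 k 0)) : Scheme.{u}) ≅
          Spec (CommRingCat.of (MvPolynomial (Fin 2) k ⧸ Ideal.span {MvPolynomial.X 1 ^ 2 + Polynomial.aeval (MvPolynomial.X 0) q * MvPolynomial.X 1 - Polynomial.aeval (MvPolynomial.X 0) p})),
        e.hom ≫ Spec.map (CommRingCat.ofHom ((Ideal.Quotient.mk (Ideal.span {MvPolynomial.X 1 ^ 2 + Polynomial.aeval (MvPolynomial.X 0) q * MvPolynomial.X 1 - Polynomial.aeval (MvPolynomial.X 0) p})).comp (MvPolynomial.C : k →+* MvPolynomial (Fin 2) k))) = (f ⁻¹ᵁ (LefPen.chart 1 k 0)).ι ≫ (X ↘ Spec (CommRingCat.of k)) := by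
  let x := coordX k f hf hdim 0 1
  let U := CurveVA.Uc k f 0
  have hU : IsAffineOpen U := (Proj.isAffineOpen_basicOpen _ _ (ProjPt.X_mem 0) one_pos).preimage f
  have hη := gen_mem_Uc k f hf hdim 0
  obtain ⟨a, ha⟩ := (int_iff k f hf hdim (j := 0) (l := 1) (by decide) z).1 hn.mem
  let sc : k →+* Γ(X, U) := ((Scheme.ΓSpecIso (CommRingCat.of k)).inv ≫ (X ↘ Spec (CommRingCat.of k)).appTop ≫
    X.presheaf.map (homOfLE (le_top : U ≤ ⊤)).op).hom
  let φ : MvPolynomial (Fin 2) k →+* Γ(X, U) :=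
    MvPolynomial.eval₂Hom sc ![CurveVA.β k f 0 1, a]
  have hφC : ∀ c, gη hη (φ (MvPolynomial.C c)) = algebraMap k X.functionField c := fun c => by
    refine (congrArg (gη hη) ((MvPolynomial.eval₂Hom_C _ _ c).trans ?_)).trans (gη_sc k hη c)
    exact congrArg (X.presheaf.map (homOfLE (le_top : U ≤ ⊤)).op) (ConcreteCategory.congr_hom (X.presheaf.map_id (op ⊤)) _).symm
  have hφ0 : gη hη (φ (MvPolynomial.X 0)) = x := congrArg (gη hη) (MvPolynomial.eval₂Hom_X' _ _ _)
  have hφ1 : gη hη (φ (MvPolynomial.X 1)) = z := (congrArg (gη hη) (MvPolynomial.eval₂Hom_X' _ _ _)).trans ha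
  have hφp : ∀ r : Polynomial k, gη hη (φ (Polynomial.aeval (MvPolynomial.X 0) r)) = Polynomial.aeval x r := fun r => by
    rw [Polynomial.aeval_def, Polynomial.hom_eval₂, Polynomial.hom_eval₂, hφ0, Polynomial.aeval_def]
    exact congrArg (fun g => Polynomial.eval₂ g x r) (RingHom.ext hφC)
  let I : Ideal (MvPolynomial (Fin 2) k) := Ideal.span {MvPolynomial.X 1 ^ 2 + Polynomial.aeval (MvPolynomial.X 0) q * MvPolynomial.X 1 - Polynomial.aeval (MvPolynomial.X 0) p}
  have hle : I ≤ RingHom.ker φ := (Ideal.span_singleton_le_iff_mem _).2 <| RingHom.mem_ker.2 <| gη_injective hη <| by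
    simp only [map_sub, map_add, map_mul, map_pow, map_zero, hφp, hφ1]
    exact sub_eq_zero.2 he
  let ψ : MvPolynomial (Fin 2) k ⧸ I →+* Γ(X, U) := Ideal.Quotient.lift I φ hle
  have hψ : Function.Bijective ψ := by
    constructor
    · refine (injective_iff_map_eq_zero ψ).2 fun v hv => ?_
      obtain ⟨F, rfl⟩ := Ideal.Quotient.mk_surjective v
      obtain ⟨b, c, hF⟩ := exists_linear_mod k p q F
      have h2 := sub_eq_zero.1 ((map_sub φ _ _).symm.trans (RingHom.mem_ker.1 (hle hF)))
      rw [show φ F = 0 from hv] at h2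
      obtain ⟨h3, h4⟩ := hn.indep b c (by
        rw [← hφp, ← hφp, ← hφ1, ← map_mul, ← map_add, ← map_mul, ← map_add, ← h2, map_zero])
      rw [h3, h4, map_zero, zero_mul, add_zero, sub_zero] at hF
      exact Ideal.Quotient.eq_zero_iff_mem.2 hF
    · intro v
      obtain ⟨b, c, hv⟩ := hn.gen _ ((int_iff k f hf hdim (j := 0) (l := 1) (by decide) _).2 ⟨v, rfl⟩)
      refine ⟨Ideal.Quotient.mk I (Polynomial.aeval (MvPolynomial.X 0) b +
        Polynomial.aeval (MvPolynomial.X 0) c * MvPolynomial.X 1), gη_injective hη ?_⟩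
      rw [Ideal.Quotient.lift_mk, map_add, map_mul, map_add, map_mul, hφp, hφp, hφ1]
      exact hv.symm
  let ρ : CommRingCat.of (MvPolynomial (Fin 2) k ⧸ I) ≅ Γ(X, U) := (RingEquiv.ofBijective ψ hψ).toCommRingCatIso
  refine ⟨hU.isoSpec ≪≫ Scheme.Spec.mapIso ρ.op, ?_⟩
  show (U.toSpecΓ ≫ Spec.map ρ.hom) ≫ _ = U.ι ≫ _
  rw [Category.assoc, ← Spec.map_comp, ι_comp_eq]
  refine congrArg (fun g => U.toSpecΓ ≫ Spec.map g) ?_
  ext c
  exact MvPolynomial.eval₂Hom_C _ _ c

end Groth.Agent.CurveCover
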