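import Groth.Agent.CurveCover.Cover
import Groth.Agent.CurveCover.QuadAlg
import Groth.Agent.CurveVA.Converse
import Groth.Agent.CurveVA.Vanish
import Groth.Agent.CurveEmbed.Immersion
import Groth.Agent.CurveCohLib.Hopf

/-! The normal form of a double cover of the projective line. -/

noncomputable section

set_option linter.style.haveILetI false
set_option linter.unusedSectionVars false
set_option backward.isDefEq.respectTransparency false
set_option backward.isDefEq.respectTransparency.types false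
set_option autoImplicit false
set_option maxHeartbeats 1000000

universe u

open CategoryTheory CategoryTheory.Limits AlgebraicGeometry TopologicalSpace Opposite
open Groth.Agent.CurveCohLib.Polar

namespace Groth.Agent.CurveCover

attribute [local instance] CurveFF.ffAlg isIntegral_line

/-- The integers over `k[x]`. -/
def intAlg {k K : Type u} [Field k] [Field K] [Algebra k K] (x : K) : Subalgebra k K where
  carrier := {c | Int₁ (k := k) x c}
  mul_mem' := fun ha hb => ha.mul _ hb
  one_mem' := by simpa using Int₁.aeval (k := k) x 1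
  add_mem' := fun ha hb => ha.add _ hb
  zero_mem' := by simpa using Int₁.aeval (k := k) x 0
  algebraMap_mem' := fun c => by simpa using Int₁.aeval (k := k) x (Polynomial.C c)

theorem res_E {X : Scheme.{u}} {L : X.Modules} {U W : X.Opens} (h : W ≤ U) (e : Γ(L, U)) :
    ∀ n, AModX.res (CurveEmbed.P L n) h (CurveEmbed.E e n) = CurveEmbed.E (AModX.res L h e) n
  | 0 => rfl
  | n + 1 => by
    show AModX.res (CohB1.tensorMod (CurveEmbed.P L n) L) h (InvX.tmul (CurveEmbed.E e n) e) = _
    rw [InvX.res_tmul, res_E h e n]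
    rfl

theorem E_smul {X : Scheme.{u}} {L : X.Modules} {U : X.Opens} (a : Γ(X, U)) (e : Γ(L, U)) :
    ∀ n, CurveEmbed.E (a • e) n = a ^ (n + 1) • CurveEmbed.E e n
  | 0 => by rw [zero_add, pow_one]; rfl
  | n + 1 => by
    show InvX.tmul (CurveEmbed.E (a • e) n) (a • e) = a ^ (n + 1 + 1) • InvX.tmul (CurveEmbed.E e n) e
    rw [E_smul a e n, InvX.tmul_smul_left, InvX.tmul_smul_right, smul_smul, ← pow_succ]

variable (k : Type u) [Field k]

theorem gen_mem_chart (j : Fin (1 + 1)) :
    haveI := isIntegral_line k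
    genericPoint (CohB1.ProjSpace 1 k) ∈ LefPen.chart 1 k j := by
  haveI := isIntegral_line k
  have hU : IsAffineOpen (LefPen.chart 1 k j) := Proj.isAffineOpen_basicOpen _ _ (ProjPt.X_mem j) one_pos
  haveI : Nontrivial Γ(CohB1.ProjSpace 1 k, LefPen.chart 1 k j) := by
    haveI : IsIso (Proj.awayToSection (CohB1.polyGrading 1 k) (MvPolynomial.X j : MvPolynomial (Fin (1 + 1)) k)) :=
      inferInstanceAs (IsIso (Proj.basicOpenIsoAway _ _ (ZetaLib.X_mem_one 1 k j) Nat.one_pos).hom)
    exact (((ConcreteCategory.bijective_of_isIso (Proj.awayToSection (CohB1.polyGrading 1 k)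
      (MvPolynomial.X j : MvPolynomial (Fin (1 + 1)) k))).1).comp
      (H23.PnChart.fromChart_injective.{u, u} 1 k j)).nontrivial
  obtain ⟨p⟩ := (inferInstance : Nonempty (PrimeSpectrum Γ(CohB1.ProjSpace 1 k, LefPen.chart 1 k j)))
  exact eta_mem (show hU.fromSpec p ∈ LefPen.chart 1 k j from hU.range_fromSpec.le ⟨p, rfl⟩)

variable {X : Scheme.{u}} [X.Over (Spec (CommRingCat.of k))] [IsIntegral X]
  [IsProper (X ↘ Spec (CommRingCat.of k))] [Smooth (X ↘ Spec (CommRingCat.of k))]

theorem trdeg_eq_one (hdim : topologicalKrullDim X = 1) : Algebra.trdeg k X.functionField = 1 := by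
  have h := VarDim.topologicalKrullDim_eq_deg_genericPoint (X ↘ Spec (CommRingCat.of k))
  rw [hdim] at h
  have h1 : VarDim.deg (X ↘ Spec (CommRingCat.of k)) (genericPoint X) = 1 := by exact_mod_cast h.symm
  have h2 := VarDim.deg_eq_tdeg (X ↘ Spec (CommRingCat.of k)) (genericPoint X)
  rw [h1, Nat.cast_one] at h2
  letI := Curv2.resAlgebra k X (genericPoint X)
  have hb : Function.Bijective (X.residue (genericPoint X)).hom := bijective_residue_of_generic rfl
  let e : X.functionField ≃ₐ[k] X.residueField (genericPoint X) :=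
    AlgEquiv.ofRingEquiv (f := RingEquiv.ofBijective _ hb) fun _ => rfl
  exact e.trdeg_eq.trans h2.symm

theorem gη_sc {W : X.Opens} {z : X} (hz : z ∈ W) (c : k) :
    gη hz (AModX.resR (le_top : W ≤ ⊤) (CurveVA.sc k c)) = algebraMap k X.functionField c :=
  (gη_res (le_top : W ≤ ⊤) hz (Set.mem_univ z) _).trans (CurveVA.germ_sc k (x := genericPoint X) c)

variable (f : X ⟶ CohB1.ProjSpace 1 k) (hf : f ≫ CohB1.ProjSpace.toSpec 1 k = X ↘ Spec (CommRingCat.of k))
  [IsFinite f] (hdim : topologicalKrullDim X = 1)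

include hf hdim in
theorem map_gen :
    haveI := isIntegral_line k
    f (genericPoint X) = genericPoint (CohB1.ProjSpace 1 k) := by
  haveI := isIntegral_line k
  haveI := isProper_line k
  exact FrobTwist.map_genericPoint_of_finite (X ↘ Spec (CommRingCat.of k))
    ((CohB1.ProjSpace 1 k) ↘ Spec (CommRingCat.of k)) f hf (hdim.trans (dim_line k).symm)

include hf hdim in
theorem gen_mem_Uc (j : Fin (1 + 1)) : genericPoint X ∈ CurveVA.Uc k f j := by
  show f (genericPoint X) ∈ LefPen.chart 1 k j
  rw [map_gen k f hf hdim]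
  exact gen_mem_chart k j

/-- The affine coordinate on a chart. -/
def coordX (j l : Fin (1 + 1)) : X.functionField := gη (gen_mem_Uc k f hf hdim j) (CurveVA.β k f j l)

/-- The coordinate sections. -/
abbrev sec (j : Fin (1 + 1)) : Γ((Scheme.Modules.pullback f).obj (Twist.twistProjSpace 1 k 1), ⊤) :=
  ProjUP.pullSec f (Twist.twistProjSpace 1 k 1) (ProjUP.coord 1 k j)

/-- The frame of a chart. -/
abbrev frm (j : Fin (1 + 1)) :
    Γ((Scheme.Modules.pullback f).obj (Twist.twistProjSpace 1 k 1), CurveVA.Uc k f j) :=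
  AModX.res _ (le_top : CurveVA.Uc k f j ≤ ⊤) (sec k f j)

theorem isFrame_frm (j : Fin (1 + 1)) : InvX.IsFrame (frm k f j) :=
  H23.TrivBasic.isFrame_res_of_le_locus (AmpleEmbed.preimage_chart f (Iso.refl _) j rfl).le

theorem res_sec (j l : Fin (1 + 1)) :
    AModX.res _ (le_top : CurveVA.Uc k f j ≤ ⊤) (sec k f l) = CurveVA.β k f j l • frm k f j := by
  obtain ⟨b, hb⟩ := (isFrame_frm k f j).exists_coord le_rfl (AModX.res _ le_top (sec k f l))
  rw [AModX.res_self] at hb
  refine hb.trans (congrArg (· • _) ?_)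
  exact (AmpleEmbed.ratioOf_eq f (Iso.refl _) j l rfl rfl le_rfl b hb).symm

theorem exists_mem_Uc (x : X) : ∃ j, x ∈ CurveVA.Uc k f j :=
  (Opens.mem_iSup.1 (show f x ∈ ⨆ i, LefPen.chart 1 k i from
    (AmpleEmbed.iSup_basicOpen_X 1 k).ge (Set.mem_univ _))).imp fun _ h => h

theorem β_self (j : Fin (1 + 1)) : CurveVA.β k f j j = 1 :=
  ((isFrame_frm k f j).coord_unique le_rfl (by rw [AModX.res_self, ← res_sec, one_smul])).symm

theorem res_frm_overlap :
    AModX.res _ (inf_le_left : CurveVA.Uc k f 0 ⊓ CurveVA.Uc k f 1 ≤ _) (frm k f 0) =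
      AModX.resR (inf_le_right : CurveVA.Uc k f 0 ⊓ CurveVA.Uc k f 1 ≤ _) (CurveVA.β k f 1 0) •
        AModX.res _ (inf_le_right : CurveVA.Uc k f 0 ⊓ CurveVA.Uc k f 1 ≤ _) (frm k f 1) := by
  rw [← AModX.res_smul, ← res_sec, AModX.res_res, AModX.res_res]

theorem β_mul_β :
    AModX.resR (inf_le_left : CurveVA.Uc k f 0 ⊓ CurveVA.Uc k f 1 ≤ _) (CurveVA.β k f 0 1) *
      AModX.resR (inf_le_right : CurveVA.Uc k f 0 ⊓ CurveVA.Uc k f 1 ≤ _) (CurveVA.β k f 1 0) = 1 := by
  refine ((isFrame_frm k f 1).res (inf_le_right : CurveVA.Uc k f 0 ⊓ CurveVA.Uc k f 1 ≤ _)).coord_unique le_rfl ?_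
  rw [AModX.res_self, one_smul, mul_smul, ← res_frm_overlap, ← AModX.res_smul, ← res_sec, AModX.res_res,
    AModX.res_res]

theorem coordX_self (j : Fin (1 + 1)) : coordX k f hf hdim j j = 1 := by
  rw [coordX, β_self, map_one]

theorem coordX_mul : coordX k f hf hdim 0 1 * coordX k f hf hdim 1 0 = 1 := by
  have hW : genericPoint X ∈ CurveVA.Uc k f 0 ⊓ CurveVA.Uc k f 1 :=
    ⟨gen_mem_Uc k f hf hdim 0, gen_mem_Uc k f hf hdim 1⟩
  have h := congrArg (gη hW) (β_mul_β k f)
  rwa [map_mul, map_one, gη_res _ hW (gen_mem_Uc k f hf hdim 0), gη_res _ hW (gen_mem_Uc k f hf hdim 1)] at h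

theorem coordX_inv : coordX k f hf hdim 1 0 = (coordX k f hf hdim 0 1)⁻¹ :=
  eq_inv_of_mul_eq_one_right (coordX_mul k f hf hdim)

theorem coordX_inv' : coordX k f hf hdim 0 1 = (coordX k f hf hdim 1 0)⁻¹ := by
  rw [coordX_inv, inv_inv]

/-- The functions on a chart of the line, in the function field of the cover. -/
def chartHom (j : Fin (1 + 1)) : Γ(CohB1.ProjSpace 1 k, LefPen.chart 1 k j) →+* X.functionField :=
  (gη (gen_mem_Uc k f hf hdim j)).comp (f.app (LefPen.chart 1 k j)).hom

variable {j l : Fin (1 + 1)} (hjl : j ≠ l)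

include hjl in
theorem range_chartHom :
    Set.range (chartHom k f hf hdim j) =
      Set.range fun p : Polynomial k => Polynomial.aeval (coordX k f hf hdim j l) p := by
  let 𝒜 := CohB1.polyGrading 1 k
  have hcoord : ∀ i, chartHom k f hf hdim j
      ((Proj.awayToSection 𝒜 (MvPolynomial.X j : MvPolynomial (Fin (1 + 1)) k)).hom (ZetaLib.coord 1 k j i)) =
        coordX k f hf hdim j i := fun i => by
    refine congrArg (gη (gen_mem_Uc k f hf hdim j)) ?_
    rw [← Scheme.Hom.appLE_eq_app]
    rfl
  have hconst : ∀ c : k, chartHom k f hf hdim j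
      ((CohB1.ProjSpace.toSpec 1 k).appLE ⊤ (LefPen.chart 1 k j) le_top
        ((Scheme.ΓSpecIso (CommRingCat.of k)).inv c)) = algebraMap k X.functionField c := fun c => by
    refine (congrArg (gη (gen_mem_Uc k f hf hdim j)) ?_).trans (gη_sc k (gen_mem_Uc k f hf hdim j) c)
    rw [← Scheme.Hom.appLE_eq_app]
    show ((CohB1.ProjSpace.toSpec 1 k).appLE ⊤ (LefPen.chart 1 k j) le_top ≫
      f.appLE (LefPen.chart 1 k j) (CurveVA.Uc k f j) le_rfl) ((Scheme.ΓSpecIso (CommRingCat.of k)).inv c) = _
    rw [Scheme.Hom.appLE_comp_appLE]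
    simp only [hf]
    show (X ↘ Spec (CommRingCat.of k)).appLE ⊤ _ _ ((Scheme.ΓSpecIso (CommRingCat.of k)).inv c) =
      X.presheaf.map _ (X.presheaf.map (𝟙 (op ⊤)) ((X ↘ Spec (CommRingCat.of k)).appTop _))
    rw [CategoryTheory.Functor.map_id]
    rfl
  apply le_antisymm
  · rintro _ ⟨a, rfl⟩
    let S := (Polynomial.aeval (R := k) (coordX k f hf hdim j l)).range.toSubring.comap (chartHom k f hf hdim j)
    suffices h : S = ⊤ by exact (show a ∈ S from h ▸ Subring.mem_top a)
    refine CurveVA.subring_chart_eq_top 1 k j S (fun c => ⟨Polynomial.C c, ?_⟩) fun i => ?_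
    · exact (Polynomial.aeval_C _ c).trans (hconst c).symm
    · show chartHom k f hf hdim j _ ∈ (Polynomial.aeval (R := k) (coordX k f hf hdim j l)).range
      rw [hcoord]
      rcases (show ∀ a b c : Fin (1 + 1), a ≠ b → c = a ∨ c = b by decide) j l i hjl with rfl | rfl
      · rw [coordX_self]; exact one_mem _
      · exact ⟨Polynomial.X, Polynomial.aeval_X _⟩
  · rintro _ ⟨p, rfl⟩
    induction p using Polynomial.induction_on' with
    | add p q hp hq =>
      obtain ⟨a, ha⟩ := hp
      obtain ⟨b, hb⟩ := hq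
      exact ⟨a + b, by rw [map_add, ha, hb]; exact (map_add _ p q).symm⟩
    | monomial n c =>
      exact ⟨(CohB1.ProjSpace.toSpec 1 k).appLE ⊤ (LefPen.chart 1 k j) le_top
          ((Scheme.ΓSpecIso (CommRingCat.of k)).inv c) *
        (show Γ(CohB1.ProjSpace 1 k, LefPen.chart 1 k j) from
          (Proj.awayToSection 𝒜 (MvPolynomial.X j : MvPolynomial (Fin (1 + 1)) k)).hom (ZetaLib.coord 1 k j l)) ^ n,
        by rw [map_mul, map_pow, hcoord, hconst]; exact (Polynomial.aeval_monomial _).symm⟩

include hjl in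
theorem exists_chartHom (p : Polynomial k) :
    ∃ a, chartHom k f hf hdim j a = Polynomial.aeval (coordX k f hf hdim j l) p :=
  (range_chartHom k f hf hdim hjl).ge ⟨p, rfl⟩

include hjl in
theorem chartHom_mem (a : Γ(CohB1.ProjSpace 1 k, LefPen.chart 1 k j)) :
    ∃ p : Polynomial k, Polynomial.aeval (coordX k f hf hdim j l) p = chartHom k f hf hdim j a :=
  (range_chartHom k f hf hdim hjl).le ⟨a, rfl⟩

include hjl in
theorem int_iff (c : X.functionField) :
    Int₁ (k := k) (coordX k f hf hdim j l) c ↔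
      ∃ a : Γ(X, CurveVA.Uc k f j), gη (gen_mem_Uc k f hf hdim j) a = c := by
  constructor
  · rintro ⟨P, hP, hPc⟩
    obtain ⟨r, hr⟩ := exists_of_forall_inR (W := CurveVA.Uc k f j) (c := c) fun z hz => by
      have hn := Neron6.isNormalScheme_of_smooth (X ↘ Spec (CommRingCat.of k)) FrobTwist.isNormalScheme_Spec
      haveI : IsDomain (X.presheaf.stalk z) := (hn z).1
      haveI : IsIntegrallyClosed (X.presheaf.stalk z) := (hn z).2
      have hlift : P.map ((Polynomial.aeval (R := k) (coordX k f hf hdim j l) : Polynomial k →ₐ[k] X.functionField) :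
          Polynomial k →+* X.functionField) ∈
            Polynomial.lifts (algebraMap (X.presheaf.stalk z) X.functionField) := by
        refine (Polynomial.lifts_iff_coeff_lifts _).2 fun n => ?_
        rw [Polynomial.coeff_map]
        obtain ⟨a, ha⟩ := exists_chartHom k f hf hdim hjl (P.coeff n)
        obtain ⟨m, hm⟩ := inR_gη hz (f.app (LefPen.chart 1 k j) a)
        exact ⟨m, hm.trans ha⟩
      obtain ⟨Q, hQ, -, hQm⟩ := Polynomial.lifts_and_natDegree_eq_and_monic hlift (hP.map _)
      have hint : _root_.IsIntegral (X.presheaf.stalk z) c := ⟨Q, hQm, by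
        rw [← Polynomial.eval_map, hQ, Polynomial.eval_map]; exact hPc⟩
      obtain ⟨m, hm⟩ := IsIntegrallyClosed.isIntegral_iff.1 hint
      exact ⟨m, hm⟩
    exact ⟨r, hr _⟩
  · rintro ⟨a, rfl⟩
    obtain ⟨P, hP, hPa⟩ := (f.finite_app (LefPen.chart 1 k j)
      (Proj.isAffineOpen_basicOpen _ _ (ProjPt.X_mem j) one_pos)).to_isIntegral a
    have hlift : P.map (chartHom k f hf hdim j) ∈
        Polynomial.lifts ((Polynomial.aeval (R := k) (coordX k f hf hdim j l) : Polynomial k →ₐ[k] X.functionField) :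
          Polynomial k →+* X.functionField) := by
      refine (Polynomial.lifts_iff_coeff_lifts _).2 fun n => ?_
      rw [Polynomial.coeff_map]
      obtain ⟨p, hp⟩ := chartHom_mem k f hf hdim hjl (P.coeff n)
      exact ⟨p, hp⟩
    obtain ⟨Q, hQ, -, hQm⟩ := Polynomial.lifts_and_natDegree_eq_and_monic hlift (hP.map _)
    refine ⟨Q, hQm, ?_⟩
    rw [← Polynomial.eval_map, hQ, Polynomial.eval_map]
    have := congrArg (gη (gen_mem_Uc k f hf hdim j)) hPa
    rw [Polynomial.hom_eval₂, map_zero] at this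
    exact this

include hjl in
theorem exists_gen :
    ∃ S : Finset X.functionField, (↑S : Set X.functionField) ⊆ intAlg (k := k) (coordX k f hf hdim j l) ∧
      ∀ a ∈ intAlg (k := k) (coordX k f hf hdim j l), ∃ q : X.functionField → Polynomial k,
        a = ∑ s ∈ S, Polynomial.aeval (coordX k f hf hdim j l) (q s) * s := by
  classical
  letI : Algebra Γ(CohB1.ProjSpace 1 k, LefPen.chart 1 k j) Γ(X, CurveVA.Uc k f j) :=
    (f.app (LefPen.chart 1 k j)).hom.toAlgebra
  haveI : Module.Finite Γ(CohB1.ProjSpace 1 k, LefPen.chart 1 k j) Γ(X, CurveVA.Uc k f j) :=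
    f.finite_app (LefPen.chart 1 k j) (Proj.isAffineOpen_basicOpen _ _ (ProjPt.X_mem j) one_pos)
  obtain ⟨S, hS⟩ := Module.Finite.fg_top
    (R := Γ(CohB1.ProjSpace 1 k, LefPen.chart 1 k j)) (M := Γ(X, CurveVA.Uc k f j))
  let χ := gη (gen_mem_Uc k f hf hdim j)
  letI : Algebra (Polynomial k) X.functionField :=
    ((Polynomial.aeval (coordX k f hf hdim j l) : Polynomial k →ₐ[k] X.functionField) :
      Polynomial k →+* X.functionField).toAlgebra
  refine ⟨S.image χ, fun c hc => ?_, fun a ha => ?_⟩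
  · obtain ⟨s, -, rfl⟩ := Finset.mem_image.1 hc
    exact (int_iff k f hf hdim hjl _).2 ⟨s, rfl⟩
  · obtain ⟨b, rfl⟩ := (int_iff k f hf hdim hjl a).1 ha
    have hmem : χ b ∈ Submodule.span (Polynomial k) (↑(S.image χ) : Set X.functionField) := by
      have hb : b ∈ Submodule.span Γ(CohB1.ProjSpace 1 k, LefPen.chart 1 k j) (↑S : Set Γ(X, CurveVA.Uc k f j)) :=
        hS ▸ Submodule.mem_top
      clear ha
      induction hb using Submodule.span_induction with
      | mem s hs => exact Submodule.subset_span (Finset.mem_coe.2 (Finset.mem_image_of_mem χ hs))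
      | zero => rw [map_zero]; exact zero_mem _
      | add p q _ _ hp hq => rw [map_add]; exact add_mem hp hq
      | smul r p _ hp =>
        obtain ⟨q, hq⟩ := chartHom_mem k f hf hdim hjl r
        rw [Algebra.smul_def, map_mul, show χ (algebraMap _ _ r) = Polynomial.aeval (coordX k f hf hdim j l) q
          from hq.symm]
        exact Submodule.smul_mem _ q hp
    obtain ⟨q, -, hq⟩ := Submodule.mem_span_finset.1 hmem
    exact ⟨q, hq.symm⟩

omit hjl

theorem ff_mem_adjoin (c : (CohB1.ProjSpace 1 k).functionField) :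
    haveI := isIntegral_line k
    CurveTrace.ff (map_gen k f hf hdim) c ∈
      IntermediateField.adjoin k ({coordX k f hf hdim 0 1} : Set X.functionField) := by
  haveI := isIntegral_line k
  let U := LefPen.chart 1 k 0
  have hU : IsAffineOpen U := Proj.isAffineOpen_basicOpen _ _ (ProjPt.X_mem 0) one_pos
  have hη := gen_mem_chart k 0
  haveI : Nonempty U := ⟨⟨_, hη⟩⟩
  haveI := functionField_isFractionRing_of_isAffineOpen (CohB1.ProjSpace 1 k) U hU
  obtain ⟨a, b, -, rfl⟩ := IsFractionRing.div_surjective (A := Γ(CohB1.ProjSpace 1 k, U)) c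
  have key : ∀ r, CurveTrace.ff (map_gen k f hf hdim) (gη hη r) = chartHom k f hf hdim 0 r := fun r =>
    CurveTrace.ff_gη (map_gen k f hf hdim) hη r
  rw [map_div₀, IntermediateField.mem_adjoin_simple_iff]
  obtain ⟨p, hp⟩ := chartHom_mem k f hf hdim (j := 0) (l := 1) (by decide) a
  obtain ⟨q, hq⟩ := chartHom_mem k f hf hdim (j := 0) (l := 1) (by decide) b
  exact ⟨p, q, by rw [hp, hq, ← key, ← key]; rfl⟩

theorem exists_ff_eq (c : X.functionField)
    (hc : c ∈ IntermediateField.adjoin k ({coordX k f hf hdim 0 1} : Set X.functionField)) :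
    haveI := isIntegral_line k
    ∃ r, CurveTrace.ff (map_gen k f hf hdim) r = c := by
  haveI := isIntegral_line k
  obtain ⟨p, q, rfl⟩ := (IntermediateField.mem_adjoin_simple_iff k c).1 hc
  have key : ∀ r, CurveTrace.ff (map_gen k f hf hdim) (gη (gen_mem_chart k 0) r) = chartHom k f hf hdim 0 r :=
    fun r => CurveTrace.ff_gη (map_gen k f hf hdim) _ r
  obtain ⟨a, ha⟩ := exists_chartHom k f hf hdim (j := 0) (l := 1) (by decide) p
  obtain ⟨b, hb⟩ := exists_chartHom k f hf hdim (j := 0) (l := 1) (by decide) q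
  exact ⟨gη (gen_mem_chart k 0) a / gη (gen_mem_chart k 0) b, by rw [map_div₀, key, key, ha, hb]⟩

/-- The function field of the line as the subfield generated by the coordinate. -/
def lineEquiv :
    haveI := isIntegral_line k
    (CohB1.ProjSpace 1 k).functionField ≃+*
      IntermediateField.adjoin k ({coordX k f hf hdim 0 1} : Set X.functionField) :=
  haveI := isIntegral_line k
  RingEquiv.ofBijective
    ((CurveTrace.ff (map_gen k f hf hdim)).codRestrict
      (IntermediateField.adjoin k ({coordX k f hf hdim 0 1} : Set X.functionField)).toSubfield.toSubring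
      (ff_mem_adjoin k f hf hdim))
    ⟨fun a b h => (CurveTrace.ff (map_gen k f hf hdim)).injective (congrArg Subtype.val h),
      fun c => (exists_ff_eq k f hf hdim c.1 c.2).imp fun _ h => Subtype.ext h⟩

theorem finrank_adjoin (hdeg : f.residueDegree (genericPoint X) = 2) :
    Module.finrank (IntermediateField.adjoin k ({coordX k f hf hdim 0 1} : Set X.functionField))
      X.functionField = 2 := by
  haveI := isIntegral_line k
  rw [residueDegree_generic (map_gen k f hf hdim)] at hdeg
  letI := (CurveTrace.ff (map_gen k f hf hdim)).toAlgebra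
  exact (Algebra.finrank_eq_of_equiv_equiv (lineEquiv k f hf hdim) (RingEquiv.refl X.functionField)
    (RingHom.ext fun _ => rfl)).symm.trans hdeg

theorem isSeparable_adjoin
    (hsep : haveI := isIntegral_line k
      letI := (CurveTrace.ff (map_gen k f hf hdim)).toAlgebra
      Algebra.IsSeparable (CohB1.ProjSpace 1 k).functionField X.functionField) :
    Algebra.IsSeparable (IntermediateField.adjoin k ({coordX k f hf hdim 0 1} : Set X.functionField))
      X.functionField := by
  haveI := isIntegral_line k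
  letI := (CurveTrace.ff (map_gen k f hf hdim)).toAlgebra
  haveI := hsep
  exact Algebra.IsSeparable.of_equiv_equiv (lineEquiv k f hf hdim) (RingEquiv.refl X.functionField)
    (RingHom.ext fun _ => rfl)

theorem transcendental_coordX (hdeg : f.residueDegree (genericPoint X) = 2) :
    Transcendental k (coordX k f hf hdim 0 1) := by
  intro halg
  let x := coordX k f hf hdim 0 1
  haveI : FiniteDimensional k (IntermediateField.adjoin k ({x} : Set X.functionField)) :=
    IntermediateField.adjoin.finiteDimensional halg.isIntegral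
  haveI : FiniteDimensional (IntermediateField.adjoin k ({x} : Set X.functionField)) X.functionField :=
    Module.finite_of_finrank_pos ((finrank_adjoin k f hf hdim hdeg).symm ▸ two_pos)
  haveI : FiniteDimensional k X.functionField :=
    FiniteDimensional.trans k (IntermediateField.adjoin k ({x} : Set X.functionField)) X.functionField
  exact zero_ne_one ((trdeg_eq_zero (R := k) (A := X.functionField)).symm.trans (trdeg_eq_one k hdim))

variable (h0 : Module.finrank k (Coh.HH X (Coh.structureModule X) 0) = 1)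

include h0 in
theorem exists_const (r : Γ(X, ⊤)) : ∃ a : k, gη (Set.mem_univ (genericPoint X)) r = algebraMap k X.functionField a := by
  have hcst : ∀ a : k, CurveTrace.cst k X a = algebraMap k X.functionField a := fun a =>
    CurveVA.germ_sc k (x := genericPoint X) a
  letI := (CurveTrace.cst k X).toAlgebra
  obtain ⟨t1, ht1⟩ := CurveTrace.exists_eval0 k (1 : Γ(X, ⊤))
  obtain ⟨t, ht⟩ := CurveTrace.exists_eval0 k r
  have hne : t1 ≠ 0 := fun h => one_ne_zero (α := X.functionField) (by rw [← map_one (CurveTrace.gT X), ← ht1, h, map_zero])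
  obtain ⟨a, ha⟩ := (finrank_eq_one_iff_of_nonzero' t1 hne).1 h0 t
  refine ⟨a, ?_⟩
  rw [← hcst a]
  have := congrArg (CurveTrace.eval0 k) ha
  rw [map_smul, ht1, ht, map_one, Algebra.smul_def, mul_one] at this
  exact this.symm

/-- The integers at the finite and at the infinite places. -/
theorem quad (hdeg : f.residueDegree (genericPoint X) = 2) (h0 : Module.finrank k (Coh.HH X (Coh.structureModule X) 0) = 1) :
    Quad (coordX k f hf hdim 0 1) (intAlg (k := k) (coordX k f hf hdim 0 1))
      (intAlg (k := k) (coordX k f hf hdim 0 1)⁻¹) where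
  transc := transcendental_coordX k f hf hdim hdeg
  deg := finrank_adjoin k f hf hdim hdeg
  memA _ := Iff.rfl
  memB _ := Iff.rfl
  finA := exists_gen k f hf hdim (j := 0) (l := 1) (by decide)
  finB := by
    rw [← coordX_inv k f hf hdim]
    exact exists_gen k f hf hdim (j := 1) (l := 0) (by decide)
  inter c hc hc' := by
    rw [← coordX_inv k f hf hdim] at hc'
    obtain ⟨a, ha⟩ := (int_iff k f hf hdim (j := 0) (l := 1) (by decide) c).1 hc
    obtain ⟨b, hb⟩ := (int_iff k f hf hdim (j := 1) (l := 0) (by decide) c).1 hc'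
    obtain ⟨r, hr⟩ := exists_of_forall_inR (W := (⊤ : X.Opens)) (c := c) fun z _ => by
      obtain ⟨i, hi⟩ := exists_mem_Uc k f z
      rcases (show ∀ i : Fin (1 + 1), i = 0 ∨ i = 1 by decide) i with rfl | rfl
      · rw [← ha]; exact inR_gη hi a
      · rw [← hb]; exact inR_gη hi b
    obtain ⟨q, hq⟩ := exists_const k h0 r
    exact ⟨q, by rw [← hq, hr]⟩

include hf hdim in
theorem deg_P (hdeg : f.residueDegree (genericPoint X) = 2)
    (h0 : Module.finrank k (Coh.HH X (Coh.structureModule X) 0) = 1) : ∀ n : ℕ,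
    Curv2.deg k X (CurveEmbed.P ((Scheme.Modules.pullback f).obj (Twist.twistProjSpace 1 k 1)) n) 1 = 2 * (n + 1)
  | 0 => by
    have := residueDegree_pencil k X hdim h0 f hf
    rw [hdeg] at this
    exact this.symm
  | n + 1 => by
    have hL := PicClLib.isInvertible_pullback f (isInvertible_twist k 1)
    show Curv2.deg k X (CohB1.tensorMod (CurveEmbed.P _ n) _) 1 = _
    rw [show Curv2.deg k X (CohB1.tensorMod (CurveEmbed.P _ n) _) 1 = _ from
      CurveRR.deg_tensor k hdim (CurveEmbed.isInvertible_P hL n) hL, deg_P hdeg h0 n]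
    have := residueDegree_pencil k X hdim h0 f hf
    rw [hdeg] at this
    rw [← this]
    push_cast
    ring

/-- Sections of the powers are functions with bounded poles. -/
theorem h0_P_eq {m : ℕ} {z : X.functionField}
    (hn : Normal (coordX k f hf hdim 0 1) (intAlg (k := k) (coordX k f hf hdim 0 1))
      (intAlg (k := k) (coordX k f hf hdim 0 1)⁻¹) m z) (n : ℕ) :
    Module.finrank k (Coh.HH X (CurveEmbed.P ((Scheme.Modules.pullback f).obj (Twist.twistProjSpace 1 k 1)) n) 0) =
      (n + 2) + (n + 2 - m) := by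
  classical
  let x := coordX k f hf hdim 0 1
  let L := (Scheme.Modules.pullback f).obj (Twist.twistProjSpace 1 k 1)
  let P := CurveEmbed.P L n
  have hL : PicF.IsInvertible L := PicClLib.isInvertible_pullback f (isInvertible_twist k 1)
  have hP : PicF.IsInvertible P := CurveEmbed.isInvertible_P hL n
  have h0' := gen_mem_Uc k f hf hdim 0
  have h1' := gen_mem_Uc k f hf hdim 1
  let E₀ := CurveEmbed.E (frm k f 0) n
  let E₁ := CurveEmbed.E (frm k f 1) n
  have hE₀ : InvX.IsFrame E₀ := CurveEmbed.isFrame_E (isFrame_frm k f 0) n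
  have hE₁ : InvX.IsFrame E₁ := CurveEmbed.isFrame_E (isFrame_frm k f 1) n
  let W := CurveVA.Uc k f 0 ⊓ CurveVA.Uc k f 1
  have hW : genericPoint X ∈ W := ⟨h0', h1'⟩
  let b : Γ(X, W) := AModX.resR (inf_le_right : W ≤ _) (CurveVA.β k f 1 0) ^ (n + 1)
  have hb : gη hW b = x⁻¹ ^ (n + 1) := by
    rw [map_pow, gη_res _ hW h1', ← coordX_inv k f hf hdim]
    rfl
  have hcomp : AModX.res P (inf_le_left : W ≤ _) E₀ = b • AModX.res P (inf_le_right : W ≤ _) E₁ := by
    rw [res_E, res_E, res_frm_overlap, E_smul]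
  letI := (Curv2.stalkMap k X (genericPoint X)).toAlgebra
  obtain ⟨Φ, hΦ, hΦ'⟩ := CurveCohLib.Hopf.exists_coordLin k hE₀ hP h0'
  let Ψ : (Polynomial.degreeLT k (n + 2) × Polynomial.degreeLT k (n + 2 - m)) →ₗ[k] X.functionField :=
    ((Polynomial.aeval x).toLinearMap.comp (Submodule.subtype _)).coprod
      ((LinearMap.mulRight k z).comp ((Polynomial.aeval x).toLinearMap.comp (Submodule.subtype _)))
  have hΨ : ∀ pq, Ψ pq = Polynomial.aeval x (pq.1 : Polynomial k) + Polynomial.aeval x (pq.2 : Polynomial k) * z :=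
    fun _ => rfl
  have hΨinj : Function.Injective Ψ := (injective_iff_map_eq_zero Ψ).2 fun pq h => by
    obtain ⟨h1, h2⟩ := hn.indep _ _ ((hΨ pq).symm.trans h)
    exact Prod.ext (Subtype.ext h1) (Subtype.ext h2)
  have hmem : ∀ c : X.functionField, c ∈ LinearMap.range Ψ ↔
      Int₁ (k := k) x c ∧ Int₁ (k := k) x⁻¹ (c * x⁻¹ ^ (n + 1)) := by
    intro c
    constructor
    · rintro ⟨⟨p, q⟩, rfl⟩
      refine ⟨?_, ?_⟩
      · exact add_mem (s := intAlg (k := k) x) (Int₁.aeval x _) (mul_mem (Int₁.aeval x _) hn.mem)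
      · refine (hn.crit (p : Polynomial k) (q : Polynomial k) _).2 ⟨?_, ?_⟩
        · have := Polynomial.mem_degreeLT.1 p.2
          by_cases hp : (p : Polynomial k) = 0
          · simp [hp]
          · rw [← Polynomial.natDegree_lt_iff_degree_lt hp] at this
            omega
        · by_cases hq : (q : Polynomial k) = 0
          · exact Or.inl hq
          · have := Polynomial.mem_degreeLT.1 q.2
            rw [← Polynomial.natDegree_lt_iff_degree_lt hq] at this
            exact Or.inr (by omega)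
    · rintro ⟨hc, hc'⟩
      obtain ⟨p, q, rfl⟩ := hn.gen c hc
      obtain ⟨hp, hq⟩ := (hn.crit p q (n + 1)).1 hc'
      refine ⟨(⟨p, Polynomial.mem_degreeLT.2 ?_⟩, ⟨q, Polynomial.mem_degreeLT.2 ?_⟩), rfl⟩
      · exact lt_of_le_of_lt Polynomial.degree_le_natDegree (Nat.cast_lt.2 (by omega))
      · rcases hq with rfl | hq
        · rw [Polynomial.degree_zero]; exact WithBot.bot_lt_coe _
        · exact lt_of_le_of_lt Polynomial.degree_le_natDegree (Nat.cast_lt.2 (by omega))
  have hrange : ∀ c : X.functionField, (∃ t, Φ t = c) ↔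
      Int₁ (k := k) x c ∧ Int₁ (k := k) x⁻¹ (c * x⁻¹ ^ (n + 1)) := by
    intro c
    constructor
    · rintro ⟨t, rfl⟩
      let s : Γ(P, ⊤) := Sheaf.H.equiv₀ (Coh.toAb P) isTerminalTop t
      obtain ⟨a₀, ha₀⟩ := hE₀.exists_coord le_rfl (AModX.res P (le_top : CurveVA.Uc k f 0 ≤ ⊤) s)
      obtain ⟨a₁, ha₁⟩ := hE₁.exists_coord le_rfl (AModX.res P (le_top : CurveVA.Uc k f 1 ≤ ⊤) s)
      rw [AModX.res_self] at ha₀ ha₁
      have hg : gη h0' a₀ = Φ t := (hE₀.germ_bijective h0').1 <| by
        show gη h0' a₀ • P.presheaf.germ _ _ h0' E₀ = Φ t • P.presheaf.germ _ _ h0' E₀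
        rw [hΦ' t, ← InvX.germ_res' (le_top : CurveVA.Uc k f 0 ≤ ⊤) h0' s, ha₀, QCoh.germ_smul']
        rfl
      refine ⟨(int_iff k f hf hdim (j := 0) (l := 1) (by decide) _).2 ⟨a₀, hg⟩, ?_⟩
      show Int₁ (k := k) (coordX k f hf hdim 0 1)⁻¹ _
      rw [← coordX_inv k f hf hdim]
      refine (int_iff k f hf hdim (j := 1) (l := 0) (by decide) _).2 ⟨a₁, ?_⟩
      have e : AModX.resR (inf_le_left : W ≤ _) a₀ * b = AModX.resR (inf_le_right : W ≤ _) a₁ := by
        refine (hE₁.res (inf_le_right : W ≤ _)).coord_unique le_rfl ?_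
        rw [AModX.res_self, mul_smul, ← hcomp, ← AModX.res_smul, ← ha₀, ← AModX.res_smul, ← ha₁, AModX.res_res,
          AModX.res_res]
      have := congrArg (gη hW) e
      rw [map_mul, gη_res _ hW h0', gη_res _ hW h1', hb, hg] at this
      exact this.symm.trans (by rw [coordX_inv k f hf hdim])
    · rintro ⟨hc, hc'⟩
      obtain ⟨a₀, ha₀⟩ := (int_iff k f hf hdim (j := 0) (l := 1) (by decide) c).1 hc
      rw [show x⁻¹ = coordX k f hf hdim 1 0 from (coordX_inv k f hf hdim).symm] at hc'
      obtain ⟨a₁, ha₁⟩ := (int_iff k f hf hdim (j := 1) (l := 0) (by decide) _).1 hc'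
      have e : AModX.resR (inf_le_left : W ≤ _) a₀ * b = AModX.resR (inf_le_right : W ≤ _) a₁ :=
        gη_injective hW (by
          rw [map_mul, gη_res _ hW h0', gη_res _ hW h1', hb, ha₀, ha₁, coordX_inv k f hf hdim])
      have hov : AModX.res P (inf_le_left : W ≤ _) (a₀ • E₀) = AModX.res P (inf_le_right : W ≤ _) (a₁ • E₁) := by
        rw [AModX.res_smul, AModX.res_smul, hcomp, smul_smul, e]
      let sec' : ∀ i : Fin (1 + 1), Γ(P, CurveVA.Uc k f i) := Fin.cons (a₀ • E₀) (Fin.cons (a₁ • E₁) finZeroElim)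
      obtain ⟨T, hT, -⟩ := AModX.existsUnique_glue (M := P) (V := ⊤) (fun i : ULift.{u} (Fin (1 + 1)) => CurveVA.Uc k f i.down)
        (fun _ => le_top) (fun p _ => (exists_mem_Uc k f p).elim fun i hi => ⟨ULift.up i, hi⟩)
        (fun i => sec' i.down) fun ⟨i⟩ ⟨i'⟩ => by
          have hi : ∀ i : Fin (1 + 1), i = 0 ∨ i = 1 := by decide
          rcases hi i with rfl | rfl <;> rcases hi i' with rfl | rfl
          · rfl
          · exact hov
          · have := congrArg (AModX.res P (inf_comm (CurveVA.Uc k f 1) (CurveVA.Uc k f 0)).le) hov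
            rw [AModX.res_res, AModX.res_res] at this
            exact this.symm
          · rfl
      refine ⟨(Sheaf.H.equiv₀ (Coh.toAb P) isTerminalTop).symm T, (hE₀.germ_bijective h0').1 ?_⟩
      show Φ _ • P.presheaf.germ _ _ h0' E₀ = c • P.presheaf.germ _ _ h0' E₀
      rw [hΦ', AddEquiv.apply_symm_apply, ← InvX.germ_res' (le_top : CurveVA.Uc k f 0 ≤ ⊤) h0' T, hT (ULift.up 0), ← ha₀]
      exact (QCoh.germ_smul' P (hx := h0') a₀ E₀).trans rfl
  have heq : LinearMap.range Φ = LinearMap.range Ψ := SetLike.ext fun c => (hrange c).trans (hmem c).symm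
  rw [← LinearMap.finrank_range_of_inj hΦ]
  refine (congrArg (fun S : Submodule k X.functionField => Module.finrank k S) heq).trans ?_
  haveI : ∀ j, FiniteDimensional k (Polynomial.degreeLT k j) := fun j =>
    Module.Finite.equiv (Polynomial.degreeLTEquiv k j).symm
  rw [LinearMap.finrank_range_of_inj hΨinj, Module.finrank_prod, (Polynomial.degreeLTEquiv k _).finrank_eq,
    (Polynomial.degreeLTEquiv k _).finrank_eq, Module.finrank_fin_fun, Module.finrank_fin_fun]

/-- The twist of the normal form is the genus plus one. -/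
theorem normal_eq_genus (hdeg : f.residueDegree (genericPoint X) = 2)
    (h0 : Module.finrank k (Coh.HH X (Coh.structureModule X) 0) = 1) {m : ℕ} {z : X.functionField}
    (hn : Normal (coordX k f hf hdim 0 1) (intAlg (k := k) (coordX k f hf hdim 0 1))
      (intAlg (k := k) (coordX k f hf hdim 0 1)⁻¹) m z) : m = Curv2.genus k X + 1 := by
  haveI := CurveCohLib.isNoetherian_of_proper (k := k) (X := X)
  have hL := PicClLib.isInvertible_pullback f (isInvertible_twist k 1)
  let n := m + 2 * Curv2.genus k X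
  have hP := CurveEmbed.isInvertible_P hL n
  have hd := deg_P k f hf hdim hdeg h0 n
  haveI := CurveVA.subsingleton_h1_of_deg k hdim h0 hP (by rw [hd]; push_cast [n]; omega)
  have hh := h0_P_eq k f hf hdim hn n
  have e1 := CurveRR.euler_eq_h0_sub_h1 k hdim.le (QCoh.isQCoh_structureModule (X := X))
  have e2 := CurveRR.euler_eq_h0_sub_h1 k hdim.le (ProjUPX.isQCoh_of_isInvertible hP)
  rw [Module.finrank_zero_of_subsingleton (R := k) (M := Coh.HH X (CurveEmbed.P _ n) 1), hh] at e2
  have hg : Module.finrank k (Coh.HH X (Coh.structureModule X) 1) = Curv2.genus k X := rfl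
  unfold Curv2.deg at hd
  rw [h0, hg] at e1
  omega

/-- The normal form of a double cover. -/
theorem exists_normal_cover (hdeg : f.residueDegree (genericPoint X) = 2)
    (h0 : Module.finrank k (Coh.HH X (Coh.structureModule X) 0) = 1) :
    ∃ z, Normal (coordX k f hf hdim 0 1) (intAlg (k := k) (coordX k f hf hdim 0 1))
      (intAlg (k := k) (coordX k f hf hdim 0 1)⁻¹) (Curv2.genus k X + 1) z := by
  obtain ⟨m, z, hn⟩ := (quad k f hf hdim hdeg h0).exists_normal
  exact ⟨z, normal_eq_genus k f hf hdim hdeg h0 hn ▸ hn⟩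

end Groth.Agent.CurveCover
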