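import Groth.Agent.Lib.CurveAmple
import Groth.Agent.AssPtX.Regular
import Groth.Agent.H9Misc.QCohHull
import Groth.Agent.RelPC17.FibTriv

/-!
A regular section of an invertible module on a scheme of dimension at most one proper over a field.
-/

universe u

set_option autoImplicit false
set_option backward.isDefEq.respectTransparency false
set_option backward.isDefEq.respectTransparency.types false
set_option linter.style.haveILetI false
set_option linter.unusedSectionVars false
set_option maxHeartbeats 800000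

open CategoryTheory CategoryTheory.Limits AlgebraicGeometry TopologicalSpace Opposite

noncomputable section

namespace Groth.Agent.CurveCover.RegSect

open Groth.Agent Groth.Agent.H23 Groth.Agent.H23.TrivBasic Groth.Agent.CurveAmple

variable (k : Type u) [Field k] {X : Scheme.{u}} [X.Over (Spec (CommRingCat.of k))]
  [IsProper (X ↘ Spec (CommRingCat.of k))] (hdim : topologicalKrullDim X ≤ 1)
  {P L : X.Modules} (hP : PicF.IsInvertible P) (hL : PicF.IsInvertible L) {s : Γ(L, ⊤)}
  (hs : Mono (InvX.ofSect s))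

include hP hs in
theorem mono_mulBy : Mono (mulBy P s) := by
  haveI := CurveOnSurf.isEquivalence_tensor hP
  haveI := hs
  haveI : Mono ((DCoh.tensorBi.obj P).map (InvX.ofSect s)) := inferInstance
  exact mono_comp _ _

include k hdim in
/-- A point which is not closed has no proper generization. -/
theorem eq_of_specializes {y : X} (hy : ¬ IsClosed ({y} : Set X)) {z : X} (h : z ⤳ y) : z = y := by
  refine VarDim.eq_of_specializes_of_deg_le (X ↘ Spec (CommRingCat.of k)) h ?_
  have hz : VarDim.deg (X ↘ Spec (CommRingCat.of k)) z ≤ 1 := by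
    have h1 := (le_iSup (fun x : X => ((VarDim.deg (X ↘ Spec (CommRingCat.of k)) x : ℕ∞) : WithBot ℕ∞)) z).trans
      ((VarDim.topologicalKrullDim_eq_iSup_deg (X ↘ Spec (CommRingCat.of k))).ge.trans hdim)
    exact_mod_cast h1
  refine hz.trans ?_
  obtain ⟨c, hyc, hc⟩ := VarDim.exists_closed_specialization (X ↘ Spec (CommRingCat.of k)) y
  by_contra hcon
  exact hy ((VarDim.eq_of_specializes_of_deg_le (X ↘ Spec (CommRingCat.of k)) hyc (by omega)).symm ▸ hc)

include k hdim hP hL hs in
/-- The cokernel of a regular section is supported at closed points. -/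
theorem isClosed_support {y : X} (hy : y ∈ CohB1.support (cokernel (mulBy P s))) : IsClosed ({y} : Set X) := by
  by_contra hcl
  haveI := mono_mulBy hP hs
  obtain ⟨U₁, hy₁, ε, hε⟩ := InvX.exists_frame hP y
  obtain ⟨U₂, hy₂, α, hα⟩ := InvX.exists_frame hL y
  let U := U₁ ⊓ U₂
  have hyU : y ∈ U := ⟨hy₁, hy₂⟩
  let e := AModX.res P (inf_le_left : U ≤ U₁) ε
  let a := AModX.res L (inf_le_right : U ≤ U₂) α
  have hea : InvX.IsFrame e := hε.res inf_le_left
  have haa : InvX.IsFrame a := hα.res inf_le_right
  let w : Γ(CohB1.tensorMod P L, U) := InvX.tmul e a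
  have hw : InvX.IsFrame w := InvX.isFrame_tmul hea haa
  obtain ⟨g, hg⟩ := haa.exists_coord le_rfl (AModX.res L (le_top : U ≤ ⊤) s)
  rw [AModX.res_self] at hg
  have himg : (mulBy P s).app U e = g • w := by
    rw [mulBy_app, hg]
    exact InvX.tmul_smul_right g e a
  let F := DerSch.stalkFunctor X y
  have hFc : ∀ c : X.presheaf.stalk y, (F.map (mulBy P s)).hom (c • P.presheaf.germ U y hyU e) =
      (c * X.presheaf.germ U y hyU g) • (CohB1.tensorMod P L).presheaf.germ U y hyU w := fun c => by
    refine ((F.map (mulBy P s)).hom.map_smul c _).trans ?_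
    rw [mul_smul, ← QCoh.germ_smul']
    refine congrArg (c • ·) ?_
    refine (TopCat.Presheaf.stalkFunctor_map_germ_apply U y hyU ((Scheme.Modules.toPresheaf X).map (mulBy P s)) e).trans ?_
    exact congrArg _ himg
  have hreg : X.presheaf.germ U y hyU g ∈ nonZeroDivisors (X.presheaf.stalk y) := by
    rw [mem_nonZeroDivisors_iff_right]
    intro c hc
    refine (hea.germ_bijective hyU).1 ?_
    show c • _ = (0 : X.presheaf.stalk y) • _
    rw [zero_smul]
    refine H9Misc.QCohHull.injective_stalk_of_mono (mulBy P s) y ((hFc c).trans ?_)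
    rw [hc, zero_smul]
    exact (map_zero _).symm
  obtain ⟨v, hv⟩ := AssPtX.isUnit_of_mem_nonZeroDivisors y (fun z hz => eq_of_specializes k hdim hcl hz) hreg
  refine Snapper.notMem_support_cokernel (mulBy P s) ((ModuleCat.epi_iff_surjective _).2 fun q => ?_) hy
  obtain ⟨c, hc⟩ := (hw.germ_bijective hyU).2 q
  refine ⟨(c * ↑v⁻¹) • P.presheaf.germ U y hyU e, (hFc _).trans ?_⟩
  rw [← hv, mul_assoc, Units.inv_mul, mul_one]
  exact hc

include k hdim hP hL hs in
/-- Multiplication by a regular section preserves the vanishing of `H¹`. -/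
theorem subsingleton_tensor (h1 : Subsingleton (Coh.HH X P 1)) :
    Subsingleton (Coh.HH X (CohB1.tensorMod P L) 1) := by
  haveI := CurveCohLib.isNoetherian_of_proper (k := k) (X := X)
  haveI := mono_mulBy hP hs
  haveI := h1
  exact (CurveCohLib.finrank_h0_le_and_injective (k := k) (mulBy P s) (CurveDeg.isCoh_of_isInvertible hP)
    (CurveDeg.isCoh_of_isInvertible (InvX.isInvertible_tensorMod hP hL))
    (fun y hy => isClosed_support k hdim hP hL hs hy)).2.2.subsingleton

include k hdim hP hL hs in
/-- At a zero of a regular section, some section of the twist does not vanish. -/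
theorem exists_mem_locus (h1 : Subsingleton (Coh.HH X P 1)) {x : X} (hx : x ∉ locus s) :
    ∃ t : Γ(CohB1.tensorMod P L, ⊤), x ∈ locus t := by
  haveI := CurveCohLib.isNoetherian_of_proper (k := k) (X := X)
  haveI := mono_mulBy hP hs
  let f := mulBy P s
  have hcl : ∀ y ∈ CohB1.support (cokernel f), IsClosed ({y} : Set X) := fun y hy => isClosed_support k hdim hP hL hs hy
  have hT := InvX.isInvertible_tensorMod hP hL
  have hQ : Coh.IsCoh (cokernel f) :=
    QCoh.isCoh_cokernel (CurveDeg.isCoh_of_isInvertible hP).1 (CurveDeg.isCoh_of_isInvertible hT) _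
  obtain ⟨U₁, hxU₁, ε, hε⟩ := InvX.exists_frame hP x
  obtain ⟨U₂, hxU₂, α, hα⟩ := InvX.exists_frame hL x
  let U := U₁ ⊓ U₂
  have hxU : x ∈ U := ⟨hxU₁, hxU₂⟩
  let e := AModX.res P (inf_le_left : U ≤ U₁) ε
  let a := AModX.res L (inf_le_right : U ≤ U₂) α
  have hea : InvX.IsFrame e := hε.res inf_le_left
  have haa : InvX.IsFrame a := hα.res inf_le_right
  let w : Γ(CohB1.tensorMod P L, U) := InvX.tmul e a
  have hw : InvX.IsFrame w := InvX.isFrame_tmul hea haa
  obtain ⟨g, hg⟩ := haa.exists_coord le_rfl (AModX.res L (le_top : U ≤ ⊤) s)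
  rw [AModX.res_self] at hg
  have hgx : ¬ IsUnit (X.presheaf.germ U x hxU g) := fun hu => hx
    ((locus_eq_basicOpen haa hg).ge ((X.mem_basicOpen g x hxU).2 hu)).1
  have himg : f.app U e = g • w := by
    rw [mulBy_app, hg]
    exact InvX.tmul_smul_right g e a
  let F := DerSch.stalkFunctor X x
  let q : (cokernel f).presheaf.stalk x :=
    (F.map (cokernel.π f)).hom ((CohB1.tensorMod P L).presheaf.germ U x hxU w)
  obtain ⟨s', hs'⟩ : ∃ s' : Γ(cokernel f, ⊤), (cokernel f).presheaf.germ ⊤ x trivial s' = q := by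
    by_cases hxS : x ∈ CohB1.support (cokernel f)
    · obtain ⟨s', h, -⟩ := CurveCohLib.exists_section_single hQ hcl hxS q
      exact ⟨s', h⟩
    · exact ⟨0, (not_not.1 hxS : Subsingleton ((cokernel f).presheaf.stalk x)).elim _ _⟩
  let S : ShortComplex X.Modules := ShortComplex.mk f (cokernel.π f) (cokernel.condition f)
  have hS : S.ShortExact := { exact := ShortComplex.exact_of_g_is_cokernel _ (cokernelIsCokernel f) }
  obtain ⟨t, hts⟩ := RelPC17.FibTriv.app_top_surjective hS h1 s'
  refine ⟨t, ?_⟩
  have hex := hS.exact.map F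
  rw [ShortComplex.moduleCat_exact_iff] at hex
  obtain ⟨z, hz⟩ := hex ((CohB1.tensorMod P L).presheaf.germ ⊤ x trivial t - (CohB1.tensorMod P L).presheaf.germ U x hxU w) (by
    refine ((F.map (cokernel.π f)).hom.map_sub _ _).trans (sub_eq_zero.2 ?_)
    refine (TopCat.Presheaf.stalkFunctor_map_germ_apply ⊤ x trivial ((Scheme.Modules.toPresheaf X).map (cokernel.π f)) t).trans ?_
    exact (congrArg _ hts).trans hs')
  obtain ⟨c, hc⟩ := (hea.germ_bijective hxU).2 z
  have hfz : (F.map f).hom z = (c * X.presheaf.germ U x hxU g) • (CohB1.tensorMod P L).presheaf.germ U x hxU w := by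
    rw [← hc]
    refine ((F.map f).hom.map_smul c _).trans ?_
    rw [mul_smul, ← QCoh.germ_smul']
    refine congrArg (c • ·) ?_
    refine (TopCat.Presheaf.stalkFunctor_map_germ_apply U x hxU ((Scheme.Modules.toPresheaf X).map f) e).trans ?_
    exact congrArg _ himg
  obtain ⟨h, hh⟩ := hw.exists_coord le_rfl (AModX.res _ (le_top : U ≤ ⊤) t)
  rw [AModX.res_self] at hh
  have hgerm : (CohB1.tensorMod P L).presheaf.germ ⊤ x trivial t =
      X.presheaf.germ U x hxU h • (CohB1.tensorMod P L).presheaf.germ U x hxU w := by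
    rw [← QCoh.germ_smul', ← hh]
    exact (InvX.germ_res' (le_top : U ≤ ⊤) hxU t).symm
  have hu : X.presheaf.germ U x hxU h = 1 + c * X.presheaf.germ U x hxU g := by
    refine (hw.germ_bijective hxU).1 ?_
    show _ • _ = _ • _
    rw [← hgerm, add_smul, one_smul, ← hfz]
    exact eq_add_of_sub_eq' hz.symm
  refine ((locus_eq_basicOpen hw hh).ge ((X.mem_basicOpen h x hxU).2 ?_)).1
  rw [hu]
  by_contra hnu
  exact hnu (IsLocalRing.isUnit_of_mem_nonunits_one_sub_self _ (by
    rw [sub_add_cancel_left]
    exact fun hh' => hgx (isUnit_of_mul_isUnit_right (IsUnit.neg_iff _ |>.1 hh'))))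

include k hdim hL hs in
/-- With `H¹(L) = 0` the third power has vanishing `H¹` and sections without common zeros. -/
theorem cube (h1 : Subsingleton (Coh.HH X L 1)) :
    Subsingleton (Coh.HH X (CohB1.tensorMod (CohB1.tensorMod L L) L) 1) ∧
      ∀ x : X, ∃ t : Γ(CohB1.tensorMod (CohB1.tensorMod L L) L, ⊤), x ∈ locus t := by
  have hLL := InvX.isInvertible_tensorMod hL hL
  have h2 := subsingleton_tensor k hdim hL hL hs h1
  refine ⟨subsingleton_tensor k hdim hLL hL hs h2, fun x => ?_⟩
  by_cases hx : x ∈ locus s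
  · refine ⟨InvX.tmul (InvX.tmul s s) s, le_locus (U := locus s) ?_ hx⟩
    have hf := isFrame_res_of_le_locus (s := s) (le_refl (locus s))
    rw [InvX.res_tmul, InvX.res_tmul]
    exact InvX.isFrame_tmul (InvX.isFrame_tmul hf hf) hf
  · exact exists_mem_locus k hdim hLL hL hs h2 hx

end Groth.Agent.CurveCover.RegSect
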