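import Groth.Agent.H9Misc.VeryAmpleFibre

/-!
# Very ampleness through projective space is stable under base change
-/

set_option autoImplicit false
set_option backward.isDefEq.respectTransparency false
set_option backward.isDefEq.respectTransparency.types false
set_option linter.style.haveILetI false

universe u

open CategoryTheory CategoryTheory.Limits AlgebraicGeometry

noncomputable section

namespace Groth.Agent.CurveCover

open Groth.Agent.H9Misc.VeryAmpleFibre Groth.Agent.SeesawX.PnSpec

/-- Base change of an immersion into projective space. -/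
theorem isRelVeryAmplePn_baseChange {X Y X' Y' : Scheme.{u}} {f : X ⟶ Y} {g : Y' ⟶ Y} {g' : X' ⟶ X}
    {f' : X' ⟶ Y'} (hsq : IsPullback g' f' f g) {L : X.Modules} (h : RelAmple.IsRelVeryAmplePn f L) :
    RelAmple.IsRelVeryAmplePn f' ((Scheme.Modules.pullback g').obj L) := by
  obtain ⟨n, i, hi, hc, ⟨e⟩⟩ := h
  let r : X ⟶ CohB1.ProjSpace n Zu := i ≫ pZ n Y
  have hitoP : toP r f = i := by
    refine pullback.hom_ext (pullback.lift_fst _ _ _) ?_
    rw [pullback.lift_snd]
    exact hc.symm
  have hsqP : IsPullback g' (toP (g' ≫ r) f') i (bP g) := hitoP ▸ isPullback_toP r f hsq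
  haveI : IsImmersion (toP (g' ≫ r) f') := MorphismProperty.of_isPullback hsqP hi
  refine ⟨n, toP (g' ≫ r) f', inferInstance, pullback.lift_snd _ _ _, ⟨?_⟩⟩
  exact (Scheme.Modules.pullback g').mapIso e ≪≫
    (Scheme.Modules.pullback g').mapIso ((Scheme.Modules.pullbackComp i (pZ n Y)).app _) ≪≫
    (Scheme.Modules.pullbackComp g' r).app _ ≪≫
    (Scheme.Modules.pullbackCongr
      (show g' ≫ r = toP (g' ≫ r) f' ≫ pZ n Y' from (pullback.lift_fst _ _ _).symm)).app _ ≪≫
    ((Scheme.Modules.pullbackComp (toP (g' ≫ r) f') (pZ n Y')).app _).symm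

end Groth.Agent.CurveCover
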