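import Groth.Agent.CurveCover.Cover
import Groth.Agent.AmpleVan.RelVanish
import Groth.Agent.HilbPoly.EllSimple

/-! Sections of powers of a double cover bundle. -/

noncomputable section

set_option linter.style.haveILetI false
set_option linter.unusedSectionVars false
set_option backward.isDefEq.respectTransparency false
set_option backward.isDefEq.respectTransparency.types false
set_option autoImplicit false

universe u

open CategoryTheory CategoryTheory.Limits AlgebraicGeometry TopologicalSpace Opposite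
open Groth.Agent.PnCoh.Finite (mapLin)

namespace Groth.Agent.CurveCover

variable (k : Type u) [Field k] {X Y : Scheme.{u}} [X.Over (Spec (CommRingCat.of k))]
  [Y.Over (Spec (CommRingCat.of k))] [IsIntegral X] [IsIntegral Y]
  [IsProper (X ↘ Spec (CommRingCat.of k))]

/-- Pulling back sections along a dominant map is injective. -/
theorem h0_le_pullback (f : X ⟶ Y) [IsAffineHom f]
    (hf : f ≫ (Y ↘ Spec (CommRingCat.of k)) = X ↘ Spec (CommRingCat.of k))
    (e : f (genericPoint X) = genericPoint Y) {M : Y.Modules} (hM : PicF.IsInvertible M) :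
    Module.finrank k (Coh.HH Y M 0) ≤ Module.finrank k (Coh.HH X ((Scheme.Modules.pullback f).obj M) 0) := by
  haveI := CurveCohLib.isNoetherian_of_proper (k := k) (X := X)
  have hM' := PicClLib.isInvertible_pullback f hM
  haveI := CurveCohLib.finite_HH (k := k) (CurveDeg.isCoh_of_isInvertible hM') 0
  obtain ⟨φ⟩ := PnCoh.exists_linearEquiv_push k f hf (ProjUPX.isQCoh_of_isInvertible hM') 0
  haveI : FiniteDimensional k (Coh.HH Y ((Coh.push f).obj ((Scheme.Modules.pullback f).obj M)) 0) :=
    Module.Finite.equiv φ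
  let η : M ⟶ (Coh.push f).obj ((Scheme.Modules.pullback f).obj M) :=
    (Scheme.Modules.pullbackPushforwardAdjunction f).unit.app M
  rw [φ.finrank_eq]
  refine LinearMap.finrank_le_finrank_of_injective (f := mapLin k η 0) ?_
  refine (injective_iff_map_eq_zero _).2 fun t ht => ?_
  let e₀ := Sheaf.H.equiv₀ (Coh.toAb M) isTerminalTop
  have h1 : η.app ⊤ (e₀ t) = 0 :=
    (Sheaf.H.equiv₀_naturality isTerminalTop ((QCoh.toAbFunctor Y).map η) t).trans
      ((congrArg (Sheaf.H.equiv₀ (Coh.toAb ((Coh.push f).obj ((Scheme.Modules.pullback f).obj M))) isTerminalTop) ht).trans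
        (map_zero _))
  by_contra hne
  have hz : (e₀ t : Γ(M, ⊤)) ≠ 0 := fun h => hne (e₀.injective (h.trans (map_zero e₀).symm))
  obtain ⟨y, hy⟩ := (Opens.ne_bot_iff_nonempty _).1 (H23.TrivBasic.locus_ne_bot hM hz)
  have hmem : genericPoint X ∈ f ⁻¹ᵁ H23.TrivBasic.locus (e₀ t : Γ(M, ⊤)) := by
    show f (genericPoint X) ∈ H23.TrivBasic.locus (e₀ t : Γ(M, ⊤))
    rw [e]
    exact (genericPoint_specializes y).mem_open (H23.TrivBasic.locus (e₀ t : Γ(M, ⊤))).isOpen hy
  rw [← H23.TrivBasic.locus_pullElt hM f] at hmem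
  obtain ⟨U, hU, hfr⟩ := H23.TrivBasic.mem_locus_iff.1 hmem
  have h0 : AModX.res ((Scheme.Modules.pullback f).obj M) (le_top : U ≤ ⊤)
      (show Γ((Scheme.Modules.pullback f).obj M, ⊤) from InvX.pullElt f (e₀ t : Γ(M, ⊤))) = 0 := by
    rw [show (show Γ((Scheme.Modules.pullback f).obj M, ⊤) from InvX.pullElt f (e₀ t : Γ(M, ⊤))) = 0 from h1, map_zero]
  haveI : Nonempty U := ⟨⟨_, hU⟩⟩
  exact one_ne_zero ((hfr U le_rfl).1 (a₁ := (1 : Γ(X, U))) (a₂ := 0) (by simp [h0]))

end Groth.Agent.CurveCover

namespace Groth.Agent.CurveCover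

variable (k : Type u) [Field k] (X : Scheme.{u}) [X.Over (Spec (CommRingCat.of k))]
  [IsProper (X ↘ Spec (CommRingCat.of k))] [Smooth (X ↘ Spec (CommRingCat.of k))]

attribute [local instance] CurveBC.overBar

/-- Clifford over any field: few sections in small degree. -/
theorem h0_le_of_deg_le (hdim : topologicalKrullDim X = 1)
    (h0 : Module.finrank k (Coh.HH X (Coh.structureModule X) 0) = 1) {r : ℕ}
    (hr : r + 1 ≤ Curv2.genus k X) {L : X.Modules} (hL : PicF.IsInvertible L)
    (hd : Curv2.deg k X L 1 ≤ 2 * r) : Module.finrank k (Coh.HH X L 0) ≤ r + 1 := by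
  obtain ⟨_, _, _, hd', _, _⟩ := CurveBC.bar_facts k X hdim h0
  haveI := quasiSeparatedSpace_of_quasiSeparated (X ↘ Spec (CommRingCat.of k))
  haveI := QuasiCompact.compactSpace_of_compactSpace (X ↘ Spec (CommRingCat.of k))
  have hpb := CurveBC.isPullback_bar k X
  have hq := ProjUPX.isQCoh_of_isInvertible hL
  have hL' := PicClLib.isInvertible_pullback (Curv2.bcFst k X (AlgebraicClosure k)) hL
  rw [← CurveBC.finrank_hh k _ _ hpb L hq 0]
  rw [← CurveBC.deg_eq k _ _ hpb L hq 1] at hd
  rw [← CurveBC.genus_eq k _ _ hpb] at hr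
  by_contra hlt
  rcases CurveCohLib.Clifford.dichotomy (AlgebraicClosure k) hd' hL' (m := r + 1) (by omega) with h | h <;>
    push_cast at h <;> omega

end Groth.Agent.CurveCover
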