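import Groth.Agent.S1625
import Groth.Agent.S1655
import Groth.Agent.S7645
import Groth.Agent.NormCurve.Delta
import Groth.Agent.NormCurve.Normal
import Groth.Agent.NagataLib.Scheme
import Groth.Agent.CurveRes.Basic
import Groth.Agent.CurveCohLib.RegularCurve
import Groth.Agent.Neron6.BirOpen
import Groth.Agent.PnCoh.Chow.Proper
import Groth.Agent.VarDim.Top
import Groth.Agent.H9Misc.IsoNearFibre
import Groth.Agent.FrobTwist.Pullback

/-!
Smooth projective completions of smooth curves over algebraically closed fields.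
-/

set_option autoImplicit false
set_option backward.isDefEq.respectTransparency false
set_option backward.isDefEq.respectTransparency.types false
set_option linter.style.haveILetI false
set_option maxHeartbeats 800000

universe u

open CategoryTheory CategoryTheory.Limits AlgebraicGeometry TopologicalSpace Opposite

namespace Groth.Agent.CurveCover.SmoothCompletion

open Groth.Agent

/-- An open subscheme of dimension one of an irreducible scheme of finite type forces dimension one. -/
theorem topologicalKrullDim_eq {k : Type u} [Field k] {X Y : Scheme.{u}} [IrreducibleSpace X] [IrreducibleSpace Y]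
    (j : X ⟶ Y) [IsOpenImmersion j] (g : Y ⟶ Spec (CommRingCat.of k)) [LocallyOfFiniteType g] :
    topologicalKrullDim X = topologicalKrullDim Y := by
  rw [VarDim.topologicalKrullDim_eq_deg_genericPoint (j ≫ g), VarDim.topologicalKrullDim_eq_deg_genericPoint g,
    VarDim.deg_comp g j, genericPoint_eq_of_isOpenImmersion j]

/-- A finite birational morphism onto an integral scheme is an isomorphism over the normal locus. -/
theorem isIso_restrict_of_normal {N Y : Scheme.{u}} [IsNoetherian Y] [IsIntegral Y] [IsIntegral N]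
    (ι : N ⟶ Y) [IsFinite ι] (V : Y.Opens) (hV : Dense (V : Set Y)) (hι : IsIso (ι ∣_ V)) (W : Y.Opens)
    (hW : ∀ x ∈ W, IsIntegrallyClosed (Y.presheaf.stalk x)) : IsIso (ι ∣_ W) := by
  have hsurj : Function.Surjective ι := by
    intro y
    have h1 : (V : Set Y) ⊆ Set.range ι := fun v hv => by
      obtain ⟨w, hw⟩ := (ConcreteCategory.bijective_of_isIso (ι ∣_ V).base).2 ⟨v, hv⟩
      refine ⟨w.1, ?_⟩
      have := congrArg Subtype.val hw
      erw [morphismRestrict_base_coe] at this
      exact this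
    have h2 := (hV.mono h1).closure_eq
    rw [ι.isClosedMap.isClosed_range.closure_eq] at h2
    exact h2.superset trivial
  have hloc : ∀ x : (W : Y.Opens), ∃ U : Y.Opens, x.1 ∈ U ∧ IsIso (ι ∣_ U) := fun x => by
    obtain ⟨y, hy⟩ := hsurj x.1
    exact S1655.result ι V hV.nonempty hι x.1 (hW x.1 x.2) y hy (ι.quasiFiniteAt y)
  choose U hxU hU using hloc
  have hUW : ∀ x, IsIso (ι ∣_ (U x ⊓ W)) := fun x =>
    (haveI := hU x; H9Misc.IsoNearFibre.isIso_restrict_of_le ι inf_le_left)
  refine (IsZariskiLocalAtTarget.iff_of_iSup_eq_top (P := MorphismProperty.isomorphisms Scheme.{u})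
    (fun x => W.ι ⁻¹ᵁ (U x)) (top_le_iff.1 fun w _ => Opens.mem_iSup.2 ⟨⟨w.1, w.2⟩, hxU ⟨w.1, w.2⟩⟩)).2 fun x => ?_
  show IsIso _
  haveI := hUW x
  exact (MorphismProperty.isomorphisms Scheme.{u}).arrow_mk_iso_iff
    (morphismRestrictRestrict ι W (W.ι ⁻¹ᵁ (U x)) ≪≫ morphismRestrictEq ι (by
      rw [Scheme.Hom.image_preimage_eq_opensRange_inf, Scheme.Opens.opensRange_ι, inf_comm]) :
      Arrow.mk (ι ∣_ W ∣_ (W.ι ⁻¹ᵁ (U x))) ≅ Arrow.mk (ι ∣_ (U x ⊓ W))) |>.2 (hUW x)

/-- A smooth curve over an algebraically closed field has a smooth projective completion. -/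
theorem exists_completion (k : Type u) [Field k] [IsAlgClosed k]
    (X : Scheme.{u}) [X.Over (Spec (CommRingCat.of k))] [IsIntegral X] [IsSeparated (X ↘ (Spec (CommRingCat.of k)))]
    [LocallyOfFiniteType (X ↘ (Spec (CommRingCat.of k)))] [QuasiCompact (X ↘ (Spec (CommRingCat.of k)))] [Smooth (X ↘ (Spec (CommRingCat.of k)))]
    (hdimX : topologicalKrullDim X = 1) :
    ∃ (Y : Scheme.{u}) (_ : Y.Over (Spec (CommRingCat.of k))) (j : X ⟶ Y), IsOpenImmersion j ∧
      j ≫ (Y ↘ (Spec (CommRingCat.of k))) = X ↘ (Spec (CommRingCat.of k)) ∧ IsIntegral Y ∧ Smooth (Y ↘ (Spec (CommRingCat.of k))) ∧ topologicalKrullDim Y = 1 ∧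
      ∃ (n : ℕ) (i : Y ⟶ CohB1.ProjSpace n k), IsClosedImmersion i ∧ i ≫ CohB1.ProjSpace.toSpec n k = Y ↘ (Spec (CommRingCat.of k)) := by
  obtain ⟨d, Y, c, j, hc, hj, hcomp, hdense, hdom, -, -⟩ := S1625.result k X hdimX.le
  haveI := hdom
  haveI := PnCoh.Chow.isProper_toSpec d k
  haveI : IsLocallyNoetherian Y := LocallyOfFiniteType.isLocallyNoetherian (c ≫ CohB1.ProjSpace.toSpec d k)
  haveI : QuasiCompact j := inferInstance
  haveI : AlgebraicGeometry.IsReduced Y := IsSchemeTheoreticallyDominant.isReduced j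
  haveI : IrreducibleSpace Y := by
    have h := ((PreirreducibleSpace.isPreirreducible_univ (X := X)).image j.base j.base.hom.continuous.continuousOn).closure
    rw [Set.image_univ, hdense.closure_eq] at h
    exact { isPreirreducible_univ := h, toNonempty := ⟨j (genericPoint X)⟩ }
  haveI : IsIntegral Y := isIntegral_of_irreducibleSpace_of_isReduced Y
  let g : Y ⟶ Spec (CommRingCat.of k) := c ≫ CohB1.ProjSpace.toSpec d k
  haveI : IsProper g := inferInstanceAs (IsProper (c ≫ CohB1.ProjSpace.toSpec d k))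
  have hjg : j ≫ g = X ↘ Spec (CommRingCat.of k) := hcomp
  haveI : IsLocallyNoetherian Y := LocallyOfFiniteType.isLocallyNoetherian g
  haveI : CompactSpace Y := QuasiCompact.compactSpace_of_compactSpace g
  haveI : IsNoetherian Y := {}
  have hN := fun U : Y.affineOpens => NagataLib.isNagata_affineOpen g U
  haveI := NormCurve.isFinite_normalizationι Y hN
  obtain ⟨V, hV, hVi⟩ := NormCurve.exists_isIso Y hN
  haveI : IsIntegral (Curv2.normalization Y) :=
    inferInstanceAs (IsIntegral (Y.fromSpecStalk (genericPoint Y)).normalization)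
  have hXn : Pi1.IsNormalScheme X := Neron6.isNormalScheme_of_smooth (X ↘ Spec (CommRingCat.of k))
    (FrobTwist.isNormalScheme_Spec (k := k))
  let ι := Curv2.normalizationι Y
  haveI : IsIso (ι ∣_ j.opensRange) := isIso_restrict_of_normal ι V hV hVi j.opensRange fun x hx => by
    obtain ⟨z, rfl⟩ := hx
    haveI := (hXn z).2
    exact IsIntegrallyClosed.of_equiv (asIso (j.stalkMap z)).commRingCatIsoToRingEquiv.symm
  let j' : X ⟶ Curv2.normalization Y :=
    j.isoOpensRange.hom ≫ inv (ι ∣_ j.opensRange) ≫ (ι ⁻¹ᵁ j.opensRange).ι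
  have hj' : j' ≫ ι = j := by
    show (_ ≫ inv (ι ∣_ j.opensRange) ≫ _) ≫ ι = j
    rw [Category.assoc, Category.assoc, ← morphismRestrict_ι, IsIso.inv_hom_id_assoc]
    exact Scheme.Hom.isoOpensRange_hom_ι j
  haveI : IsOpenImmersion j' := inferInstanceAs (IsOpenImmersion (_ ≫ _ ≫ _))
  letI : (Curv2.normalization Y).Over (Spec (CommRingCat.of k)) := ⟨ι ≫ g⟩
  haveI : IsProper (Curv2.normalization Y ↘ Spec (CommRingCat.of k)) := inferInstanceAs (IsProper (ι ≫ g))
  have hdY : topologicalKrullDim Y ≤ 1 := by rw [← topologicalKrullDim_eq j g]; exact hdimX.le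
  have hd : topologicalKrullDim (Curv2.normalization Y) = 1 := by
    rw [← topologicalKrullDim_eq j' (ι ≫ g)]; exact hdimX
  refine ⟨Curv2.normalization Y, inferInstance, j', inferInstance, ?_, inferInstance, ?_, hd, ?_⟩
  · show j' ≫ ι ≫ g = _
    rw [← Category.assoc, hj', hjg]
  · exact CurveCohLib.RegularCurve.smooth_of_regular k fun y _ => CurveRes.regular_normalization Y hdY y
  · exact S7645.result k (Curv2.normalization Y) hd.le

end Groth.Agent.CurveCover.SmoothCompletion
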