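import Groth.Agent.CurveCover.AmpleH1
import Groth.Agent.Lib.GenLocusGG

/-!
The square of a globally generated invertible module with vanishing `H¹`, on a scheme of dimension at
most one proper over a field, is normally generated.
-/

universe u

set_option autoImplicit false
set_option backward.isDefEq.respectTransparency false
set_option backward.isDefEq.respectTransparency.types false
set_option linter.style.haveILetI false
set_option linter.unusedSectionVars false
set_option maxHeartbeats 800000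

open CategoryTheory CategoryTheory.Limits AlgebraicGeometry TopologicalSpace Opposite

noncomputable section

namespace Groth.Agent.CurveCover.SquareNG

open Groth.Agent Groth.Agent.H23 Groth.Agent.CurveCover.AmpleH1

variable {X : Scheme.{u}} {L N : X.Modules} {ι : Type u}

/-- `O ⊗ L`. -/
abbrev one₁ (L : X.Modules) : X.Modules := CohB1.tensorMod (Coh.structureModule X) L

/-- `(O ⊗ L) ⊗ L`. -/
abbrev sq₂ (L : X.Modules) : X.Modules := CohB1.tensorMod (one₁ L) L

/-- `id ⊗ φ`. -/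
def mapR (A : X.Modules) {B B' : X.Modules} (φ : B ⟶ B') : CohB1.tensorMod A B ⟶ CohB1.tensorMod A B' :=
  (DCoh.tensorBi.obj A).map φ

/-- `φ ⊗ id`. -/
def mapL {A A' : X.Modules} (φ : A ⟶ A') (B : X.Modules) : CohB1.tensorMod A B ⟶ CohB1.tensorMod A' B :=
  (DCoh.tensorBi.map φ).app B

lemma map_right_app (A : X.Modules) {B B' : X.Modules} (φ : B ⟶ B') {V : X.Opens}
    (a : Γ(A, V)) (b : Γ(B, V)) :
    (mapR A φ).app V (InvX.tmul a b) = InvX.tmul a (φ.app V b) := by
  refine (KFlatLib.tmSh_naturality_right A φ (U := V) a b).trans ?_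
  exact congrArg (fun z => InvX.tmul a z) rfl

lemma map_left_app {A A' : X.Modules} (φ : A ⟶ A') (B : X.Modules) {V : X.Opens}
    (a : Γ(A, V)) (b : Γ(B, V)) :
    (mapL φ B).app V (InvX.tmul a b) = InvX.tmul (φ.app V a) b := by
  refine (KFlatLib.tmSh_naturality_left φ B (U := V) a b).trans ?_
  exact congrArg (fun z => InvX.tmul z b) rfl

/-- `u ↦ 1 ⊗ u`. -/
abbrev oneSect (u : Γ(L, ⊤)) : Γ(one₁ L, ⊤) :=
  InvX.tmul (show Γ(Coh.structureModule X, ⊤) from (1 : Γ(X, ⊤))) u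

/-- The products of pairs of sections of `L`. -/
abbrev sqSect (u : ι → Γ(L, ⊤)) (p : ι × ι) : Γ(sq₂ L, ⊤) :=
  InvX.tmul (oneSect (u p.1)) (u p.2)

/-- `n ⊗ x ↦ n ⊗ (x ⊗ u_m)`. -/
def theta (N : X.Modules) (u : ι → Γ(L, ⊤)) (m : ι) :
    CohB1.tensorMod N (one₁ L) ⟶ CohB1.tensorMod N (sq₂ L) :=
  mapR N (CurveAmple.mulBy (one₁ L) (u m))

lemma theta_app (N : X.Modules) (u : ι → Γ(L, ⊤)) (m : ι) {V : X.Opens} (n : Γ(N, V))
    (x : Γ(one₁ L, V)) :
    (theta N u m).app V (InvX.tmul n x) =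
      InvX.tmul n (InvX.tmul x (AModX.res L (le_top : V ≤ ⊤) (u m))) := by
  refine (map_right_app N _ n x).trans ?_
  exact congrArg (InvX.tmul n) (CurveAmple.mulBy_app _ (u m) x)

/-- The pieces of the local data at a point. -/
structure Frames (N : X.Modules) (u : ι → Γ(L, ⊤)) (V : X.Opens) where
  i₀ : ι
  n : Γ(N, V)
  isFrame_n : InvX.IsFrame n
  isFrame_z : InvX.IsFrame (AModX.res L (le_top : V ≤ ⊤) (u i₀))
  c : ι → Γ(X, V)
  hc : ∀ i, AModX.res L (le_top : V ≤ ⊤) (u i) = c i • AModX.res L (le_top : V ≤ ⊤) (u i₀)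

theorem isInvertible_one₁ (hL : PicF.IsInvertible L) : PicF.IsInvertible (one₁ L) :=
  InvX.isInvertible_tensorMod InvX.isInvertible_structureModule hL

theorem isInvertible_sq₂ (hL : PicF.IsInvertible L) : PicF.IsInvertible (sq₂ L) :=
  InvX.isInvertible_tensorMod (isInvertible_one₁ hL) hL

namespace Frames

variable {u : ι → Γ(L, ⊤)} {V : X.Opens} (D : Frames N u V)

abbrev z : Γ(L, V) := AModX.res L (le_top : V ≤ ⊤) (u D.i₀)

abbrev a : Γ(one₁ L, V) :=
  InvX.tmul (show Γ(Coh.structureModule X, V) from (1 : Γ(X, V))) D.z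

abbrev sq : Γ(sq₂ L, V) := InvX.tmul D.a D.z

abbrev e : Γ(CohB1.tensorMod N (one₁ L), V) := InvX.tmul D.n D.a

abbrev f : Γ(CohB1.tensorMod N (sq₂ L), V) := InvX.tmul D.n D.sq

lemma isFrame_a : InvX.IsFrame D.a := InvX.isFrame_tmul (InvX.isFrame_one V) D.isFrame_z

lemma isFrame_sq : InvX.IsFrame D.sq := InvX.isFrame_tmul D.isFrame_a D.isFrame_z

lemma isFrame_e : InvX.IsFrame D.e := InvX.isFrame_tmul D.isFrame_n D.isFrame_a

lemma isFrame_f : InvX.IsFrame D.f := InvX.isFrame_tmul D.isFrame_n D.isFrame_sq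

lemma res_oneSect (i : ι) : AModX.res _ (le_top : V ≤ ⊤) (oneSect (u i)) = D.c i • D.a := by
  rw [InvX.res_tmul, D.hc i, InvX.tmul_smul_right]
  congr 2
  exact map_one (X.presheaf.map (homOfLE (le_top : V ≤ ⊤)).op).hom

lemma res_sqSect (p : ι × ι) :
    AModX.res _ (le_top : V ≤ ⊤) (sqSect u p) = (D.c p.1 * D.c p.2) • D.sq := by
  rw [InvX.res_tmul, D.res_oneSect, D.hc p.2, InvX.tmul_smul_left, InvX.tmul_smul_right, smul_smul]

lemma theta_e (m : ι) (g : Γ(X, V)) : (theta N u m).app V (g • D.e) = (g * D.c m) • D.f := by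
  rw [Scheme.Modules.Hom.app_smul, theta_app, D.hc m, InvX.tmul_smul_right, InvX.tmul_smul_right,
    smul_smul]

end Frames

lemma exists_frames (hN : PicF.IsInvertible N) (u : ι → Γ(L, ⊤))
    (hu : ∀ x : X, ∃ i, x ∈ TrivBasic.locus (u i)) {U : X.Opens} {x : X} (hx : x ∈ U) :
    ∃ V : X.Opens, V ≤ U ∧ x ∈ V ∧ Nonempty (Frames N u V) := by
  obtain ⟨i₀, hi₀⟩ := hu x
  obtain ⟨W, hxW, n, hn⟩ := InvX.exists_frame hN x
  let V : X.Opens := U ⊓ (TrivBasic.locus (u i₀) ⊓ W)
  have hz : InvX.IsFrame (AModX.res L (le_top : V ≤ ⊤) (u i₀)) :=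
    TrivBasic.isFrame_res_of_le_locus (inf_le_right.trans inf_le_left)
  choose c hc using fun i => hz.exists_coord le_rfl (AModX.res L (le_top : V ≤ ⊤) (u i))
  simp only [AModX.res_self] at hc
  exact ⟨V, inf_le_left, ⟨hx, hi₀, hxW⟩,
    ⟨⟨i₀, _, hn.res (inf_le_right.trans inf_le_right), hz, c, hc⟩⟩⟩

variable (N) (u : ι → Γ(L, ⊤))

/-- The multiplication by the products. -/
abbrev mulSq : (∐ fun _ : ι × ι => CohB1.tensorMod N (sq₂ L)) ⟶
    CohB1.tensorMod (CohB1.tensorMod N (sq₂ L)) (sq₂ L) :=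
  sumMul (CohB1.tensorMod N (sq₂ L)) (sqSect u)

/-- The index `(i, k)` of a product and the exchanged index. -/
def swapIdx : (ι × ι × ι) × ULift.{u} Bool → (ι × ι) × (ι × ι) × (ι × ι)
  | ((i, j, k), ⟨true⟩) => ((i, j), (k, j), (k, i))
  | ((i, j, k), ⟨false⟩) => ((i, j), (i, k), (k, j))

/-- The relations `ι_p (n ⊗ x u_a) - ι_q (n ⊗ x u_b)`. -/
def relHom (r : (ι × ι × ι) × ULift.{u} Bool) :
    CohB1.tensorMod N (one₁ L) ⟶ ∐ fun _ : ι × ι => CohB1.tensorMod N (sq₂ L) :=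
  theta N u (swapIdx r).2.2.1 ≫ Sigma.ι (fun _ : ι × ι => CohB1.tensorMod N (sq₂ L)) (swapIdx r).1 -
    theta N u (swapIdx r).2.2.2 ≫ Sigma.ι (fun _ : ι × ι => CohB1.tensorMod N (sq₂ L)) (swapIdx r).2.1

lemma relHom_e {V : X.Opens} (D : Frames N u V) (r : (ι × ι × ι) × ULift.{u} Bool) (g : Γ(X, V)) :
    (relHom N u r).app V (g • D.e) =
      (Sigma.ι (fun _ : ι × ι => CohB1.tensorMod N (sq₂ L)) (swapIdx r).1).app V
          ((g * D.c (swapIdx r).2.2.1) • D.f) -
        (Sigma.ι (fun _ : ι × ι => CohB1.tensorMod N (sq₂ L)) (swapIdx r).2.1).app V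
          ((g * D.c (swapIdx r).2.2.2) • D.f) := by
  rw [← D.theta_e, ← D.theta_e]
  rfl

variable {N u}

lemma mulSq_ι {V : X.Opens} (D : Frames N u V) (p : ι × ι) (g : Γ(X, V)) :
    (mulSq N u).app V ((Sigma.ι (fun _ : ι × ι => CohB1.tensorMod N (sq₂ L)) p).app V (g • D.f)) =
      (g * (D.c p.1 * D.c p.2)) • InvX.tmul D.f D.sq := by
  rw [sumMul_app_ι, D.res_sqSect, InvX.tmul_smul_left, InvX.tmul_smul_right, smul_smul]

theorem relHom_comp (hN : PicF.IsInvertible N) (hu : ∀ x : X, ∃ i, x ∈ TrivBasic.locus (u i))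
    (r : (ι × ι × ι) × ULift.{u} Bool) : relHom N u r ≫ mulSq N u = 0 := by
  choose V hVU hxV hD using fun x : X => exists_frames hN u hu (U := ⊤) (x := x) trivial
  refine InvX.hom_ext_of_frames V (fun x => ⟨x, hxV x⟩) _ (fun x => (hD x).some.isFrame_e) fun x => ?_
  let D := (hD x).some
  show (mulSq N u).app (V x) ((relHom N u r).app (V x) D.e) = 0
  rw [← one_smul Γ(X, V x) D.e, relHom_e, map_sub, mulSq_ι, mulSq_ι, sub_eq_zero]
  obtain ⟨⟨i, j, k⟩, ⟨b⟩⟩ := r
  cases b <;> simp only [swapIdx, one_mul] <;> congr 1 <;> ring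

variable (N u)

/-- The relations, as a map to the kernel. -/
def relKer (hN : PicF.IsInvertible N) (hu : ∀ x : X, ∃ i, x ∈ TrivBasic.locus (u i)) :
    (∐ fun _ : (ι × ι × ι) × ULift.{u} Bool => CohB1.tensorMod N (one₁ L)) ⟶
      kernel (mulSq N u) :=
  Sigma.desc fun r => kernel.lift (mulSq N u) (relHom N u r) (relHom_comp hN hu r)

theorem epi_relKer [Finite ι] (hN : PicF.IsInvertible N) (hu : ∀ x : X, ∃ i, x ∈ TrivBasic.locus (u i)) :
    Epi (relKer N u hN hu) := by
  classical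
  haveI := Fintype.ofFinite ι
  let R := (ι × ι × ι) × ULift.{u} Bool
  let B := CohB1.tensorMod N (one₁ L)
  let A := CohB1.tensorMod N (sq₂ L)
  let κ := kernel.ι (mulSq N u)
  refine RelTildeX.epi_of_locally _ fun U a x hx => ?_
  obtain ⟨V, hVU, hxV, ⟨D⟩⟩ := exists_frames hN u hu hx
  refine ⟨V, hVU, hxV, ?_⟩
  obtain ⟨b, hb⟩ := exists_components (κ.app V (AModX.res _ hVU a))
  choose g hg using fun p => D.isFrame_f.exists_coord le_rfl (b p)
  simp only [AModX.res_self] at hg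
  have hsum : ∑ p : ι × ι, g p * (D.c p.1 * D.c p.2) = 0 := by
    have h0 : (mulSq N u).app V (κ.app V (AModX.res _ hVU a)) = 0 :=
      congrArg (fun ψ : kernel (mulSq N u) ⟶ CohB1.tensorMod A (sq₂ L) =>
        ψ.app V (AModX.res _ hVU a)) (kernel.condition (mulSq N u))
    rw [hb, map_sum] at h0
    refine (InvX.isFrame_tmul D.isFrame_f D.isFrame_sq).coord_unique le_rfl ?_
    rw [AModX.res_self, zero_smul, Finset.sum_smul, ← h0]
    exact Finset.sum_congr rfl fun p _ => by rw [hg p, mulSq_ι]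
  let T : ι × ι → Γ((∐ fun _ : R => B), V) := fun p =>
    (Sigma.ι (fun _ : R => B) ((p.1, p.2, D.i₀), ⟨true⟩)).app V (g p • D.e) +
      (Sigma.ι (fun _ : R => B) ((D.i₀, p.2, D.i₀), ⟨false⟩)).app V ((g p * D.c p.1) • D.e)
  have h1 : D.c D.i₀ = 1 := D.isFrame_z.coord_unique le_rfl (by
    rw [AModX.res_self, one_smul]
    exact (D.hc D.i₀).symm)
  have hT : ∀ p, κ.app V ((relKer N u hN hu).app V (T p)) =
      (Sigma.ι (fun _ : ι × ι => A) p).app V (b p) -
        (Sigma.ι (fun _ : ι × ι => A) (D.i₀, D.i₀)).app V ((g p * (D.c p.1 * D.c p.2)) • D.f) := by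
    intro p
    have hι : ∀ (r : R) (w : Γ(B, V)),
        κ.app V ((relKer N u hN hu).app V ((Sigma.ι (fun _ : R => B) r).app V w)) =
          (relHom N u r).app V w := fun r w => by
      show (Sigma.ι (fun _ : R => B) r ≫ relKer N u hN hu ≫ κ).app V w = _
      rw [relKer, Sigma.ι_desc_assoc, kernel.lift_ι]
    obtain ⟨i, j⟩ := p
    simp only [T, map_add, hι, relHom_e, swapIdx, h1, mul_one, mul_assoc, hg]
    abel
  refine ⟨∑ p, T p, QCoh.app_injective κ V ?_⟩
  refine Eq.trans ?_ hb.symm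
  rw [map_sum, map_sum, Finset.sum_congr rfl fun p _ => hT p, Finset.sum_sub_distrib, ← map_sum,
    ← Finset.sum_smul, hsum, zero_smul, map_zero, sub_zero]

section Field

variable (k : Type u) [Field k] [X.Over (Spec (CommRingCat.of k))]
  [IsProper (X ↘ Spec (CommRingCat.of k))] (hdim : topologicalKrullDim X ≤ 1)

include k hdim in
/-- The target of an epimorphism from a finite sum of copies of a module with `H¹ = 0`. -/
theorem subsingleton_of_epi_coprod {R : Type u} [Finite R] {B F : X.Modules} (hBq : Coh.IsQCoh B)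
    (hB : Subsingleton (Coh.HH X B 1)) (hFq : Coh.IsQCoh F) (e : (∐ fun _ : R => B) ⟶ F) [Epi e] :
    Subsingleton (Coh.HH X F 1) := by
  haveI : CompactSpace X := QuasiCompact.compactSpace_of_compactSpace (X ↘ Spec (CommRingCat.of k))
  haveI : QuasiSeparatedSpace X := quasiSeparatedSpace_of_quasiSeparated (X ↘ Spec (CommRingCat.of k))
  haveI := RelPC17.DimOne.subsingleton_coprod (fun _ : R => B) 1 fun _ => hB
  exact (RelPC17.DimOne.hmap_surjective (X ↘ Spec (CommRingCat.of k)) (NefH1.fibre_dim k hdim) e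
    (H23.LocFinCoprod.isQCoh_coprod fun _ => hBq) hFq).subsingleton

include k hdim in
/-- `H¹(L^{2m} ⊗ L) = 0`. -/
theorem subsingleton_pow_tensor (hL : PicF.IsInvertible L) (h1 : Subsingleton (Coh.HH X L 1))
    [Finite ι] (hu : ∀ x : X, ∃ i, x ∈ TrivBasic.locus (u i)) :
    ∀ m : ℕ, Subsingleton (Coh.HH X
      (CohB1.tensorMod (CohB1.tensorPow (sq₂ L) m) (one₁ L)) 1)
  | 0 => by
    obtain ⟨e₁⟩ := PicMul.comm (Coh.structureModule X) (one₁ L)
    obtain ⟨e₂⟩ := PicMul.unit (one₁ L)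
    obtain ⟨e₃⟩ := PicMul.comm (Coh.structureModule X) L
    obtain ⟨e₄⟩ := PicMul.unit L
    haveI := h1
    exact (CurveCohLib.hhEquiv (k := k) (e₁ ≪≫ e₂ ≪≫ e₃ ≪≫ e₄) 1).toEquiv.subsingleton
  | m + 1 => by
    haveI := CurveCohLib.isNoetherian_of_proper (k := k) (X := X)
    let M := sq₂ L
    let L₁ := one₁ L
    have hM : PicF.IsInvertible M := isInvertible_sq₂ hL
    have hP := InvX.isInvertible_tensorPow hM m
    have hB := InvX.isInvertible_tensorMod hP (isInvertible_one₁ hL)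
    have hF := InvX.isInvertible_tensorMod (InvX.isInvertible_tensorPow hM (m + 1)) (isInvertible_one₁ hL)
    let F := CohB1.tensorMod (CohB1.tensorPow M (m + 1)) L₁
    let B := CohB1.tensorMod (CohB1.tensorPow M m) L₁
    let e : (∐ fun _ : ι => B) ⟶ F := Sigma.desc fun i =>
      mapL (CurveAmple.mulBy (CohB1.tensorPow M m) (sqSect u (i, i))) L₁
    haveI : Epi e := by
      refine RelTildeX.epi_of_locally _ fun U y x hx => ?_
      obtain ⟨V, hVU, hxV, ⟨D⟩⟩ := exists_frames hP u hu hx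
      have hfr : InvX.IsFrame (InvX.tmul (InvX.tmul D.n D.sq) D.a) :=
        InvX.isFrame_tmul (InvX.isFrame_tmul D.isFrame_n D.isFrame_sq) D.isFrame_a
      obtain ⟨g, hg⟩ := hfr.exists_coord le_rfl (AModX.res F hVU y)
      rw [AModX.res_self] at hg
      refine ⟨V, hVU, hxV, (Sigma.ι (fun _ : ι => B) D.i₀).app V (g • InvX.tmul D.n D.a), ?_⟩
      show (Sigma.ι (fun _ : ι => B) D.i₀ ≫ e).app V _ = _
      rw [Sigma.ι_desc, Scheme.Modules.Hom.app_smul]
      refine Eq.trans (congrArg (g • ·) ?_) hg.symm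
      refine (map_left_app _ L₁ D.n D.a).trans (congrArg (fun z => InvX.tmul z D.a) ?_)
      refine (CurveAmple.mulBy_app _ _ D.n).trans (congrArg (InvX.tmul D.n) ?_)
      rw [D.res_sqSect, D.isFrame_z.coord_unique le_rfl (r := D.c D.i₀) (r' := 1)
        (by rw [AModX.res_self, one_smul]; exact (D.hc D.i₀).symm), mul_one, one_smul]
    exact subsingleton_of_epi_coprod k hdim (CurveDeg.isCoh_of_isInvertible hB).1
      (subsingleton_pow_tensor hL h1 hu m) (CurveDeg.isCoh_of_isInvertible hF).1 e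

include k hdim in
/-- `L ⊗ L` is normally generated. -/
theorem normGenerated_sq₂ (hL : PicF.IsInvertible L) (hloc : ∀ x : X, ∃ t : Γ(L, ⊤), x ∈ TrivBasic.locus t)
    (h1 : Subsingleton (Coh.HH X L 1)) : NormGen.NormGenerated (sq₂ L) := by
  haveI := CurveCohLib.isNoetherian_of_proper (k := k) (X := X)
  classical
  haveI : CompactSpace X := QuasiCompact.compactSpace_of_compactSpace (X ↘ Spec (CommRingCat.of k))
  intro m hm
  obtain ⟨n, rfl⟩ := Nat.exists_eq_add_of_le' hm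
  choose s₀ hs₀ using hloc
  obtain ⟨T₀, hT₀⟩ := isCompact_univ.elim_finite_subcover (fun x => (TrivBasic.locus (s₀ x) : Set X))
    (fun x => (TrivBasic.locus (s₀ x)).2) (fun x _ => Set.mem_iUnion.2 ⟨x, hs₀ x⟩)
  let u : T₀ → Γ(L, ⊤) := fun i => s₀ i.1
  have hu : ∀ x : X, ∃ i, x ∈ TrivBasic.locus (u i) := fun x => by
    obtain ⟨y, hy, hxy⟩ := Set.mem_iUnion₂.1 (hT₀ (Set.mem_univ x))
    exact ⟨⟨y, hy⟩, hxy⟩
  have hM : PicF.IsInvertible (sq₂ L) := isInvertible_sq₂ hL
  have hN := InvX.isInvertible_tensorPow hM n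
  let N := CohB1.tensorPow (sq₂ L) n
  let A := CohB1.tensorMod N (sq₂ L)
  have hA : PicF.IsInvertible A := InvX.isInvertible_tensorMod hN hM
  have hsq : ∀ x : X, ∃ p : T₀ × T₀, x ∈ TrivBasic.locus (sqSect u p) := fun x => by
    obtain ⟨V, -, hxV, ⟨D⟩⟩ := exists_frames hN u hu (U := ⊤) (x := x) trivial
    refine ⟨(D.i₀, D.i₀), TrivBasic.le_locus (U := V) ?_ hxV⟩
    rw [D.res_sqSect, D.isFrame_z.coord_unique le_rfl (r := D.c D.i₀) (r' := 1)
      (by rw [AModX.res_self, one_smul]; exact (D.hc D.i₀).symm), mul_one, one_smul]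
    exact D.isFrame_sq
  let φ := mulSq N u
  haveI : Epi φ := epi_sumMul hA (sqSect u) hsq
  have hqB : Coh.IsQCoh (CohB1.tensorMod N (one₁ L)) :=
    (CurveDeg.isCoh_of_isInvertible (InvX.isInvertible_tensorMod hN (isInvertible_one₁ hL))).1
  have hq : Coh.IsQCoh (CohB1.tensorMod A (sq₂ L)) :=
    (CurveDeg.isCoh_of_isInvertible (InvX.isInvertible_tensorMod hA hM)).1
  have hqs : Coh.IsQCoh (∐ fun _ : T₀ × T₀ => A) := H23.LocFinCoprod.isQCoh_coprod fun _ =>
    (CurveDeg.isCoh_of_isInvertible hA).1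
  haveI := epi_relKer N u hN hu
  have hK : Subsingleton (Coh.HH X (kernel φ) 1) :=
    subsingleton_of_epi_coprod k hdim hqB (subsingleton_pow_tensor u k hdim hL h1 hu n)
      (QCoh.isQCoh_kernel hqs hq φ) (relKer N u hN hu)
  let S : ShortComplex X.Modules := ShortComplex.mk (kernel.ι φ) φ (kernel.condition φ)
  have hS : S.ShortExact := { exact := ShortComplex.exact_of_f_is_kernel _ (kernelIsKernel φ) }
  refine top_le_iff.1 fun z _ => ?_
  obtain ⟨a, ha⟩ := RelPC17.FibTriv.app_top_surjective hS hK z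
  obtain ⟨b, hb⟩ := exists_components (show Γ((∐ fun _ : T₀ × T₀ => A), ⊤) from a)
  rw [← ha, show a = _ from hb]
  change φ.app ⊤ _ ∈ _
  rw [map_sum]
  refine AddSubgroup.sum_mem _ fun p _ => AddSubgroup.subset_closure ⟨b p, sqSect u p, ?_⟩
  rw [sumMul_app_ι, AModX.res_self]
  rfl

include k hdim in
/-- The second tensor power is normally generated. -/
theorem normGenerated (hL : PicF.IsInvertible L) (hgg : Curv2.IsGloballyGenerated L)
    (h1 : Subsingleton (Coh.HH X L 1)) : NormGen.NormGenerated (CohB1.tensorPow L 2) := by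
  change NormGen.NormGenerated (sq₂ L)
  exact normGenerated_sq₂ k hdim hL (GenLocusGG.exists_mem_locus hL hgg) h1

include k hdim in
/-- The second tensor power is normally generated when sections without common zeros exist. -/
theorem normGenerated_of_locus (hL : PicF.IsInvertible L) (hloc : ∀ x : X, ∃ t : Γ(L, ⊤), x ∈ TrivBasic.locus t)
    (h1 : Subsingleton (Coh.HH X L 1)) : NormGen.NormGenerated (CohB1.tensorPow L 2) := by
  change NormGen.NormGenerated (sq₂ L)
  exact normGenerated_sq₂ k hdim hL hloc h1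

end Field

end Groth.Agent.CurveCover.SquareNG
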