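import Groth.Agent.CurveCover.PointBundle
import Groth.Agent.VAmpleX.Eventually
import Groth.Agent.CurveCover.QuadChart
import Groth.Agent.CurveCohLib.SmoothCurve

/-! The Weierstrass equation of a curve of genus one at a rational point. -/

noncomputable section

set_option linter.style.haveILetI false
set_option linter.unusedSectionVars false
set_option backward.isDefEq.respectTransparency false
set_option backward.isDefEq.respectTransparency.types false
set_option autoImplicit false
set_option maxHeartbeats 1000000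

universe u

open CategoryTheory CategoryTheory.Limits AlgebraicGeometry TopologicalSpace Opposite
open Groth.Agent.CurveCohLib.Polar

namespace Groth.Agent.CurveCover

attribute [local instance] CurveFF.ffAlg

variable (k : Type u) [Field k] {X : Scheme.{u}} [X.Over (Spec (CommRingCat.of k))]
  [IsProper (X ↘ Spec (CommRingCat.of k))] [Smooth (X ↘ Spec (CommRingCat.of k))]

/-- A connected curve with a rational point has no other constants. -/
theorem finrank_h0_of_point [ConnectedSpace X] (σ : Spec (CommRingCat.of k) ⟶ X)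
    (hσ : σ ≫ (X ↘ Spec (CommRingCat.of k)) = 𝟙 _) :
    Module.finrank k (Coh.HH X (Coh.structureModule X) 0) = 1 := by
  haveI := QuasiCompact.compactSpace_of_compactSpace (X ↘ Spec (CommRingCat.of k))
  haveI := CurveCohLib.isIntegral_of_smooth_connected (X ↘ Spec (CommRingCat.of k))
  letI : Field Γ(X, ⊤) := (isField_of_universallyClosed k (X ↘ Spec (CommRingCat.of k))).toField
  let e := Sheaf.H.equiv₀ (Coh.toAb (Coh.structureModule X)) isTerminalTop
  let π := (σ.appTop ≫ (Scheme.ΓSpecIso (CommRingCat.of k)).hom)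
  have hsec : ∀ a : k, π (CurveTrace.top' k X a) = a := fun a => by
    have h := congrArg (fun g => (Scheme.Hom.appTop g).hom ((Scheme.ΓSpecIso (CommRingCat.of k)).inv a)) hσ
    simp only [Scheme.Hom.comp_appTop, Scheme.Hom.id_appTop, CommRingCat.comp_apply] at h
    rw [CurveTrace.top'_eq]
    show (Scheme.ΓSpecIso (CommRingCat.of k)).hom (σ.appTop ((X ↘ Spec (CommRingCat.of k)).appTop _)) = a
    rw [h]
    exact ConcreteCategory.congr_hom (Scheme.ΓSpecIso (CommRingCat.of k)).inv_hom_id a
  refine finrank_eq_one (e.symm (1 : Γ(X, ⊤))) (fun h => one_ne_zero (α := Γ(X, ⊤))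
    ((e.apply_symm_apply _).symm.trans ((congrArg e h).trans (map_zero e)))) fun t => ?_
  refine ⟨π (show Γ(X, ⊤) from e t), e.injective ?_⟩
  refine (CurveCohLib.h0Equiv_smul (Coh.structureModule X) _ _).trans ?_
  rw [AddEquiv.apply_symm_apply]
  show CurveTrace.top' k X _ * (1 : Γ(X, ⊤)) = _
  rw [mul_one]
  exact π.hom.injective (hsec _)

/-- The double cover given by twice a rational point. -/
theorem exists_pencil_at_point [IsIntegral X] (hdim : topologicalKrullDim X = 1)
    (h0 : Module.finrank k (Coh.HH X (Coh.structureModule X) 0) = 1) (hg : Curv2.genus k X = 1)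
    {O : X} (hO : IsClosed ({O} : Set X))
    (hr : letI := Curv2.resAlgebra k X O; Module.finrank k (X.residueField O) = 1) :
    ∃ f : X ⟶ CohB1.ProjSpace 1 k, f ≫ CohB1.ProjSpace.toSpec 1 k = X ↘ Spec (CommRingCat.of k) ∧ IsFinite f ∧
      f.residueDegree (genericPoint X) = 2 ∧ ∀ y : X, y ∈ CurveVA.Uc k f 0 ↔ y ≠ O := by
  classical
  haveI := CurveCohLib.isNoetherian_of_proper (k := k) (X := X)
  haveI : JacobsonSpace X := LocallyOfFiniteType.jacobsonSpace (X ↘ Spec (CommRingCat.of k))
  obtain ⟨M, s, hM, hdM, hs⟩ := exists_point_bundle k hdim hO hr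
  let L := CohB1.tensorMod M M
  have hL : PicF.IsInvertible L := InvX.isInvertible_tensorMod hM hM
  have hd : Curv2.deg k X L 1 = 2 := by
    have := CurveRR.deg_tensor k hdim hM hM
    rw [hdM] at this
    exact this
  have hh : Module.finrank k (Coh.HH X L 0) = 2 := by
    refine le_antisymm (h0_le_two k X hdim h0 hg.ge hL hd) ?_
    have e1 := CurveRR.euler_eq_h0_sub_h1 k hdim.le (QCoh.isQCoh_structureModule (X := X))
    have e2 := CurveRR.euler_eq_h0_sub_h1 k hdim.le (ProjUPX.isQCoh_of_isInvertible hL)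
    have hg' : Module.finrank k (Coh.HH X (Coh.structureModule X) 1) = 1 := hg
    unfold Curv2.deg at hd
    omega
  haveI := CurveCohLib.finite_HH (k := k) (CurveDeg.isCoh_of_isInvertible hL) 0
  let σ₀ : Γ(L, ⊤) := InvX.tmul s s
  have hσ₀ : ∀ y : X, y ∈ H23.TrivBasic.locus σ₀ ↔ y ≠ O := fun y => by
    rw [VAmpleX.locus_tmul hM hM]
    exact ⟨fun h => (hs y).1 h.1, fun h => ⟨(hs y).2 h, (hs y).2 h⟩⟩
  let e := Sheaf.H.equiv₀ (Coh.toAb L) isTerminalTop
  let t₀ := e.symm σ₀
  have ht₀ : t₀ ≠ 0 := fun h => by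
    have hz : σ₀ = 0 := (e.apply_symm_apply _).symm.trans ((congrArg e h).trans (map_zero e))
    have hη : genericPoint X ≠ O := fun h' => CurveEmbed.genericPoint_not_closed hdim (h' ▸ hO)
    have h1 := (hσ₀ (genericPoint X)).2 hη
    rw [hz] at h1
    obtain ⟨U, hU, hfr⟩ := H23.TrivBasic.mem_locus_iff.1 h1
    haveI : Nonempty U := ⟨⟨_, hU⟩⟩
    rw [map_zero] at hfr
    exact one_ne_zero (hfr.coord_unique le_rfl (r := (1 : Γ(X, U))) (r' := 0) (by simp))
  obtain ⟨t₁, ht₁⟩ : ∃ t₁, t₁ ∉ Submodule.span k {t₀} := by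
    by_contra! hall
    have htop : Submodule.span k {t₀} = ⊤ := eq_top_iff.2 fun t _ => hall t
    have := finrank_span_singleton (K := k) ht₀
    rw [htop, finrank_top, hh] at this
    omega
  have hli : LinearIndependent k ![t₀, t₁] :=
    (LinearIndependent.pair_iff' ht₀).2 fun a ha => ht₁ (Submodule.mem_span_singleton.2 ⟨a, ha⟩)
  let b : Module.Basis (Fin (1 + 1)) k (Coh.HH X L 0) :=
    basisOfLinearIndependentOfCardEqFinrank hli (by rw [Fintype.card_fin]; exact hh.symm)
  let σ : Fin (1 + 1) → Γ(L, ⊤) := fun j => (e (b j) : Γ(L, ⊤))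
  have hb : σ 0 = σ₀ := by
    show e (b 0) = σ₀
    rw [show b 0 = t₀ by simp [b]]
    exact e.apply_symm_apply _
  have hgg := gg_of_deg_two k X hdim h0 hg.ge hL hd hh.ge
  obtain ⟨f, hf, τ, hτ⟩ := S3572.result 1 (X ↘ Spec (CommRingCat.of k)) L hL σ
    (AVAmple.generatedBy_of_locus σ fun x => exists_mem_locus_basis k hL hgg b x)
  have hfin : IsFinite f := by
    haveI : IsProper (CohB1.ProjSpace.toSpec 1 k) := PnCoh.Chow.isProper_toSpec 1 k
    haveI : IsProper f := by
      haveI : IsProper (f ≫ CohB1.ProjSpace.toSpec 1 k) := hf ▸ ‹IsProper (X ↘ Spec (CommRingCat.of k))›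
      exact IsProper.of_comp f (CohB1.ProjSpace.toSpec 1 k)
    haveI : LocallyQuasiFinite f := AVAmple.locallyQuasiFinite_of_closed f fun q hq =>
      AVAmple.finite_preimage f hL (isInvertible_twist k 1) τ
        (CurveEmbed.finite_of_triv k hdim (by omega)) q hq
    exact IsFinite.of_isProper_of_locallyQuasiFinite f
  haveI := hfin
  refine ⟨f, hf, hfin, ?_, fun y => ?_⟩
  · have h := residueDegree_pencil k X hdim h0 f hf
    rw [CurveRR.deg_congr k τ 1, hd] at h
    exact_mod_cast h
  · rw [show CurveVA.Uc k f 0 = H23.TrivBasic.locus (σ 0) from AmpleEmbed.preimage_chart f τ 0 (hτ 0), hb]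
    exact hσ₀ y

/-- The affine Weierstrass equation. -/
theorem exists_weierstrass [IsIntegral X] (hdim : topologicalKrullDim X = 1)
    (h0 : Module.finrank k (Coh.HH X (Coh.structureModule X) 0) = 1) (hg : Curv2.genus k X = 1)
    (σ : Spec (CommRingCat.of k) ⟶ X) (hσ : σ ≫ (X ↘ Spec (CommRingCat.of k)) = 𝟙 _) :
    ∃ (U : X.Opens) (hη : genericPoint X ∈ U) (_ : IsAffineOpen U) (a₁ a₂ a₃ a₄ a₆ : k) (u v : Γ(X, U)),
      (gη hη v) ^ 2 + algebraMap k X.functionField a₁ * gη hη u * gη hη v + algebraMap k X.functionField a₃ * gη hη v =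
        (gη hη u) ^ 3 + algebraMap k X.functionField a₂ * (gη hη u) ^ 2 + algebraMap k X.functionField a₄ * gη hη u +
          algebraMap k X.functionField a₆ ∧
      (∀ p q : Polynomial k, Polynomial.aeval (gη hη u) p + Polynomial.aeval (gη hη u) q * gη hη v = 0 →
        p = 0 ∧ q = 0) ∧
      ∀ w : Γ(X, U), ∃ p q : Polynomial k,
        gη hη w = Polynomial.aeval (gη hη u) p + Polynomial.aeval (gη hη u) q * gη hη v := by
  classical
  let O : X := σ (IsLocalRing.closedPoint k)
  obtain ⟨hO, hr⟩ := rational_point k X σ hσ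
  obtain ⟨f, hf, _, hdeg, hU0⟩ := exists_pencil_at_point k hdim h0 hg hO hr
  obtain ⟨z, hn⟩ := exists_normal_cover k f hf hdim hdeg h0
  rw [hg] at hn
  have hQ := quad k f hf hdim hdeg h0
  have hOU : O ∈ CurveVA.Uc k f 1 := by
    obtain ⟨i, hi⟩ := exists_mem_Uc k f O
    rcases (show ∀ i : Fin (1 + 1), i = 0 ∨ i = 1 by decide) i with rfl | rfl
    · exact absurd rfl ((hU0 O).1 hi)
    · exact hi
  have h1 := gen_mem_Uc k f hf hdim 1
  have hh0 := gen_mem_Uc k f hf hdim 0
  let x := coordX k f hf hdim 0 1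
  let R := X.presheaf.stalk O
  let α : R →+* X.functionField := algebraMap R X.functionField
  let ev : R →+* k := (Scheme.stalkClosedPointTo σ).hom
  haveI : IsLocalHom ev := inferInstanceAs (IsLocalHom (Scheme.stalkClosedPointTo σ).hom)
  have hevc : ∀ c : k, ev (Curv2.stalkMap k X O c) = c := fun c => by
    have h := congrArg (fun g => (Scheme.Hom.appTop g).hom ((Scheme.ΓSpecIso (CommRingCat.of k)).inv c)) hσ
    simp only [Scheme.Hom.comp_appTop, Scheme.Hom.id_appTop, CommRingCat.comp_apply] at h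
    rw [← CurveVA.germ_sc k (x := O) c]
    have h2 := ConcreteCategory.congr_hom (Scheme.germ_stalkClosedPointTo σ ⊤ (Set.mem_univ _)) (CurveVA.sc k c)
    refine h2.trans ?_
    simp only [CommRingCat.comp_apply]
    show (Scheme.ΓSpecIso (CommRingCat.of k)).hom _ = c
    refine Eq.trans (congrArg (Scheme.ΓSpecIso (CommRingCat.of k)).hom ?_)
      (ConcreteCategory.congr_hom (Scheme.ΓSpecIso (CommRingCat.of k)).inv_hom_id c)
    refine Eq.trans ?_ h
    show (Spec (CommRingCat.of k)).presheaf.map _ (σ.app ⊤ (X.presheaf.map (𝟙 (op ⊤)) _)) = _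
    rw [CategoryTheory.Functor.map_id]
    exact ConcreteCategory.congr_hom ((Spec (CommRingCat.of k)).presheaf.map_id _) _
  -- the uniformiser at infinity
  let Y : R := X.presheaf.germ _ O hOU (CurveVA.β k f 1 0)
  haveI : Nonempty (CurveVA.Uc k f 1) := ⟨⟨_, h1⟩⟩
  have hαgerm : ∀ a : Γ(X, CurveVA.Uc k f 1), α (X.presheaf.germ _ O hOU a) = gη h1 a := fun a =>
    X.algebraMap_germ_eq_germToFunctionField hOU a
  have hY : α Y = x⁻¹ := (hαgerm _).trans (coordX_inv k f hf hdim)
  have hevY : ev Y = 0 := by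
    by_contra hne
    have hu : IsUnit Y := (isUnit_map_iff ev Y).1 (isUnit_iff_ne_zero.2 hne)
    have h2 : O ∈ X.basicOpen (CurveVA.β k f 1 0) := (X.mem_basicOpen _ O hOU).2 hu
    rw [← H23.TrivBasic.locus_eq_basicOpen (isFrame_frm k f 1) (res_sec k f 1 0)] at h2
    have h3 : O ∈ CurveVA.Uc k f 0 := (AmpleEmbed.preimage_chart f (Iso.refl _) 0 rfl).ge h2.1
    exact (hU0 O).1 h3 rfl
  -- normalise the value at infinity
  have hzB : ∀ {z : X.functionField}, Normal x (intAlg (k := k) x) (intAlg (k := k) x⁻¹) 2 z →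
      ∃ a : Γ(X, CurveVA.Uc k f 1), gη h1 a = z * x⁻¹ ^ 2 := by
    intro z hn
    refine (int_iff k f hf hdim (j := 1) (l := 0) (by decide) _).1 ?_
    rw [coordX_inv k f hf hdim]
    have := (hn.crit 0 1 2).2 ⟨by simp, Or.inr (by simp)⟩
    rw [map_zero, map_one, zero_add, one_mul] at this
    exact this
  obtain ⟨a₀, ha₀⟩ := hzB hn
  let γ := ev (X.presheaf.germ _ O hOU a₀)
  obtain ⟨z₁, hz₁⟩ : ∃ z₁, z₁ = z + Polynomial.aeval x (Polynomial.C (-γ) * Polynomial.X ^ 2) := ⟨_, rfl⟩
  have hn₁ : Normal x (intAlg (k := k) x) (intAlg (k := k) x⁻¹) 2 z₁ := hz₁ ▸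
    hn.shift hQ.aeval_mem ((Polynomial.natDegree_C_mul_X_pow_le _ _).trans le_rfl)
  obtain ⟨p, q, he, hlow, hup⟩ := hQ.exists_equation hn₁
  have hx0 : x ≠ 0 := hQ.ne_zero
  let W : R := X.presheaf.germ _ O hOU a₀ - Curv2.stalkMap k X O γ
  have hevW : ev W = 0 := by rw [map_sub, hevc, sub_self]
  have hW : α W = z₁ * x⁻¹ ^ 2 := by
    rw [map_sub, hαgerm, ha₀, ← CurveFF.algebraMap_eq]
    have e1 : x * x⁻¹ = 1 := mul_inv_cancel₀ hx0
    simp only [hz₁, map_mul, map_pow, Polynomial.aeval_X, Polynomial.aeval_C, map_neg]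
    linear_combination (algebraMap k X.functionField γ * (x * x⁻¹ + 1)) * e1
  let S : k →+* R := Curv2.stalkMap k X O
  have hαeval : ∀ r : Polynomial k, α (Polynomial.eval₂ S Y r) = Polynomial.aeval x⁻¹ r := fun r => by
    rw [Polynomial.hom_eval₂, hY, Polynomial.aeval_def]
    exact congrArg (fun g => Polynomial.eval₂ g x⁻¹ r) (RingHom.ext fun c => (CurveFF.algebraMap_eq k X O c).symm)
  have hevs : ∀ r : Polynomial k, ev (Polynomial.eval₂ S Y r) = r.coeff 0 := fun r => by
    rw [Polynomial.hom_eval₂, hevY, Polynomial.eval₂_at_zero]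
    exact hevc _
  let pt := p.reflect 4
  let qt := q.reflect 2
  have hpd : p.natDegree ≤ 4 := by omega
  have hqd : q.natDegree ≤ 2 := by omega
  have heR : W * (W + Polynomial.eval₂ S Y qt) = Polynomial.eval₂ S Y pt := by
    refine IsFractionRing.injective R X.functionField ?_
    show α _ = α _
    rw [map_mul, map_add, hαeval, hαeval, hW, aeval_reflect x hx0 hpd, aeval_reflect x hx0 hqd]
    linear_combination (x⁻¹ ^ 4) * he
  have hp4 : p.coeff 4 = 0 := by
    have h := congrArg ev heR
    rw [map_mul, hevW, zero_mul, hevs, Polynomial.coeff_reflect] at h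
    simpa [Polynomial.revAt_le] using h.symm
  have hq2 : q.coeff 2 = 0 := by
    by_contra hq
    have hu : IsUnit (W + Polynomial.eval₂ S Y qt) := (isUnit_map_iff ev _).1 (isUnit_iff_ne_zero.2 (by
      rw [map_add, hevW, zero_add, hevs, Polynomial.coeff_reflect]
      simpa [Polynomial.revAt_le] using hq))
    obtain ⟨r, hr'⟩ := (Polynomial.X_dvd_iff (f := pt)).2 (by
      rw [Polynomial.coeff_reflect]; simpa [Polynomial.revAt_le] using hp4)
    obtain ⟨v, hv⟩ := hu
    rw [← hv, hr', Polynomial.eval₂_mul, Polynomial.eval₂_X] at heR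
    have hWY : W = Y * (Polynomial.eval₂ S Y r * ↑v⁻¹) := by
      rw [← mul_assoc, ← heR, mul_assoc, Units.mul_inv, mul_one]
    have hmem : z₁ * x⁻¹ ^ 1 ∈ intAlg (k := k) x⁻¹ := by
      show Int₁ (k := k) (coordX k f hf hdim 0 1)⁻¹ _
      rw [← coordX_inv k f hf hdim]
      refine (int_iff k f hf hdim (j := 1) (l := 0) (by decide) _).2 ?_
      obtain ⟨t, ht⟩ := exists_of_forall_inR (W := CurveVA.Uc k f 1) (c := z₁ * x⁻¹ ^ 1) fun y hy => by
        by_cases hyO : y = O
        · rw [hyO]
          refine ⟨Polynomial.eval₂ S Y r * ↑v⁻¹, ?_⟩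
          show α _ = _
          have h := congrArg α hWY
          rw [hW, map_mul, hY] at h
          refine mul_left_cancel₀ (inv_ne_zero hx0) ?_
          linear_combination -h
        · obtain ⟨a₁, ha₁⟩ := hzB hn₁
          have h' : z₁ * x⁻¹ ^ 1 = gη hy a₁ * gη ((hU0 y).2 hyO) (CurveVA.β k f 0 1) := by
            rw [show gη hy a₁ = gη h1 a₁ from rfl, ha₁]
            show _ = _ * x
            linear_combination (-(z₁ * x⁻¹)) * inv_mul_cancel₀ hx0
          rw [h']
          exact (inR_gη hy a₁).mul (inR_gη _ _)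
      exact ⟨t, (ht h1).trans (by rw [coordX_inv k f hf hdim])⟩
    have h2 := (hn₁.crit 0 1 1).1 (by simpa using hmem)
    simp at h2
  have hp3 : p.natDegree ≤ 3 := Polynomial.natDegree_le_iff_coeff_eq_zero.2 fun i hi => by
    rcases (show i = 4 ∨ 4 < i by omega) with rfl | hi
    · exact hp4
    · exact Polynomial.coeff_eq_zero_of_natDegree_lt (hpd.trans_lt hi)
  have hq1 : q.natDegree ≤ 1 := Polynomial.natDegree_le_iff_coeff_eq_zero.2 fun i hi => by
    rcases (show i = 2 ∨ 2 < i by omega) with rfl | hi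
    · exact hq2
    · exact Polynomial.coeff_eq_zero_of_natDegree_lt (hqd.trans_lt hi)
  have hdp : p.natDegree = 3 := by omega
  let c := p.coeff 3
  have hc : c ≠ 0 := by
    intro h
    have := Polynomial.leadingCoeff_ne_zero.2 (show p ≠ 0 by intro h'; rw [h'] at hdp; simp at hdp)
    rw [Polynomial.leadingCoeff, hdp] at this
    exact this h
  obtain ⟨b, hb⟩ : ∃ b, gη hh0 b = z₁ := (int_iff k f hf hdim (j := 0) (l := 1) (by decide) z₁).1 hn₁.mem
  refine ⟨CurveVA.Uc k f 0, hh0, (Proj.isAffineOpen_basicOpen _ _ (ProjPt.X_mem 0) one_pos).preimage f,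
    q.coeff 1, p.coeff 2, c * q.coeff 0, c * p.coeff 1, c ^ 2 * p.coeff 0,
    AModX.resR (le_top : CurveVA.Uc k f 0 ≤ ⊤) (CurveVA.sc k c) * CurveVA.β k f 0 1,
    AModX.resR (le_top : CurveVA.Uc k f 0 ≤ ⊤) (CurveVA.sc k c) * b, ?_⟩
  rw [map_mul, map_mul, gη_sc, hb, show gη hh0 (CurveVA.β k f 0 1) = x from rfl]
  have hcK : algebraMap k X.functionField c ≠ 0 := (map_ne_zero _).2 hc
  refine ⟨?_, ?_, ?_⟩
  · have hpe : Polynomial.aeval x p = algebraMap k X.functionField (p.coeff 0) +
        algebraMap k X.functionField (p.coeff 1) * x + algebraMap k X.functionField (p.coeff 2) * x ^ 2 +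
        algebraMap k X.functionField c * x ^ 3 := by
      conv_lhs => rw [Polynomial.as_sum_range_C_mul_X_pow' p (show p.natDegree < 4 by omega)]
      simp [Finset.sum_range_succ, c]
    have hqe : Polynomial.aeval x q = algebraMap k X.functionField (q.coeff 0) +
        algebraMap k X.functionField (q.coeff 1) * x := by
      conv_lhs => rw [Polynomial.as_sum_range_C_mul_X_pow' q (show q.natDegree < 2 by omega)]
      simp [Finset.sum_range_succ]
    rw [hpe, hqe] at he
    simp only [map_mul, map_pow]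
    linear_combination (algebraMap k X.functionField c) ^ 2 * he
  · intro P Q h
    have key : ∀ r : Polynomial k, Polynomial.aeval (algebraMap k X.functionField c * x) r =
        Polynomial.aeval x (r.comp (Polynomial.C c * Polynomial.X)) := fun r => by
      rw [Polynomial.aeval_comp, map_mul, Polynomial.aeval_C, Polynomial.aeval_X]
    have hinj : ∀ r : Polynomial k, r.comp (Polynomial.C c * Polynomial.X) = 0 → r = 0 := fun r hr => by
      have h := congrArg (fun s => Polynomial.comp s (Polynomial.C c⁻¹ * Polynomial.X)) hr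
      simpa [Polynomial.comp_assoc, ← mul_assoc, ← Polynomial.C_mul, mul_inv_cancel₀ hc] using h
    rw [key, key] at h
    obtain ⟨h1', h2'⟩ := hn₁.indep (P.comp (Polynomial.C c * Polynomial.X))
      (Polynomial.C c * Q.comp (Polynomial.C c * Polynomial.X)) (by
        rw [map_mul, Polynomial.aeval_C]; linear_combination h)
    exact ⟨hinj _ h1', hinj _ ((mul_eq_zero.1 h2').resolve_left (by simpa using hc))⟩
  · intro w
    obtain ⟨P, Q, hw⟩ := hn₁.gen _ ((int_iff k f hf hdim (j := 0) (l := 1) (by decide) _).2 ⟨w, rfl⟩)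
    refine ⟨P.comp (Polynomial.C c⁻¹ * Polynomial.X),
      Polynomial.C c⁻¹ * Q.comp (Polynomial.C c⁻¹ * Polynomial.X), ?_⟩
    have e1 : algebraMap k X.functionField c⁻¹ * algebraMap k X.functionField c = 1 := by
      rw [← map_mul, inv_mul_cancel₀ hc, map_one]
    have key : ∀ r : Polynomial k, Polynomial.aeval (algebraMap k X.functionField c * x)
        (r.comp (Polynomial.C c⁻¹ * Polynomial.X)) = Polynomial.aeval x r := fun r => by
      rw [Polynomial.aeval_comp, map_mul, Polynomial.aeval_C, Polynomial.aeval_X, ← mul_assoc, e1, one_mul]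
    refine hw.trans ?_
    rw [map_mul (Polynomial.aeval (algebraMap k X.functionField c * x)), key, key, Polynomial.aeval_C]
    linear_combination (-(Polynomial.aeval x Q * z₁)) * e1

end Groth.Agent.CurveCover
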