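import Groth.Agent.CurveCover.QuadChart
import Groth.Agent.HypSmooth.Projective
import Groth.Agent.LefPenLib.Change
import Groth.Agent.CurveLuroth.FF

/-! A curve with an affine Weierstrass chart is a Weierstrass cubic. -/

noncomputable section

set_option linter.style.haveILetI false
set_option linter.unusedSectionVars false
set_option backward.isDefEq.respectTransparency false
set_option backward.isDefEq.respectTransparency.types false
set_option autoImplicit false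
set_option maxHeartbeats 2000000

universe u

open CategoryTheory CategoryTheory.Limits AlgebraicGeometry TopologicalSpace Opposite MvPolynomial
open Groth.Agent.CurveCohLib.Polar
open Groth.Agent.H23.PnChart (Idx dh fromChart)

namespace Groth.Agent.CurveCover

attribute [local instance] CurveFF.ffAlg LefPenLib.wAlgebra

variable (k : Type u) [Field k]

/-- The Weierstrass cubic polynomial. -/
def weierPoly (a₁ a₂ a₃ a₄ a₆ : k) : MvPolynomial (Fin (2 + 1)) k :=
  X 1 ^ 2 * X 2 + C a₁ * X 0 * X 1 * X 2 + C a₃ * X 1 * X 2 ^ 2 - X 0 ^ 3 - C a₂ * X 0 ^ 2 * X 2 -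
    C a₄ * X 0 * X 2 ^ 2 - C a₆ * X 2 ^ 3

theorem weierPoly_mem (a₁ a₂ a₃ a₄ a₆ : k) : weierPoly k a₁ a₂ a₃ a₄ a₆ ∈ CohB1.polyGrading 2 k 3 := by
  refine (mem_homogeneousSubmodule 3 _).2 ?_
  unfold weierPoly
  have hX : ∀ i : Fin (2 + 1), (X i : MvPolynomial (Fin (2 + 1)) k).IsHomogeneous 1 := fun i => isHomogeneous_X k i
  have hC : ∀ c : k, (C c : MvPolynomial (Fin (2 + 1)) k).IsHomogeneous 0 := fun c => isHomogeneous_C _ c
  exact (((((((hX 1).pow 2).mul (hX 2)).add ((((hC a₁).mul (hX 0)).mul (hX 1)).mul (hX 2))).add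
    (((hC a₃).mul (hX 1)).mul ((hX 2).pow 2))).sub ((hX 0).pow 3)).sub
    (((hC a₂).mul ((hX 0).pow 2)).mul (hX 2))).sub (((hC a₄).mul (hX 0)).mul ((hX 2).pow 2)) |>.sub
    ((hC a₆).mul ((hX 2).pow 3))

/-- The form. -/
def weierForm (a₁ a₂ a₃ a₄ a₆ : k) : LefPen.Form 2 k 3 := ⟨_, weierPoly_mem k a₁ a₂ a₃ a₄ a₆⟩

/-- A polynomial ring in the two chart coordinates, presented by a point of a chart. -/
theorem exists_chart_equiv {A : Type u} [CommRing A] [Algebra k A] {a₁ a₂ a₃ a₄ a₆ : k} {u v : A}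
    (he : v ^ 2 + algebraMap k A a₁ * u * v + algebraMap k A a₃ * v =
      u ^ 3 + algebraMap k A a₂ * u ^ 2 + algebraMap k A a₄ * u + algebraMap k A a₆)
    (hindep : ∀ p q : Polynomial k, Polynomial.aeval u p + Polynomial.aeval u q * v = 0 → p = 0 ∧ q = 0)
    (hgen : ∀ w : A, ∃ p q : Polynomial k, w = Polynomial.aeval u p + Polynomial.aeval u q * v) :
    ∃ Φ : MvPolynomial (Idx.{0} 2 (2 : Fin (2 + 1))) k →ₐ[k] A, Function.Surjective Φ ∧
      RingHom.ker Φ.toRingHom = Ideal.span {dh.{u, 0} 2 k 2 (weierPoly k a₁ a₂ a₃ a₄ a₆)} := by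
  classical
  let i₀ : Idx.{0} 2 (2 : Fin (2 + 1)) := ⟨⟨0, by decide⟩⟩
  let i₁ : Idx.{0} 2 (2 : Fin (2 + 1)) := ⟨⟨1, by decide⟩⟩
  let g : Fin 2 → Idx.{0} 2 (2 : Fin (2 + 1)) := ![i₀, i₁]
  have hg : Function.Bijective g := by
    refine ⟨fun a b h => ?_, fun ⟨⟨l, hl⟩⟩ => ?_⟩
    · rcases (show ∀ a : Fin 2, a = 0 ∨ a = 1 by decide) a with rfl | rfl <;>
        rcases (show ∀ a : Fin 2, a = 0 ∨ a = 1 by decide) b with rfl | rfl
      all_goals first
        | rfl
        | exact absurd (congrArg (fun x => x.down.1) h) (by simp [g, i₀, i₁])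
    · rcases (show ∀ l : Fin (2 + 1), l = 0 ∨ l = 1 ∨ l = 2 by decide) l with rfl | rfl | rfl
      · exact ⟨0, rfl⟩
      · exact ⟨1, rfl⟩
      · exact absurd rfl hl
  let ρ : MvPolynomial (Fin 2) k ≃ₐ[k] MvPolynomial (Idx.{0} 2 (2 : Fin (2 + 1))) k :=
    renameEquiv k (Equiv.ofBijective g hg)
  let φ : MvPolynomial (Fin 2) k →ₐ[k] A := aeval ![u, v]
  let Q : Polynomial k := Polynomial.C a₁ * Polynomial.X + Polynomial.C a₃
  let P : Polynomial k := Polynomial.X ^ 3 + Polynomial.C a₂ * Polynomial.X ^ 2 + Polynomial.C a₄ * Polynomial.X +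
    Polynomial.C a₆
  let eq : MvPolynomial (Fin 2) k := X 1 ^ 2 + Polynomial.aeval (X 0) Q * X 1 - Polynomial.aeval (X 0) P
  have hdh : ρ eq = dh.{u, 0} 2 k 2 (weierPoly k a₁ a₂ a₃ a₄ a₆) := by
    simp only [eq, P, Q, ρ, weierPoly, dh, renameEquiv_apply, AlgHom.toRingHom_eq_coe, RingHom.coe_coe, map_add,
      map_sub, map_mul, map_pow, Polynomial.aeval_X, Polynomial.aeval_C, aeval_X, rename_X, aeval_C,
      MvPolynomial.algebraMap_eq, rename_C, Equiv.ofBijective_apply]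
    simp only [show g 0 = i₀ from rfl, show g 1 = i₁ from rfl, i₀, i₁, dite_true, dite_false, (by decide : ¬ (1 : Fin (2 + 1)) = 2), (by decide : ¬ (0 : Fin (2 + 1)) = 2), not_false_eq_true]
    ring
  have hφp : ∀ r : Polynomial k, φ (Polynomial.aeval (X 0) r) = Polynomial.aeval u r := fun r => by
    rw [← Polynomial.aeval_algHom_apply]
    simp [φ]
  have hle : Ideal.span {eq} ≤ RingHom.ker φ.toRingHom := (Ideal.span_singleton_le_iff_mem _).2 <|
    RingHom.mem_ker.2 <| by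
    show φ eq = 0
    simp only [eq, map_sub, map_add, map_mul, map_pow, hφp]
    simp only [φ, aeval_X, P, Q, map_add, map_mul, map_pow, Polynomial.aeval_X, Polynomial.aeval_C,
      Matrix.cons_val_one, Matrix.cons_val_fin_one, Matrix.cons_val_zero]
    linear_combination he
  have hker : RingHom.ker φ.toRingHom = Ideal.span {eq} := by
    refine le_antisymm (fun F hF => ?_) hle
    obtain ⟨b, c, hF'⟩ := exists_linear_mod k P Q F
    have h2 := RingHom.mem_ker.1 (hle hF')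
    change φ (F - _) = 0 at h2
    rw [map_sub, show φ F = 0 from hF, zero_sub, neg_eq_zero, map_add, map_mul, hφp, hφp] at h2
    simp only [φ, aeval_X, Matrix.cons_val_one, Matrix.cons_val_fin_one] at h2
    obtain ⟨hb, hc⟩ := hindep b c h2
    rw [hb, hc, map_zero, zero_mul, add_zero, sub_zero] at hF'
    exact hF'
  have hsurj : Function.Surjective φ := fun w => by
    obtain ⟨p, q, rfl⟩ := hgen w
    exact ⟨Polynomial.aeval (X 0) p + Polynomial.aeval (X 0) q * X 1, by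
      rw [map_add, map_mul, hφp, hφp]; simp [φ]⟩
  refine ⟨φ.comp ρ.symm.toAlgHom, hsurj.comp ρ.symm.surjective, ?_⟩
  rw [show (φ.comp ρ.symm.toAlgHom).toRingHom = φ.toRingHom.comp ρ.symm.toAlgHom.toRingHom from rfl, ← RingHom.comap_ker,
    hker, ← hdh]
  show Ideal.comap ρ.symm.toAlgHom.toRingHom (Ideal.span {eq}) = _
  ext w
  rw [Ideal.mem_comap, Ideal.mem_span_singleton, Ideal.mem_span_singleton]
  constructor
  · rintro ⟨t, ht⟩
    exact ⟨ρ t, by rw [← map_mul, ← ht]; exact (ρ.apply_symm_apply w).symm⟩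
  · rintro ⟨t, rfl⟩
    exact ⟨ρ.symm t, by simp⟩

theorem hcoord {X : Scheme.{u}} (ι : X ⟶ CohB1.ProjSpace 2 k) (a b : Fin (2 + 1)) :
    X.basicOpen (LefPenLib.pullPoly ι a (MvPolynomial.X b)) =
      ι ⁻¹ᵁ (LefPen.chart 2 k a ⊓ LefPen.chart 2 k b) := by
  have hyeq : LefPenLib.pullPoly ι a (MvPolynomial.X b) = ι.app (LefPen.chart 2 k a)
      ((Proj.awayToSection (CohB1.polyGrading 2 k) (MvPolynomial.X a)).hom (ZetaLib.coord 2 k a b)) := by
    show ι.app _ ((Proj.awayToSection _ _).hom (ZetaLib.dehom 2 k a (MvPolynomial.X b))) = _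
    rw [ZetaLib.dehom, MvPolynomial.eval₂Hom_X']
  rw [hyeq, ← Scheme.preimage_basicOpen, LefPenLib.basicOpen_coord]

variable {a₁ a₂ a₃ a₄ a₆ : k}

theorem weier_ne_zero : (weierForm k a₁ a₂ a₃ a₄ a₆).1 ≠ 0 := fun h => by
  have h1 := congrArg (MvPolynomial.eval ![(1 : k), 0, 0]) h
  simp [weierForm, weierPoly] at h1

local notation "𝓘" => LefPen.hypIdeal (weierForm k a₁ a₂ a₃ a₄ a₆)
local notation "Vw" => Scheme.IdealSheafData.subscheme 𝓘
local notation "ιV" => Scheme.IdealSheafData.subschemeι 𝓘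
local notation "w" => LefPenLib.wOpen ιV

theorem pullPoly_weier (i : Fin (2 + 1)) :
    LefPenLib.pullPoly ιV i (weierForm k a₁ a₂ a₃ a₄ a₆).1 = 0 := by
  rw [← HypSmooth.chartMap_dh]
  have h : dh.{u, 0} 2 k i (weierForm k a₁ a₂ a₃ a₄ a₆).1 ∈
      RingHom.ker (HypSmooth.chartMap (weierForm k a₁ a₂ a₃ a₄ a₆) i).toRingHom := by
    rw [HypSmooth.ker_chartMap]
    exact Ideal.mem_span_singleton_self _
  exact h

theorem mem_chart_one (x : Vw) (hx : x ∉ w 2) : x ∈ w 1 := by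
  obtain ⟨i, hi⟩ := Opens.mem_iSup.1 ((HypSmooth.iSup_wOpen (weierForm k a₁ a₂ a₃ a₄ a₆)).ge (Set.mem_univ x))
  rcases (show ∀ l : Fin (2 + 1), l = 0 ∨ l = 1 ∨ l = 2 by decide) i with rfl | rfl | rfl
  · exfalso
    let ev : Γ(Vw, w 0) →+* Scheme.residueField Vw x :=
      (Scheme.residue Vw x).hom.comp ((LefPen.hypIdeal (weierForm k a₁ a₂ a₃ a₄ a₆)).subscheme.presheaf.germ (w 0) x hi).hom
    have h2 : ev (LefPenLib.pullPoly ιV 0 (X 2)) = 0 := by
      refine (IsLocalRing.residue_eq_zero_iff _).2 ((IsLocalRing.mem_maximalIdeal _).2 fun hu => hx ?_)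
      have h3 : x ∈ Scheme.basicOpen Vw (LefPenLib.pullPoly ιV 0 (X 2)) := (Scheme.mem_basicOpen _ _ x hi).2 hu
      rw [hcoord] at h3
      exact h3.2
    have h := congrArg ev (pullPoly_weier k (a₁ := a₁) (a₂ := a₂) (a₃ := a₃) (a₄ := a₄) (a₆ := a₆) 0)
    rw [show (weierForm k a₁ a₂ a₃ a₄ a₆).1 = weierPoly k a₁ a₂ a₃ a₄ a₆ from rfl, weierPoly] at h
    simp only [map_add, map_sub, map_mul, map_pow, LefPenLib.pullPoly_X_self, h2, map_one, map_zero] at h
    simp at h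
  · exact hi
  · exact absurd hi hx

theorem not_dvd_chart_one :
    ¬ (X (⟨⟨2, by decide⟩⟩ : Idx.{0} 2 (1 : Fin (2 + 1)))) ∣ dh.{u, 0} 2 k 1 (weierPoly k a₁ a₂ a₃ a₄ a₆) := by
  rintro ⟨t, ht⟩
  have h := congrArg (aeval (R := k) fun j : Idx.{0} 2 (1 : Fin (2 + 1)) => if j.down.1 = 0 then (1 : k) else 0) ht
  rw [HypSmooth.aeval_dh, map_mul, aeval_X] at h
  simp [weierPoly] at h

theorem mem_closure_chart_two [AlgebraicGeometry.IsReduced Vw] (x : Vw) : x ∈ closure ((w 2 : Opens _) : Set Vw) := by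
  by_cases hx : x ∈ w 2
  · exact subset_closure hx
  have hx1 := mem_chart_one k x hx
  rw [mem_closure_iff]
  intro o ho hxo
  by_contra hne
  let G := weierForm k a₁ a₂ a₃ a₄ a₆
  have hA : IsAffineOpen (w 1) := LefPenLib.isAffine_wOpen _ 1
  obtain ⟨g, hgo, hxg⟩ := hA.exists_basicOpen_le (V := ⟨o, ho⟩) ⟨x, hxo⟩ hx1
  let z := LefPenLib.pullPoly ιV 1 (X 2)
  have hbot : Scheme.basicOpen Vw (g * z) = ⊥ := by
    refine (Opens.not_nonempty_iff_eq_bot _).1 fun ⟨y, hy⟩ => hne ⟨y, ?_⟩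
    rw [Scheme.basicOpen_mul, hcoord] at hy
    exact ⟨hgo hy.1, hy.2.2⟩
  have hz0 : g * z = 0 := eq_zero_of_basicOpen_eq_bot _ hbot
  have hg0 : g = 0 := by
    obtain ⟨p, rfl⟩ := HypSmooth.chartMap_surjective G 1 g
    let zc : Idx.{0} 2 (1 : Fin (2 + 1)) := ⟨⟨2, by decide⟩⟩
    have hz : HypSmooth.chartMap G 1 (X zc) = z := by
      rw [HypSmooth.chartMap, aeval_X]
    have hmem : p * X zc ∈ RingHom.ker (HypSmooth.chartMap G 1).toRingHom := by
      show HypSmooth.chartMap G 1 (p * X zc) = 0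
      rw [map_mul, hz, hz0]
    rw [HypSmooth.ker_chartMap, Ideal.mem_span_singleton] at hmem
    obtain ⟨t, ht⟩ := hmem
    obtain ⟨t', rfl⟩ := ((MvPolynomial.X_prime (R := k) (i := zc)).dvd_or_dvd
      (⟨p, by rw [← ht, mul_comm]⟩ : X zc ∣ dh.{u, 0} 2 k 1 G.1 * t)).resolve_left (not_dvd_chart_one k)
    have hp : p = dh.{u, 0} 2 k 1 G.1 * t' :=
      mul_right_cancel₀ (MvPolynomial.X_ne_zero zc) (ht.trans (by show dh.{u, 0} 2 k 1 G.1 * (X zc * t') = _; ring))
    have hk : dh.{u, 0} 2 k 1 G.1 * t' ∈ RingHom.ker (HypSmooth.chartMap G 1).toRingHom := by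
      rw [HypSmooth.ker_chartMap]; exact Ideal.mul_mem_right _ _ (Ideal.mem_span_singleton_self _)
    rw [hp]; exact hk
  rw [hg0, Scheme.basicOpen_zero] at hxg
  exact hxg

theorem smooth_weier
    (hU : Algebra.Smooth k (MvPolynomial (Idx.{0} 2 (2 : Fin (2 + 1))) k ⧸
      Ideal.span {dh.{u, 0} 2 k 2 (weierPoly k a₁ a₂ a₃ a₄ a₆)})) :
    Smooth (ιV ≫ CohB1.ProjSpace.toSpec 2 k) := by
  classical
  let G := weierForm k a₁ a₂ a₃ a₄ a₆
  rw [HypSmooth.smooth_hyp_iff G (weier_ne_zero k) (AlgebraicClosure k)]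
  intro v hv h0
  by_cases hz : v 2 = 0
  · have hx : v 0 = 0 := by
      simp only [G, weierForm, weierPoly, map_sub, map_add, map_mul, map_pow, aeval_X, hz] at h0
      simpa using h0
    have hy : v 1 ≠ 0 := fun hy => hv (funext fun l => by
      rcases (show ∀ l : Fin (2 + 1), l = 0 ∨ l = 1 ∨ l = 2 by decide) l with rfl | rfl | rfl <;> assumption)
    refine ⟨2, ?_⟩
    simp [G, weierForm, weierPoly, pderiv_X, hz, hx, hy]
  · have htop := (HypSmooth.smooth_iff _ (HypSmooth.dh_ne_zero 2 (weier_ne_zero k))).1 hU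
    by_contra! hall
    let w' : Idx.{0} 2 (2 : Fin (2 + 1)) → AlgebraicClosure k := fun j => (v 2)⁻¹ * v j.down.1
    have hw : (fun l => if h : l = 2 then 1 else w' ⟨⟨l, h⟩⟩) = fun l => (v 2)⁻¹ * v l := by
      funext l
      by_cases h : l = 2
      · subst h; rw [dif_pos rfl, inv_mul_cancel₀ hz]
      · rw [dif_neg h]
    have hGh : G.1.IsHomogeneous 3 := (mem_homogeneousSubmodule 3 _).1 G.2
    have hle : HypSmooth.singIdeal (dh.{u, 0} 2 k 2 G.1) ≤ RingHom.ker (aeval w').toRingHom := by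
      refine sup_le (Ideal.span_le.2 ?_) (Ideal.span_le.2 ?_)
      · rw [Set.singleton_subset_iff]
        show aeval w' _ = 0
        rw [HypSmooth.aeval_dh, hw, HypSmooth.aeval_smul_of_isHomogeneous hGh, h0, mul_zero]
      · rintro _ ⟨j, rfl⟩
        show aeval w' (pderiv j _) = 0
        rw [HypSmooth.pderiv_dh, HypSmooth.aeval_dh, hw, HypSmooth.aeval_smul_of_isHomogeneous hGh.pderiv, hall,
          mul_zero]
    rw [htop, top_le_iff] at hle
    exact RingHom.ker_ne_top _ hle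

end Groth.Agent.CurveCover

namespace Groth.Agent.CurveCover

attribute [local instance] CurveFF.ffAlg LefPenLib.wAlgebra

/-- A curve containing an affine Weierstrass curve is the cubic. -/
theorem exists_iso_weier (k : Type u) [Field k] {E : Scheme.{u}} [E.Over (Spec (CommRingCat.of k))]
    [IsIntegral E] [IsProper (E ↘ Spec (CommRingCat.of k))] [Smooth (E ↘ Spec (CommRingCat.of k))]
    (hdim : topologicalKrullDim E = 1) (U : E.Opens) (hη : genericPoint E ∈ U) (hU : IsAffineOpen U)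
    {a₁ a₂ a₃ a₄ a₆ : k} (u v : Γ(E, U))
    (he : (gη hη v) ^ 2 + algebraMap k E.functionField a₁ * gη hη u * gη hη v +
        algebraMap k E.functionField a₃ * gη hη v =
      (gη hη u) ^ 3 + algebraMap k E.functionField a₂ * (gη hη u) ^ 2 + algebraMap k E.functionField a₄ * gη hη u +
        algebraMap k E.functionField a₆)
    (hindep : ∀ p q : Polynomial k, Polynomial.aeval (gη hη u) p + Polynomial.aeval (gη hη u) q * gη hη v = 0 →
        p = 0 ∧ q = 0)
    (hgen : ∀ w : Γ(E, U), ∃ p q : Polynomial k,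
        gη hη w = Polynomial.aeval (gη hη u) p + Polynomial.aeval (gη hη u) q * gη hη v) :
    ∃ e : E ≅ (LefPen.hypIdeal (weierForm k a₁ a₂ a₃ a₄ a₆)).subscheme,
      e.hom ≫ (LefPen.hypIdeal (weierForm k a₁ a₂ a₃ a₄ a₆)).subschemeι ≫ CohB1.ProjSpace.toSpec 2 k =
        E ↘ Spec (CommRingCat.of k) := by
  classical
  let f := E ↘ Spec (CommRingCat.of k)
  letI : Algebra k Γ(E, U) := (SmoothReg.affMap f U).toAlgebra
  have hc : ∀ c : k, gη hη (algebraMap k Γ(E, U) c) = algebraMap k E.functionField c := fun c => by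
    refine (congrArg (gη hη) ?_).trans (gη_sc k hη c)
    show (f.appLE ⊤ U _).hom _ = E.presheaf.map (homOfLE (le_top : U ≤ ⊤)).op (E.presheaf.map (𝟙 (op ⊤)) _)
    rw [CategoryTheory.Functor.map_id]
    rfl
  let χ : Γ(E, U) →ₐ[k] E.functionField := { gη hη with commutes' := hc }
  have hχ : Function.Injective χ := gη_injective hη
  obtain ⟨Φ, hΦ, hΦk⟩ := exists_chart_equiv k (u := u) (v := v) (a₁ := a₁) (a₂ := a₂) (a₃ := a₃) (a₄ := a₄) (a₆ := a₆)
    (hχ (by simp only [map_add, map_mul, map_pow, AlgHom.commutes]; exact he))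
    (fun p q h => hindep p q (by
      have h' := congrArg χ h
      rw [map_add, map_mul, map_zero, ← Polynomial.aeval_algHom_apply, ← Polynomial.aeval_algHom_apply] at h'
      exact h'))
    (fun x => by
      obtain ⟨p, q, h⟩ := hgen x
      refine ⟨p, q, hχ ?_⟩
      rw [map_add, map_mul, ← Polynomial.aeval_algHom_apply, ← Polynomial.aeval_algHom_apply]
      exact h)
  let G := weierForm k a₁ a₂ a₃ a₄ a₆
  let Y := (LefPen.hypIdeal G).subscheme
  let s : Y ⟶ Spec (CommRingCat.of k) := (LefPen.hypIdeal G).subschemeι ≫ CohB1.ProjSpace.toSpec 2 k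
  letI : Y.Over (Spec (CommRingCat.of k)) := ⟨s⟩
  let W₂ : Y.Opens := LefPenLib.wOpen (LefPen.hypIdeal G).subschemeι 2
  have hW : IsAffineOpen W₂ := LefPenLib.isAffine_wOpen _ 2
  let eq₁ : (MvPolynomial (Idx.{0} 2 (2 : Fin (2 + 1))) k ⧸ Ideal.span {dh.{u, 0} 2 k 2 G.1}) ≃ₐ[k] Γ(E, U) :=
    (Ideal.quotientEquivAlgOfEq k hΦk.symm).trans (Ideal.quotientKerAlgEquivOfSurjective hΦ)
  let eq₂ : (MvPolynomial (Idx.{0} 2 (2 : Fin (2 + 1))) k ⧸ Ideal.span {dh.{u, 0} 2 k 2 G.1}) ≃ₐ[k] Γ(Y, W₂) :=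
    (Ideal.quotientEquivAlgOfEq k (HypSmooth.ker_chartMap G 2).symm).trans
      (Ideal.quotientKerAlgEquivOfSurjective (HypSmooth.chartMap_surjective G 2))
  -- smoothness
  haveI : Algebra.Smooth k Γ(E, U) := by
    have hb : (Scheme.ΓSpecIso (CommRingCat.of k)).inv.hom.Smooth :=
      RingHom.Smooth.of_bijective (ConcreteCategory.bijective_of_isIso (Scheme.ΓSpecIso (CommRingCat.of k)).inv)
    exact RingHom.smooth_algebraMap.1 (RingHom.Smooth.stableUnderComposition _ _ hb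
      (HasRingHomProperty.appLE (P := @Smooth) f inferInstance ⟨⊤, isAffineOpen_top _⟩ ⟨U, hU⟩ (by simp)))
  haveI hsm : Smooth s := smooth_weier k (Algebra.Smooth.of_equiv eq₁.symm)
  haveI : IsProper s := by
    haveI := PnCoh.Chow.isProper_toSpec 2 k
    infer_instance
  haveI : IsProper (Y ↘ Spec (CommRingCat.of k)) := ‹IsProper s›
  haveI : Smooth (Y ↘ Spec (CommRingCat.of k)) := hsm
  haveI : AlgebraicGeometry.IsReduced Y := GrpSchLib.isReduced_of_smooth_field s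
  -- the common chart
  let e' : Γ(E, U) ≃ₐ[k] Γ(Y, W₂) := eq₁.symm.trans eq₂
  let ρ : Γ(Y, W₂) ≅ Γ(E, U) := e'.symm.toRingEquiv.toCommRingCatIso
  let j : (↑U : Scheme.{u}) ≅ ↑W₂ := hU.isoSpec ≪≫ Scheme.Spec.mapIso ρ.op ≪≫ hW.isoSpec.symm
  have hj : j.hom ≫ W₂.ι ≫ s = U.ι ≫ f := by
    rw [ι_comp_eq, ι_comp_eq]
    show (U.toSpecΓ ≫ Spec.map ρ.hom ≫ hW.isoSpec.inv) ≫ W₂.toSpecΓ ≫ _ = _
    simp only [Category.assoc]
    rw [← Category.assoc hW.isoSpec.inv, IsAffineOpen.isoSpec_inv_toSpecΓ, Category.id_comp, ← Spec.map_comp]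
    refine congrArg (fun g => U.toSpecΓ ≫ Spec.map g) ?_
    ext c
    exact e'.symm.commutes c
  haveI : Nonempty U := ⟨⟨_, hη⟩⟩
  haveI : Nonempty (↑U : Scheme.{u}) := ⟨⟨_, hη⟩⟩
  haveI : IsIntegral (↑U : Scheme.{u}) := isIntegral_of_isOpenImmersion U.ι
  haveI : IrreducibleSpace Y := by
    have hir : IsIrreducible (Set.range (j.hom ≫ W₂.ι)) := by
      rw [← Set.image_univ]
      exact (IrreducibleSpace.isIrreducible_univ _).image _ (Scheme.Hom.continuous _).continuousOn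
    have hr : Set.range (j.hom ≫ W₂.ι) = (W₂ : Set Y) := by
      rw [Scheme.Hom.comp_base, TopCat.coe_comp, Function.Surjective.range_comp (j.hom.surjective : Function.Surjective j.hom),
        Scheme.Opens.range_ι]
    rw [hr] at hir
    have h := hir.closure
    rw [Set.eq_univ_of_forall (mem_closure_chart_two k)] at h
    exact irreducibleSpace_def _ |>.2 h
  haveI : IsIntegral Y := isIntegral_of_irreducibleSpace_of_isReduced Y
  have hY := genericPoint_eq_of_isOpenImmersion (j.hom ≫ W₂.ι)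
  have hE := genericPoint_eq_of_isOpenImmersion U.ι
  have hdY : topologicalKrullDim Y = 1 := by
    rw [VarDim.topologicalKrullDim_eq_deg_genericPoint s, ← hY]
    rw [← VarDim.deg_comp s (j.hom ≫ W₂.ι) (genericPoint (↑U : Scheme.{u}))]
    simp only [Category.assoc, hj]
    rw [VarDim.deg_comp f U.ι, hE, ← VarDim.topologicalKrullDim_eq_deg_genericPoint f, hdim]
  obtain ⟨u₁, hu₁, hi₁⟩ := CurveLuroth.exists_pull f U.ι hE
  obtain ⟨u₂, hu₂, hi₂⟩ := CurveLuroth.exists_pull s (j.hom ≫ W₂.ι) hY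
  haveI := hi₁ inferInstance
  haveI := hi₂ inferInstance
  have hval : ∀ (Z : Scheme.{u}) [Z.Over (Spec (CommRingCat.of k))] [IsIntegral Z]
      [IsProper (Z ↘ Spec (CommRingCat.of k))] [Smooth (Z ↘ Spec (CommRingCat.of k))],
      topologicalKrullDim Z = 1 → ∀ z : Z, ValuationRing (Z.presheaf.stalk z) := fun Z _ _ _ _ hZ =>
    CurveLuroth.valuationRing_stalk (k := k) hZ fun z _ =>
      (Neron6.isNormalScheme_of_smooth (Z ↘ Spec (CommRingCat.of k)) FrobTwist.isNormalScheme_Spec z).2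
  refine CurveLuroth.exists_iso_of_functionField f s (hval E hdim) (hval Y hdY) (asIso u₁ ≪≫ (asIso u₂).symm) ?_
  show CurveLuroth.ffC f ≫ u₁ ≫ inv u₂ = _
  rw [← Category.assoc, hu₁, IsIso.comp_inv_eq, hu₂]
  congr 1
  rw [Category.assoc]
  exact hj.symm

end Groth.Agent.CurveCover
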